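import Cfsg.Agent.JThreeRecog.Positions

/-!
A certificate on the tables of the model.
-/

set_option autoImplicit false
set_option maxRecDepth 100000
set_option linter.all false

namespace Cfsg.Agent.JThreeRecog

open HallJanko Equiv

theorem conj_ok : ((List.range 1920).all fun n =>
    decide (conjN n < 1920 ∧ tmul (dec (conjN n)) (repT (clsN n)) = tmul (dec n) (dec (conjN n)))) = true := by
  decide +kernel

theorem reps_ok : ((List.range 16).all fun c => decide (clsT (repT c) = c)) = true := by decide +kernel

theorem gens_ok : (genT.all fun g => decide (tmul g.1 g.2 = tone)) = true := by decide +kernel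

end Cfsg.Agent.JThreeRecog
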