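import Cfsg.Agent.JThreeRecog.Positions

/-!
A certificate on the tables of the model.
-/

set_option autoImplicit false
set_option maxRecDepth 100000
set_option linter.all false

namespace Cfsg.Agent.JThreeRecog

open HallJanko Equiv

theorem inv_gen1 : ((List.range 1920).all fun n =>
    decide (clsT (tmul (tmul (dec 480) (dec n)) (tmul (dec 480) (dec 480))) = clsN n)) = true := by
  decide +kernel

end Cfsg.Agent.JThreeRecog
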