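import Cfsg.Agent.JThreeRecog.Positions

/-!
A certificate on the tables of the model.
-/

set_option autoImplicit false
set_option maxRecDepth 100000
set_option linter.all false

namespace Cfsg.Agent.JThreeRecog

open HallJanko Equiv

theorem inv_gen2 : ((List.range 1920).all fun n =>
    decide (clsT (tmul (tmul (dec 1024) (dec n))
      (tmul (tmul (dec 1024) (dec 1024)) (tmul (dec 1024) (dec 1024)))) = clsN n)) = true := by
  decide +kernel

theorem size_ok : ((List.range 16).all fun c =>
    decide (((List.range 1920).filter fun n => clsN n == c).length = Data.sizes.getD c 0)) = true := by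
  decide +kernel

theorem gen_vals : dec 8 = toT (SemidirectProduct.inl (M.e 0)) ∧ dec 480 = toT (SemidirectProduct.inr ax) ∧
    dec 1024 = toT (SemidirectProduct.inr ay) := by
  decide +kernel

end Cfsg.Agent.JThreeRecog
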