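import Cfsg.Agent.JThreeRecog.Positions

/-!
A certificate on the tables of the model.
-/

set_option autoImplicit false
set_option maxRecDepth 100000
set_option linter.all false

namespace Cfsg.Agent.JThreeRecog

open HallJanko Equiv

theorem pos_dec : ∀ σ : A5, ∀ m : M, pos (m, toP σ) < 1920 ∧ dec (pos (m, toP σ)) = (m, toP σ) := by
  decide +kernel

theorem dec_surj' : (Data.perms.all fun p => decide (∃ σ : A5, toP σ = p)) = true := by decide +kernel

theorem perms_length : Data.perms.length = 60 := by decide +kernel

theorem pos_dec_n : ((List.range 1920).all fun n => pos (dec n) == n && Nat.blt (clsN n) 16) = true := by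
  decide +kernel

end Cfsg.Agent.JThreeRecog
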