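import Cfsg.Agent.JThreeRecog.Theta

/-!
Properties of the seven class functions and of the classes of two-elements of the model.
-/

set_option autoImplicit false
set_option maxRecDepth 100000
set_option linter.all false

namespace Cfsg.Agent.JThreeRecog

open scoped ComplexConjugate
open HallJanko Equiv

/-- Powers of a tuple. -/
def tpow (t : T) : ℕ → T
  | 0 => tone
  | n + 1 => tmul (tpow t n) t

/-- The exponent of the central involution in a special class. -/
def zexp (c : ℕ) : ℕ := [0, 0, 0, 0, 0, 0, 6, 4, 0, 0, 5, 2, 3, 0, 5, 1].getD c 0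

/-- The Gram matrix. -/
def gram (i j : Fin 7) : ℤ :=
  (![![3, -1, 0, 1, 0, 1, -1], ![-1, 3, 0, -1, 0, -1, 1], ![0, 0, 3, -1, -1, -1, 0], ![1, -1, -1, 4, -1, 0, 1],
    ![0, 0, -1, -1, 4, 0, -1], ![1, -1, -1, 0, 0, 5, 0], ![-1, 1, 0, 1, -1, 0, 6]] : Fin 7 → Fin 7 → ℤ) i j

/-- The multiplicities of the trivial character. -/
def triv : Fin 7 → ℤ := ![0, 0, 0, 1, 0, 0, 1]

/-- The combination isolating the central involution. -/
def coefV : Fin 7 → ℤ := ![2, -2, 11, -9, 15, -5, 10]

/-- The combination isolating the square roots of the central involution. -/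
def coefU : Fin 7 → ℤ := ![-2, 2, -1, 3, 3, -1, -2]

/-- The combination isolating the elements of order eight. -/
def coefE : Fin 7 → ℤ := ![0, 0, 1, 1, 1, 1, 0]

theorem tab_support : ((List.range 16).all fun c =>
    (List.range 7).all (fun i => thTab i c == (0, 0)) || decide (tpow (repT c) (zexp c) = tz)) = true := by
  decide +kernel

theorem tab_one : ((List.range 7).all fun i => thTab i (clsT tone) == (0, 0)) = true := by decide +kernel

theorem tab_gram : ∀ i j : Fin 7, (∑ c ∈ Finset.range 16,
    Data.sizes.getD c 0 • rmul (thTab i.val c) (thTab j.val c)) = (1920 * gram i j, 0) := by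
  decide +kernel

theorem tab_triv : ∀ i : Fin 7, (∑ c ∈ Finset.range 16, Data.sizes.getD c 0 • thTab i.val c) = (1920 * triv i, 0) := by
  decide +kernel

theorem tab_V : ∀ c < 16, (∑ i : Fin 7, rmul (coefV i, 0) (thTab i.val c)) = (if c = 15 then (1920, 0) else 0) := by
  decide +kernel

theorem tab_U : ∀ c < 16, (∑ i : Fin 7, rmul (coefU i, 0) (thTab i.val c)) = (if c = 11 then (96, 0) else 0) := by
  decide +kernel

theorem tab_E : ∀ c < 16, (∑ i : Fin 7, rmul (coefE i, 0) (thTab i.val c)) = (if c = 7 then (8, 0) else 0) := by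
  decide +kernel

theorem cls_sq : ((List.range 1920).all fun n =>
    decide ((tmul (dec n) (dec n) = tone ∧ dec n ≠ tone) ↔ (clsN n = 2 ∨ clsN n = 5 ∨ clsN n = 15)) &&
    decide (tmul (dec n) (dec n) = tz ↔ clsN n = 11) && decide (tmul (dec n) (dec n) ≠ repT 7)) = true := by
  decide +kernel

theorem sq_classes : decide (clsT (tmul (repT 13) (repT 13)) = 5 ∨ clsT (tmul (repT 13) (repT 13)) = 2 ∨
    clsT (tmul (repT 13) (repT 13)) = 15) = true ∧ clsT tz = 15 ∧ tpow (repT 11) 2 = tz ∧ tpow (repT 7) 4 = tz ∧
    ((List.range 1920).filter fun n => tmul (dec n) (dec n) == repT 11).length = 12 := by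
  decide +kernel

/-- The position belongs to the Sylow subgroup. -/
def inS (t : T) : Bool := decide (ev t.2 4 = 4) && decide (pmul t.2 t.2 = (0, 1, 2, 3, 4))

theorem syl_count : (((List.range 1920).filter fun n => inS (dec n)).length = 128) ∧
    (((List.range 1920).filter fun n => inS (dec n) && (clsN n == 0)).length = 1) ∧
    (((List.range 1920).filter fun n => inS (dec n) && (clsN n == 2 || clsN n == 5 || clsN n == 15)).length = 35) ∧
    (((List.range 1920).filter fun n => inS (dec n) && (clsN n == 11 || clsN n == 13)).length = 44) ∧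
    (((List.range 1920).filter fun n => inS (dec n) && (clsN n == 7)).length = 48) ∧
    clsT tone = 0 ∧ ((List.range 1920).filter fun n => clsN n == 0).length = 1 := by
  decide +kernel

theorem syl_mul : ∀ σ τ : A5, inS (1, toP σ) = true → inS (1, toP τ) = true → inS (1, toP (σ * τ)) = true := by
  decide +kernel

theorem syl_classes : ((List.range 1920).all fun n => !inS (dec n) ||
    (clsN n == 0 || (clsN n == 2 || clsN n == 5 || clsN n == 15) || (clsN n == 11 || clsN n == 13) || clsN n == 7)) =
      true := by
  decide +kernel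

theorem pair_sum : ([2, 5, 15] : List ℕ).all (fun c => decide (
    (((List.range 1920).filter fun n => clsN n == 2 || clsN n == 5 || clsN n == 15).map fun n =>
      thTab 3 (clsT (tmul (repT c) (dec n)))).sum = ((([112, 176, 0] : List ℤ).getD
        (if c = 2 then 0 else if c = 5 then 1 else 2) 0), 0))) = true := by
  decide +kernel

end Cfsg.Agent.JThreeRecog
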