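import Cfsg.Agent.JThreeRecog.CertPos
import Cfsg.Agent.JThreeRecog.CertConj
import Cfsg.Agent.JThreeRecog.CertInvA
import Cfsg.Agent.JThreeRecog.CertInvB
import Cfsg.Agent.JThreeRecog.CertInvC
import Cfsg.Agent.Char.Ortho

/-!
The sixteen classes of the model, read from the tables.
-/

set_option autoImplicit false
set_option maxRecDepth 100000
set_option linter.all false

namespace Cfsg.Agent.JThreeRecog

open HallJanko Equiv

theorem dec_eq (w : W) : pos (toT w) < 1920 ∧ dec (pos (toT w)) = toT w := pos_dec w.right w.left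

theorem dec_surj {n : ℕ} (hn : n < 1920) : ∃ w : W, toT w = dec n := by
  have hlt : n / 32 < Data.perms.length := by rw [perms_length]; omega
  obtain ⟨σ, hσ⟩ := of_decide_eq_true (List.all_eq_true.1 dec_surj' _ (List.getElem_mem hlt))
  refine ⟨⟨(dec n).1, σ⟩, Prod.ext rfl ?_⟩
  show toP σ = Data.perms.getD (n / 32) _
  rw [hσ, List.getD_eq_getElem _ _ hlt]

theorem clsN_lt {n : ℕ} (hn : n < 1920) : clsN n < 16 := by
  have := List.all_eq_true.1 pos_dec_n n (List.mem_range.2 hn)
  simp only [Bool.and_eq_true, Nat.blt_eq] at this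
  exact this.2

theorem pos_of_dec {n : ℕ} (hn : n < 1920) : pos (dec n) = n := by
  have := List.all_eq_true.1 pos_dec_n n (List.mem_range.2 hn)
  simp only [Bool.and_eq_true, beq_iff_eq] at this
  exact this.1

theorem cls_lt (w : W) : cls w < 16 := clsN_lt (dec_eq w).1

theorem exists_rep {c : ℕ} (hc : c < 16) : ∃ w : W, toT w = repT c ∧ cls w = c := by
  have h1920 : Data.reps.getD c 0 < 1920 := by
    have : ((List.range 16).all fun c => Nat.blt (Data.reps.getD c 0) 1920) = true := by decide +kernel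
    simpa [Nat.blt_eq] using List.all_eq_true.1 this c (List.mem_range.2 hc)
  obtain ⟨w, hw⟩ := dec_surj h1920
  refine ⟨w, hw, ?_⟩
  rw [cls, hw]
  exact of_decide_eq_true (List.all_eq_true.1 reps_ok c (List.mem_range.2 hc))

theorem isConj_rep (w : W) {r : W} (hr : toT r = repT (cls w)) : IsConj r w := by
  obtain ⟨h1, h2⟩ := dec_eq w
  obtain ⟨hc1, hc2⟩ := of_decide_eq_true (List.all_eq_true.1 conj_ok _ (List.mem_range.2 h1))
  obtain ⟨c, hc⟩ := dec_surj hc1
  rw [h2, ← hc, show repT (clsN (pos (toT w))) = toT r from hr.symm, ← toT_mul, ← toT_mul] at hc2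
  exact isConj_iff.2 ⟨c, by rw [toT_injective hc2, mul_inv_cancel_right]⟩

theorem gen_top (H : Subgroup W) (h0 : SemidirectProduct.inl (M.e 0) ∈ H)
    (hx : SemidirectProduct.inr ax ∈ H) (hy : SemidirectProduct.inr ay ∈ H) : H = ⊤ := by
  have hA : ∀ σ : A5, SemidirectProduct.inr σ ∈ H := by
    intro σ
    obtain ⟨j, i, rfl⟩ := ax_ay σ
    rw [map_mul, map_pow, map_list_prod, List.map_map]
    refine mul_mem (pow_mem hy _) (Subgroup.list_prod_mem _ fun w hw => ?_)
    obtain ⟨b, -, rfl⟩ := List.mem_map.1 hw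
    cases b
    · exact hy
    · exact hx
  have he : ∀ i : Fin 5, SemidirectProduct.inl (M.e i) ∈ H := fun i => by
    obtain ⟨g, hg, hgi⟩ := M.even_trans 0 i
    have := mul_mem (mul_mem (hA ⟨g, hg⟩) h0) (hA ⟨g, hg⟩⁻¹)
    rwa [← SemidirectProduct.inl_aut, permAct_e, show ((⟨g, hg⟩ : A5) : Perm (Fin 5)) 0 = i from hgi] at this
  have hz : SemidirectProduct.inl M.zM ∈ H := by
    rw [show M.zM = M.e 0 * M.e 1 * (M.e 0 * M.e 1) by decide +kernel, map_mul, map_mul]
    exact mul_mem (mul_mem (he 0) (he 1)) (mul_mem (he 0) (he 1))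
  have hM : ∀ m : M, SemidirectProduct.inl m ∈ H := fun m => by
    rw [M.decomp m]
    simp only [map_mul]
    refine mul_mem (mul_mem (mul_mem (mul_mem ?_ ?_) ?_) ?_) ?_
    · rcases z2_cases m.a with q | q <;> rw [q]
      · rw [M.zp_zero, map_one]; exact one_mem H
      · exact hz
    all_goals split_ifs <;> first | exact he _ | (rw [map_one]; exact one_mem H)
  refine eq_top_iff.2 fun w _ => ?_
  rw [← SemidirectProduct.inl_left_mul_inr_right w]
  exact mul_mem (hM _) (hA _)

/-- The class is invariant. -/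
theorem cls_conj (g w : W) : cls (g * w * g⁻¹) = cls w := by
  let H : Subgroup W :=
    { carrier := {g | ∀ w, cls (g * w * g⁻¹) = cls w}
      one_mem' := fun w => by simp
      mul_mem' := fun {a b} ha hb w => by
        rw [show a * b * w * (a * b)⁻¹ = a * (b * w * b⁻¹) * a⁻¹ by group, ha, hb]
      inv_mem' := fun {a} ha w => by
        conv_rhs => rw [show w = a * (a⁻¹ * w * a⁻¹⁻¹) * a⁻¹ by group, ha] }
  have key : ∀ (a : W) (ta ti : T), toT a = ta → tmul ta ti = tone →
      (∃ b, toT b = ti) → (∀ n < 1920, clsT (tmul (tmul ta (dec n)) ti) = clsN n) → a ∈ H := by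
    rintro a _ _ rfl hti ⟨b, rfl⟩ h w
    rw [← toT_mul, ← toT_one] at hti
    obtain ⟨h1, h2⟩ := dec_eq w
    have := h _ h1
    rw [h2, ← toT_mul, ← toT_mul] at this
    rw [inv_eq_of_mul_eq_one_right (toT_injective hti)]
    exact this
  obtain ⟨g0, gx, gy⟩ := gen_vals
  have hgen := gens_ok
  simp only [genT, List.all_cons, List.all_nil, Bool.and_true, Bool.and_eq_true, decide_eq_true_eq] at hgen
  have h := gen_top H
    (key _ _ _ g0.symm hgen.1 ⟨_, g0.symm⟩ fun n hn =>
      of_decide_eq_true (List.all_eq_true.1 inv_gen0 n (List.mem_range.2 hn)))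
    (key _ _ _ gx.symm hgen.2.1 ⟨_, by rw [toT_mul, ← gx]⟩ fun n hn =>
      of_decide_eq_true (List.all_eq_true.1 inv_gen1 n (List.mem_range.2 hn)))
    (key _ _ _ gy.symm hgen.2.2 ⟨_, by rw [toT_mul, toT_mul, ← gy]⟩ fun n hn =>
      of_decide_eq_true (List.all_eq_true.1 inv_gen2 n (List.mem_range.2 hn)))
  exact (h ▸ Subgroup.mem_top g : g ∈ H) w

theorem isConj_iff_cls (v w : W) : IsConj v w ↔ cls v = cls w := by
  refine ⟨fun h => ?_, fun h => ?_⟩
  · obtain ⟨c, rfl⟩ := isConj_iff.1 h
    exact (cls_conj c v).symm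
  · obtain ⟨r, hr, -⟩ := exists_rep (cls_lt v)
    exact (isConj_rep v hr).symm.trans (isConj_rep w (h ▸ hr))

/-- The positions enumerate the elements. -/
theorem card_filter (P : T → Bool) [Fintype W] :
    (Finset.univ.filter fun w : W => P (toT w) = true).card =
      ((List.range 1920).filter fun n => P (dec n)).length := by
  classical
  rw [← List.toFinset_card_of_nodup (List.nodup_range.filter _)]
  refine Finset.card_bij (fun w _ => pos (toT w)) (fun w hw => ?_) (fun a _ b _ e => ?_) (fun n hn => ?_)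
  · simp only [List.mem_toFinset, List.mem_filter, List.mem_range]
    exact ⟨(dec_eq w).1, by rw [(dec_eq w).2]; exact (Finset.mem_filter.1 hw).2⟩
  · exact toT_injective ((dec_eq a).2.symm.trans ((congrArg dec e).trans (dec_eq b).2))
  · simp only [List.mem_toFinset, List.mem_filter, List.mem_range] at hn
    obtain ⟨w, hw⟩ := dec_surj hn.1
    exact ⟨w, by simp [hw, hn.2], by rw [hw, pos_of_dec hn.1]⟩

theorem card_cls [Fintype W] {c : ℕ} (hc : c < 16) :
    (Finset.univ.filter fun w : W => cls w = c).card = Data.sizes.getD c 0 := by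
  classical
  rw [← of_decide_eq_true (List.all_eq_true.1 size_ok c (List.mem_range.2 hc))]
  refine (congrArg Finset.card (Finset.filter_congr fun w _ => ?_)).trans
    ((card_filter fun t => clsT t == c).trans ?_)
  · simp [cls]
  · refine congrArg List.length (List.filter_congr fun n hn => ?_)
    rw [clsT, pos_of_dec (List.mem_range.1 hn)]

/-- Sums over the model by classes. -/
theorem sum_by_cls [Fintype W] {A : Type*} [AddCommMonoid A] (F : ℕ → A) :
    ∑ w : W, F (cls w) = ∑ c ∈ Finset.range 16, Data.sizes.getD c 0 • F c := by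
  classical
  rw [← Finset.sum_fiberwise_of_maps_to (g := cls) (t := Finset.range 16)
    (fun w _ => Finset.mem_range.2 (cls_lt w))]
  refine Finset.sum_congr rfl fun c hc => ?_
  rw [Finset.sum_congr rfl fun w hw => by rw [(Finset.mem_filter.1 hw).2], Finset.sum_const,
    card_cls (Finset.mem_range.1 hc)]

end Cfsg.Agent.JThreeRecog
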