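import Cfsg.Agent.JThreeRecog.Triples

/-!
The possible shapes of the three constituents of the class function of norm four.
-/

set_option autoImplicit false
set_option maxRecDepth 100000
set_option linter.all false

namespace Cfsg.Agent.JThreeRecog.Comb

open Search

/-- The Gram matrix of the class functions, away from the trivial character. -/
def hmat : Fin 7 → Fin 7 → ℤ :=
  ![![3, -1, 0, 1, 0, 1, -1], ![-1, 3, 0, -1, 0, -1, 1], ![0, 0, 3, -1, -1, -1, 0], ![1, -1, -1, 3, -1, 0, 0],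
    ![0, 0, -1, -1, 4, 0, -1], ![1, -1, -1, 0, 0, 5, 0], ![-1, 1, 0, 0, -1, 0, 5]]

/-- Its adjugate. -/
def amat : Fin 7 → Fin 7 → ℤ :=
  ![![1060, 44, -304, -492, -156, -264, 172],
    ![44, 1060, 304, 492, 156, 264, -172],
    ![-304, 304, 1312, 816, 528, 384, -16],
    ![-492, 492, 816, 1524, 564, 360, -84],
    ![-156, 156, 528, 564, 852, 168, 108],
    ![-264, 264, 384, 360, 168, 624, -72],
    ![172, -172, -16, -84, 108, -72, 532]]

/-- A column with entry one at the fourth place. -/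
abbrev Col : Type := ℤ × ℤ × ℤ × ℤ × ℤ × ℤ

/-- The column as a function. -/
def toF : Col → Fin 7 → ℤ
  | (a, b, c, d, e, f) => ![a, b, c, 1, d, e, f]

/-- The quadratic form of the adjugate. -/
def quad (c : Col) : ℤ := ∑ i, toF c i * ∑ j, amat i j * toF c j

/-- The columns that can occur. -/
def good : List Col :=
  [(0, -1, -1, 0, 0, 0), (0, -1, -1, 0, 1, 0), (0, -1, 0, -1, 0, -1), (0, -1, 0, -1, 0, 0),
   (0, -1, 0, -1, 0, 1), (0, -1, 0, -1, 1, 0), (0, -1, 0, 0, -1, 0), (0, -1, 0, 0, 0, -1),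
   (0, -1, 0, 0, 0, 0), (0, 0, -1, -1, 0, 0), (0, 0, -1, -1, 0, 1), (0, 0, -1, 0, -1, 0),
   (0, 0, -1, 0, 0, -1), (0, 0, -1, 0, 0, 0), (0, 0, -1, 0, 0, 1), (0, 0, -1, 0, 1, 0),
   (0, 0, -1, 0, 1, 1), (0, 0, -1, 1, 0, 0), (0, 0, 0, -1, -1, 0), (0, 0, 0, -1, -1, 1),
   (0, 0, 0, -1, 0, -1), (0, 0, 0, -1, 0, 0), (0, 0, 0, -1, 0, 1), (0, 0, 0, 0, -1, -1),
   (0, 0, 0, 0, -1, 0), (0, 0, 0, 0, -1, 1), (0, 0, 0, 0, 0, 0), (0, 0, 0, 0, 0, 1),
   (1, -1, -1, 0, 1, -1), (1, -1, -1, 0, 1, 0), (1, -1, 0, -1, 0, -1), (1, -1, 0, -1, 0, 0),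
   (1, -1, 0, -1, 1, 0), (1, -1, 0, 0, 0, -1), (1, -1, 0, 0, 0, 0), (1, -1, 0, 0, 1, -1),
   (1, -1, 0, 0, 1, 0), (1, 0, -1, 0, 0, 0), (1, 0, -1, 0, 1, 0), (1, 0, 0, -1, 0, -1),
   (1, 0, 0, -1, 0, 0), (1, 0, 0, -1, 0, 1), (1, 0, 0, -1, 1, 0), (1, 0, 0, 0, -1, 0),
   (1, 0, 0, 0, 0, -1), (1, 0, 0, 0, 0, 0)]

/-- The entries bounded by one. -/
def box1 : List ℤ := [-1, 0, 1]

/-- The entries bounded by two. -/
def box2 : List ℤ := [-2, -1, 0, 1, 2]

/-- The value at the involution and the weighted sum of the values on the two-elements. -/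
def info : Col → Info
  | (a, b, c, d, e, f) =>
    (2 * a - 2 * b + 11 * c - 9 + 15 * d - 5 * e + 10 * f,
      35 * (2 * a - 2 * b + 11 * c - 9 + 15 * d - 5 * e + 10 * f) +
        44 * (-2 * a + 2 * b - c + 3 + 3 * d - e - 2 * f) + 48 * (c + 1 + d + e))

/-- The third column. -/
def third : Col → Col → Col
  | (a, b, c, d, e, f), (a', b', c', d', e', f') =>
    (1 - a - a', -1 - b - b', -1 - c - c', -1 - d - d', 0 - e - e', 0 - f - f')

theorem good_ok : (box1.all fun a => box1.all fun b => box1.all fun c => box2.all fun d => box2.all fun e =>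
    box2.all fun f => !decide (quad (a, b, c, d, e, f) ≤ 2208) || good.contains (a, b, c, d, e, f)) = true := by
  decide +kernel

theorem pairs_ok : (good.all fun x => good.all fun y => !good.contains (third x y) ||
    Search.triples.contains (info x, info y, info (third x y))) = true := by
  decide +kernel

theorem mat_inv : ∀ i k : Fin 7, ∑ j, hmat i j * amat j k = if i = k then 2208 else 0 := by decide +kernel

theorem hmat_symm : ∀ i j, hmat i j = hmat j i := by decide +kernel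

theorem mem_box1 {a : ℤ} (h : a ^ 2 ≤ 3) : a ∈ box1 := by
  have h1 : a < 2 := by nlinarith
  have h2 : -2 < a := by nlinarith
  simp [box1]; omega

theorem mem_box2 {a : ℤ} (h : a ^ 2 ≤ 5) : a ∈ box2 := by
  have h1 : a < 3 := by nlinarith
  have h2 : -3 < a := by nlinarith
  simp [box2]; omega

variable {ι : Type*} [Fintype ι] (m : Fin 7 → ι → ℤ)

theorem quad_le (hg : ∀ i j, ∑ p, m i p * m j p = hmat i j) (p : ι) (c : Col) (s : ℤ) (hs : s * s = 1)
    (hc : ∀ i, toF c i = s * m i p) : quad c ≤ 2208 := by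
  obtain ⟨x, hx⟩ : ∃ x : Fin 7 → ℤ, ∀ i, x i = ∑ j, amat i j * toF c j := ⟨_, fun _ => rfl⟩
  have hHx : ∀ i, ∑ j, hmat i j * x j = 2208 * toF c i := fun i => by
    simp only [hx, Finset.mul_sum]
    rw [Finset.sum_comm]
    simp only [← mul_assoc, ← Finset.sum_mul, mat_inv, ite_mul, zero_mul]
    rw [Finset.sum_ite_eq]
    simp
  have htot : ∑ q, (∑ i, x i * m i q) ^ 2 = 2208 * quad c := by
    simp only [pow_two, Finset.sum_mul_sum]
    rw [Finset.sum_comm, quad, Finset.mul_sum]
    refine Finset.sum_congr rfl fun i _ => ?_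
    rw [Finset.sum_comm]
    calc ∑ j, ∑ q, x i * m i q * (x j * m j q) = x i * ∑ j, hmat i j * x j := by
          rw [Finset.mul_sum]
          refine Finset.sum_congr rfl fun j _ => ?_
          have e : x i * ((∑ q, m i q * m j q) * x j) = ∑ q, x i * m i q * (x j * m j q) := by
            rw [Finset.sum_mul, Finset.mul_sum]
            exact Finset.sum_congr rfl fun q _ => by ring
          rw [hg i j] at e
          exact e.symm
      _ = _ := by rw [hHx, hx]; ring
  have hone : (∑ i, x i * m i p) ^ 2 ≤ 2208 * quad c :=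
    htot ▸ Finset.single_le_sum (f := fun q => (∑ i, x i * m i q) ^ 2) (fun q _ => sq_nonneg _) (Finset.mem_univ p)
  have hq : quad c = s * ∑ i, x i * m i p := by
    rw [quad, Finset.mul_sum]
    refine Finset.sum_congr rfl fun i _ => ?_
    rw [← hx i, hc i]; ring
  have h2 : quad c ^ 2 ≤ 2208 * quad c := by
    rw [hq, mul_pow, pow_two s, hs, one_mul, ← hq]; exact hone
  by_contra hcon
  nlinarith

/-- The signed column at a point. -/
def colAt (p : ι) (s : ℤ) : Col := (s * m 0 p, s * m 1 p, s * m 2 p, s * m 4 p, s * m 5 p, s * m 6 p)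

theorem mem_good (hg : ∀ i j, ∑ p, m i p * m j p = hmat i j) (p : ι) (s : ℤ) (hs : s * s = 1)
    (h3 : s * m 3 p = 1) : colAt m p s ∈ good := by
  have hb : ∀ i, (s * m i p) ^ 2 ≤ hmat i i := fun i => by
    rw [mul_pow, pow_two s, hs, one_mul, pow_two, ← hg i i]
    exact Finset.single_le_sum (f := fun q => m i q * m i q) (fun q _ => mul_self_nonneg _) (Finset.mem_univ p)
  have hq := quad_le m hg p (colAt m p s) s hs fun i => by
    fin_cases i <;> first | rfl | exact h3.symm
  have h := List.all_eq_true.1 (List.all_eq_true.1 (List.all_eq_true.1 (List.all_eq_true.1 (List.all_eq_true.1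
    (List.all_eq_true.1 good_ok _ (mem_box1 (hb 0))) _ (mem_box1 (hb 1))) _ (mem_box1 (hb 2)))
    _ (mem_box2 ((hb 4).trans (by decide)))) _ (mem_box2 ((hb 5).trans (by decide))))
    _ (mem_box2 ((hb 6).trans (by decide)))
  simp only [Bool.or_eq_true, Bool.not_eq_true', decide_eq_false_iff_not, List.contains_iff_mem] at h
  exact h.resolve_left fun h' => h' hq

/-- The three constituents of the norm four class function. -/
theorem exists_triple [DecidableEq ι] (hg : ∀ i j, ∑ p, m i p * m j p = hmat i j) :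
    ∃ p q r : ι, p ≠ q ∧ p ≠ r ∧ q ≠ r ∧
      (∀ j, m 3 j ≠ 0 → j = p ∨ j = q ∨ j = r) ∧
      (m 3 p * m 3 p = 1 ∧ m 3 q * m 3 q = 1 ∧ m 3 r * m 3 r = 1) ∧
      (info (colAt m p (m 3 p)), info (colAt m q (m 3 q)), info (colAt m r (m 3 r))) ∈ Search.triples := by
  have h33 : ∑ j, m 3 j * m 3 j = 3 := (hg 3 3).trans rfl
  have hunit : ∀ j, m 3 j = 0 ∨ m 3 j = 1 ∨ m 3 j = -1 := fun j => by
    have h := Finset.single_le_sum (f := fun q => m 3 q * m 3 q) (fun q _ => mul_self_nonneg _) (Finset.mem_univ j)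
    rw [h33] at h
    have : m 3 j < 2 := by nlinarith
    have : -2 < m 3 j := by nlinarith
    omega
  set S := Finset.univ.filter fun j => m 3 j ≠ 0 with hS
  have hsq : ∀ j, m 3 j * m 3 j = if m 3 j ≠ 0 then 1 else 0 := fun j => by
    rcases hunit j with e | e | e <;> simp [e]
  have hcard : S.card = 3 := by
    rw [Finset.sum_congr rfl fun j _ => hsq j, Finset.sum_boole] at h33
    exact_mod_cast h33
  obtain ⟨p, q, r, hpq, hpr, hqr, hSeq⟩ := Finset.card_eq_three.1 hcard
  have hmem : ∀ j, m 3 j ≠ 0 → j = p ∨ j = q ∨ j = r := fun j hj => by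
    have : j ∈ S := by simp [hS, hj]
    simpa [hSeq] using this
  have hone : ∀ j, j ∈ S → m 3 j * m 3 j = 1 := fun j hj => by
    rw [hsq j, if_pos (Finset.mem_filter.1 hj).2]
  have hp : p ∈ S := by simp [hSeq]
  have hq : q ∈ S := by simp [hSeq]
  have hr : r ∈ S := by simp [hSeq]
  refine ⟨p, q, r, hpq, hpr, hqr, hmem, ⟨hone p hp, hone q hq, hone r hr⟩, ?_⟩
  have hsum : ∀ i, m 3 p * m i p + m 3 q * m i q + m 3 r * m i r = hmat 3 i := fun i => by
    rw [← hg 3 i, ← Finset.sum_subset (Finset.subset_univ S) fun j _ hj => by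
      rw [(by_contra fun h => hj (by simp [hS, h]) : m 3 j = 0), zero_mul], hSeq,
      Finset.sum_insert (by simp [hpq, hpr]), Finset.sum_pair hqr, add_assoc]
  have hthird : colAt m r (m 3 r) = third (colAt m p (m 3 p)) (colAt m q (m 3 q)) := by
    have := hsum 0; have := hsum 1; have := hsum 2; have := hsum 4; have := hsum 5; have := hsum 6
    simp only [colAt, third, hmat, Prod.mk.injEq] at *
    simp at *
    refine ⟨?_, ?_, ?_, ?_, ?_, ?_⟩ <;> linarith
  have h := List.all_eq_true.1 (List.all_eq_true.1 pairs_ok _ (mem_good m hg p _ (hone p hp) (hone p hp)))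
    _ (mem_good m hg q _ (hone q hq) (hone q hq))
  simp only [Bool.or_eq_true, Bool.not_eq_true', List.contains_iff_mem] at h
  rw [← hthird] at h
  refine h.resolve_left fun h' => ?_
  have hm := List.contains_iff_mem.2 (mem_good m hg r _ (hone r hr) (hone r hr))
  rw [h'] at hm
  exact Bool.noConfusion hm

end Cfsg.Agent.JThreeRecog.Comb
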