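import Cfsg.Agent.JThreeRecog.Comb

/-!
The certificate that some degree has an exceptional residue modulo nineteen.
-/

set_option autoImplicit false
set_option maxRecDepth 100000
set_option linter.all false

namespace Cfsg.Agent.JThreeRecog.DegCert

/-- A column of multiplicities. -/
abbrev C7 : Type := ℤ × ℤ × ℤ × ℤ × ℤ × ℤ × ℤ

/-- A contribution to a row: seven inner products and a degree. -/
abbrev Vec : Type := ℤ × ℤ × ℤ × ℤ × ℤ × ℤ × ℤ × ℤ

/-- The second entry of the rows used. -/
def p2 : Vec → ℤ := fun v => v.2.2.1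
/-- The third entry. -/
def p3 : Vec → ℤ := fun v => v.2.2.2.1
/-- The fifth entry. -/
def p5 : Vec → ℤ := fun v => v.2.2.2.2.2.1
/-- The degree entry. -/
def p7 : Vec → ℤ := fun v => v.2.2.2.2.2.2.2

/-- A column times a multiplicity, with the degree. -/
def mk : C7 → ℤ → ℤ → Vec
  | (a, b, c, d, e, f, g), x, n => (x * a, x * b, x * c, x * d, x * e, x * f, x * g, x * n)

/-- Scaling. -/
def smulV : ℤ → Vec → Vec
  | x, (a, b, c, d, e, f, g, n) => (x * a, x * b, x * c, x * d, x * e, x * f, x * g, x * n)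

/-- The column as a function. -/
def fn : C7 → Fin 7 → ℤ
  | (a, b, c, d, e, f, g) => ![a, b, c, d, e, f, g]

/-- The quadratic form of the adjugate. -/
def quad (c : C7) : ℤ := ∑ i, fn c i * ∑ j, Comb.amat i j * fn c j

/-- The same form, written out. -/
def quadP : C7 → ℤ
  | (a, b, c, d, e, f, g) =>
    a * (1060 * a + 88 * b + (-608) * c + (-984) * d + (-312) * e + (-528) * f + 344 * g) +
      b * (1060 * b + 608 * c + 984 * d + 312 * e + 528 * f + (-344) * g) +
      c * (1312 * c + 1632 * d + 1056 * e + 768 * f + (-32) * g) +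
      d * (1524 * d + 1128 * e + 720 * f + (-168) * g) +
      e * (852 * e + 336 * f + 216 * g) +
      f * (624 * f + (-144) * g) +
      g * (532 * g)

theorem quad_eq : ∀ c : C7, quad c = quadP c := by
  rintro ⟨a, b, c, d, e, f, g⟩
  simp only [quad, quadP, fn, Comb.amat, Fin.sum_univ_seven, Matrix.cons_val]
  ring

/-- The value at the involution. -/
def cV : C7 → ℤ
  | (a, b, c, d, e, f, g) => 2 * a - 2 * b + 11 * c - 9 * d + 15 * e - 5 * f + 10 * g

/-- The weighted sum of the values on the two-elements. -/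
def cT : C7 → ℤ
  | (a, b, c, d, e, f, g) => 35 * (2 * a - 2 * b + 11 * c - 9 * d + 15 * e - 5 * f + 10 * g) +
      44 * (-2 * a + 2 * b - c + 3 * d + 3 * e - f - 2 * g) + 48 * (c + d + e + f)

/-- The value at the involution of a scaled column. -/
def vV : Vec → ℤ
  | (a, b, c, d, e, f, g, _) => 2 * a - 2 * b + 11 * c - 9 * d + 15 * e - 5 * f + 10 * g

/-- The columns within the bounds. -/
def cands : List C7 :=
  Comb.box1.flatMap fun a => Comb.box1.flatMap fun b => Comb.box1.flatMap fun c => Comb.box1.flatMap fun d =>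
    Comb.box2.flatMap fun e => Comb.box2.flatMap fun f => Comb.box2.map fun g => (a, b, c, d, e, f, g)

/-- Reading a column from its code. -/
def decC (n : ℕ) : C7 :=
  (((n % 3 : ℕ) : ℤ) - 1, ((n / 3 % 3 : ℕ) : ℤ) - 1, ((n / 9 % 3 : ℕ) : ℤ) - 1, ((n / 27 % 3 : ℕ) : ℤ) - 1,
    ((n / 81 % 5 : ℕ) : ℤ) - 2, ((n / 405 % 5 : ℕ) : ℤ) - 2, ((n / 2025 : ℕ) : ℤ) - 2)

/-- The codes of the columns. -/
def codes : List ℕ :=
  [5058, 5052, 7077, 5457, 5133, 5034, 7059, 5439, 4710, 3090, 5115, 7140, 4575, 6600,
   4980, 7005, 2631, 4656, 6681, 3036, 5061, 7086, 4737, 4638, 5043, 4584, 5055, 7080,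
   4632, 6657, 5037, 7062, 4713, 5118, 7143, 4578, 6603, 7008, 4659, 6684, 5064, 7089,
   4641, 6666, 5536, 5077, 5482, 5383, 3034, 5059, 7084, 3439, 5464, 7489, 3115, 5140,
   3520, 5545, 2980, 5005, 7030, 5410, 4681, 3061, 5086, 4987, 4663, 3043, 5068, 3028,
   5053, 7078, 3433, 5458, 7483, 4729, 3109, 5134, 7159, 3514, 5539, 7564, 4999, 7024,
   4675, 3055, 5080, 7105, 5485, 7510, 5161, 3010, 5035, 3415, 5440, 7465, 3091, 5116,
   7141, 3496, 5521, 4576, 2956, 4981, 7006, 3361, 5386, 7411, 2632, 4657, 6682, 1012,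
   3037, 7087, 9112, 3442, 5467, 7492, 2713, 4738, 6763, 3118, 5143, 7168, 5548, 4603,
   6628, 2983, 5008, 7033, 2659, 4684, 6709, 5089, 7114, 4963, 2614, 4639, 3019, 5044,
   7069, 5449, 3100, 5125, 2560, 4585, 6610, 2965, 4990, 7015, 5395, 2641, 4666, 6691,
   3046, 5071, 7096, 5056, 7081, 5461, 5137, 5038, 7063, 5443, 4714, 3094, 5119, 7144,
   4579, 6604, 4984, 7009, 2635, 4660, 6685, 3040, 5065, 7090, 4741, 4642, 5047, 4588,
   3458, 5483, 3035, 5060, 3440, 5465, 3116, 3521, 5546, 2981, 5006, 5411, 3062, 5087,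
   3467, 5492, 3044, 5069, 5540, 5081, 5486, 5387, 3038, 5063, 7088, 3443, 5468, 7493,
   3119, 5144, 3524, 5549, 2984, 5009, 7034, 5414, 4685, 3065, 5090, 4991, 4667, 3047,
   5072, 5066]

/-- The columns that can occur. -/
def cols : List C7 := codes.map decC

theorem cols_ok : (cands.all fun c => !decide (quadP c ≤ 2208) || c == (0, 0, 0, 0, 0, 0, 0) || cols.contains c) = true := by
  decide +kernel

/-- The possible degrees. -/
def degs : List ℕ := [1, 2, 3, 4, 5, 6, 8, 9, 10, 12, 15, 16, 17, 18, 19, 20, 24, 27, 30, 32, 34, 36, 38, 40, 45, 48, 51, 54, 57, 60, 64, 68, 72, 76, 80, 81, 85, 90, 95, 96, 102, 108, 114, 120, 128, 135, 136, 144, 152, 153, 160, 162, 170, 171, 180, 190, 192, 204, 216, 228, 240, 243, 255, 270, 272, 285, 288, 304, 306, 320, 323, 324, 340, 342, 360, 380, 384, 405, 408, 432, 456, 459, 480, 486, 510, 513, 540, 544, 570, 576, 608, 612, 640, 646, 648, 680, 684, 720, 760, 765, 810, 816, 855, 864, 912, 918, 960, 969, 972, 1020, 1026, 1080, 1088, 1140, 1152, 1215, 1216, 1224, 1292, 1296,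 1360, 1368, 1377, 1440, 1520, 1530, 1539, 1615, 1620, 1632, 1710, 1728, 1824, 1836, 1920, 1938, 1944, 2040, 2052, 2160, 2176, 2280, 2295, 2430, 2432, 2448, 2565, 2584, 2592, 2720, 2736, 2754, 2880, 2907, 3040, 3060, 3078, 3230, 3240, 3264, 3420, 3456, 3648, 3672, 3876, 3888, 4080, 4104, 4131, 4320, 4560, 4590, 4617, 4845, 4860, 4896, 5130, 5168, 5184, 5440, 5472, 5508, 5760, 5814, 6080, 6120, 6156, 6460, 6480, 6528, 6840, 6885]

theorem degs_ok : ((List.range 7088).all fun d => d == 0 || !(50232960 % d == 0) || degs.contains d) = true := by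
  decide +kernel

/-- A degree fits a column. -/
def opt (c : C7) (d : ℕ) : Bool :=
  decide (((d : ℤ) + cT c) % 128 = 0) && decide (0 ≤ (d : ℤ) + cT c) && decide ((cV c).natAbs ≤ d) &&
    decide (cV c < (d : ℤ)) && decide (cV c * 26163 % (d : ℤ) = 0) && decide (d % 19 ≤ 3 ∨ 16 ≤ d % 19)

/-- The codes of the fitting pairs. -/
def optCodes : List (ℕ × ℕ) :=
  [(3037, 646), (3037, 3078), (9112, 1140), (9112, 3060), (1012, 1292), (1012, 6156), (6682, 1615),
   (5467, 171), (2632, 2907), (5143, 1215), (7168, 57), (7141, 306), (7033, 2754), (5440, 36),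
   (5440, 3876), (6709, 342), (7114, 513), (5161, 459), (2614, 1615), (4639, 969), (7105, 646),
   (7105, 3078), (5044, 1140), (5044, 3060), (5080, 1292), (5080, 6156), (3055, 1938), (3100, 57),
   (2965, 2754), (5134, 324), (7015, 54), (7015, 5814), (4729, 153), (2641, 342), (5458, 816),
   (5458, 2736), (5458, 5168), (3433, 5814), (3046, 513), (3043, 19), (5137, 306), (5086, 153),
   (5443, 18), (5443, 1938), (3094, 684), (5119, 38), (7144, 288), (7144, 1824), (2980, 1632),
   (2980, 5472), (4579, 2052), (4579, 5508), (3520, 1026), (2635, 969), (4660, 323), (7084, 1292),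
   (7084, 6156), (5059, 18), (5059, 1938), (3034, 2584), (4741, 1026), (5482, 969), (5536, 513),
   (5483, 2907), (7089, 342), (5060, 36), (5060, 3876), (6684, 171), (7062, 1615), (5087, 171),
   (3467, 3420), (6657, 36), (6657, 3876), (5492, 342), (4632, 170), (7080, 2907), (5540, 513),
   (5486, 969), (4737, 1026), (3038, 2584), (5063, 18), (5063, 1938), (7088, 1292), (7088, 6156),
   (4656, 323), (2631, 969), (3524, 1026), (4575, 2052), (4575, 5508), (2984, 1632), (2984, 5472),
   (7140, 288), (7140, 1824), (5115, 38), (3090, 684), (5439, 18), (5439, 1938), (5090, 153),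
   (5133, 306), (3047, 19), (5066, 1920), (5066, 2432), (5066, 3456), (5066, 5760), (5058, 1920),
   (5058, 2432), (5058, 3456), (5058, 5760)]

/-- The fitting pairs. -/
def opts : List (C7 × ℕ) := optCodes.map fun x => (decC x.1, x.2)

theorem opts_ok : (codes.all fun n => degs.all fun d => !opt (decC n) d || optCodes.contains (n, d)) = true := by
  decide +kernel

/-- The contributions. -/
def items (sel : C7 → Bool) (pr : C7 → ℤ) : List Vec :=
  (opts.filter fun x => sel x.1).map fun x => mk x.1 (pr x.1) x.2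

/-- The items of the fourth row. -/
def it3 : List Vec := items (fun c => c.2.2.2.1 != 0) fun c => c.2.2.2.1
/-- The items of the third row away from the fourth. -/
def it2 : List Vec := items (fun c => c.2.2.2.1 == 0 && c.2.2.1 != 0) fun c => c.2.2.1
/-- The items of the sixth row away from both. -/
def it5 : List Vec := items (fun c => c.2.2.2.1 == 0 && c.2.2.1 == 0 && c.2.2.2.2.2.1 != 0) fun c => c.2.2.2.2.2.1

/-- The ways to write a vector as a sum of items. -/
def sols (it : List Vec) (p : Vec → ℤ) : ℕ → Vec → List (List Vec)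
  | 0, _ => []
  | f + 1, t => it.flatMap fun v =>
      if p v == p t then (if v == t then [[v]] else [])
      else if decide (p v < p t) then (sols it p f (t - v)).map (v :: ·) else []

theorem mem_sols (it : List Vec) (p : Vec → ℤ) (hp : ∀ u v, p (u + v) = p u + p v) (hpos : ∀ v ∈ it, 1 ≤ p v) :
    ∀ (L : List Vec) (f : ℕ), (∀ v ∈ L, v ∈ it) → L ≠ [] → p L.sum ≤ f → L ∈ sols it p f L.sum
  | [], _, _, h, _ => absurd rfl h
  | v :: M, f, hL, _, hf => by
    have h0 : p 0 = 0 := by
      have := hp 0 0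
      rw [add_zero] at this
      omega
    have hv := hL v (List.mem_cons_self ..)
    have hnn : ∀ N : List Vec, (∀ u ∈ N, u ∈ it) → (N.length : ℤ) ≤ p N.sum := by
      intro N hN
      induction N with
      | nil => simp [h0]
      | cons u N ih =>
        have a := hpos u (hN u (List.mem_cons_self ..))
        have b := ih fun w hw => hN w (List.mem_cons_of_mem _ hw)
        rw [List.sum_cons, hp, List.length_cons]
        push_cast
        omega
    have hM := hnn M fun u hu => hL u (List.mem_cons_of_mem _ hu)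
    have h1 := hpos v hv
    rw [List.sum_cons, hp] at hf
    cases f with
    | zero => push_cast at hf; omega
    | succ g =>
      rw [sols, List.mem_flatMap]
      refine ⟨v, hv, ?_⟩
      by_cases hM0 : M = []
      · subst hM0
        simp
      · have hlen : 1 ≤ M.length := List.length_pos_iff.2 hM0
        rw [if_neg (by simp only [List.sum_cons, hp, beq_iff_eq]; omega),
          if_pos (by simp only [List.sum_cons, hp, decide_eq_true_eq]; omega), List.mem_map]
        refine ⟨M, ?_, rfl⟩
        rw [List.sum_cons, add_sub_cancel_left]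
        exact mem_sols it p hp hpos M g (fun u hu => hL u (List.mem_cons_of_mem _ hu)) hM0 (by push_cast at hf; omega)

/-- The sum in the pairs equation as a fraction. -/
def frac : List Vec → ℤ × ℤ
  | [] => (0, 1)
  | v :: L => ((frac L).1 * p7 v + vV v * vV v * (frac L).2, p7 v * (frac L).2)

/-- The targets of the rows. -/
def tgt (i : Fin 7) : Vec :=
  mk (Comb.hmat i 0, Comb.hmat i 1, Comb.hmat i 2, Comb.hmat i 3, Comb.hmat i 4, Comb.hmat i 5, Comb.hmat i 6) 1
    (-([0, 0, 0, 1, 0, 0, 1].getD i.val 0))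

/-- The pairs equation holds. -/
def pairsOK (L : List Vec) : Bool :=
  decide (26163 * ((frac L).2 + (frac L).1) = 15200 * (frac L).2)

theorem items_pos : (it3.all fun v => decide (p3 v = 1)) = true ∧ (it2.all fun v => decide (p2 v = 1)) = true ∧
    (it5.all fun v => decide (1 ≤ p5 v)) = true ∧ (it3.all fun v => decide (p7 v ≠ 0)) = true := by
  decide +kernel

/-- The remaining target of the third row. -/
def R2 : Vec := (0, 0, 2, 0, -1, -1, 0, -1140)
/-- The remaining target of the sixth row. -/
def R5 : Vec := (1, -1, 0, 0, 0, 4, 0, -816)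
/-- The part of the fourth row in the sixth. -/
def A5row : Vec := (0, 0, 0, 0, 0, 0, 0, 0)
/-- The part of the third row in the sixth. -/
def B5row : Vec := (0, 0, -1, 0, 0, 1, 0, 816)

set_option maxHeartbeats 4000000 in
theorem row_four : ((sols it3 p3 3 (tgt 3)).all fun L => !pairsOK L ||
    ((L.map fun v => smulV (p2 v) v).sum + R2 == tgt 2 && (L.map fun v => smulV (p5 v) v).sum == A5row)) = true := by
  decide +kernel

theorem row_three : ((sols it2 p2 2 R2).all fun M => (M.map fun v => smulV (p5 v) v).sum == B5row) = true := by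
  decide +kernel

set_option maxHeartbeats 4000000 in
theorem row_six : (sols it5 p5 4 R5).isEmpty = true := by
  decide +kernel

theorem targets : p3 (tgt 3) = 3 ∧ p2 R2 = 2 ∧ p5 R5 = 4 ∧ (A5row + B5row + R5 == tgt 5) = true := by
  refine ⟨?_, ?_, ?_, ?_⟩ <;> decide +kernel

end Cfsg.Agent.JThreeRecog.DegCert
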