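import Cfsg.Agent.JThreeRecog.Order
import Cfsg.Agent.JThreeRecog.DegCert
import Cfsg.Agent.Char.Integral

/-!
Some irreducible character has a degree with residue between 4 and 15 modulo nineteen.
-/

set_option autoImplicit false
set_option maxRecDepth 100000
set_option linter.all false

namespace Cfsg.Agent.JThreeRecog

open scoped ComplexConjugate
open Equiv Cfsg DegCert

universe u

section Algebra

variable {ι : Type*}

theorem mk_zero (c : C7) (n : ℤ) : DegCert.mk c 0 n = 0 := by
  obtain ⟨a, b, e, f, g, k, l⟩ := c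
  simp [DegCert.mk, Prod.ext_iff]

theorem smul_mk (c : C7) (x n : ℤ) (hx : x * x = 1) :
    smulV (p2 (DegCert.mk c x n)) (DegCert.mk c x n) = DegCert.mk c (fn c 2) n ∧
      smulV (p5 (DegCert.mk c x n)) (DegCert.mk c x n) = DegCert.mk c (fn c 5) n ∧ vV (DegCert.mk c x n) = x * cV c := by
  obtain ⟨a, b, e, f, g, k, l⟩ := c
  simp only [DegCert.mk, p2, p5, smulV, fn, vV, cV, Prod.mk.injEq, Matrix.cons_val]
  refine ⟨⟨?_, ?_, ?_, ?_, ?_, ?_, ?_, ?_⟩, ⟨?_, ?_, ?_, ?_, ?_, ?_, ?_, ?_⟩, by ring⟩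
  · linear_combination (e * a) * hx
  · linear_combination (e * b) * hx
  · linear_combination (e * e) * hx
  · linear_combination (e * f) * hx
  · linear_combination (e * g) * hx
  · linear_combination (e * k) * hx
  · linear_combination (e * l) * hx
  · linear_combination (e * n) * hx
  · linear_combination (k * a) * hx
  · linear_combination (k * b) * hx
  · linear_combination (k * e) * hx
  · linear_combination (k * f) * hx
  · linear_combination (k * g) * hx
  · linear_combination (k * k) * hx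
  · linear_combination (k * l) * hx
  · linear_combination (k * n) * hx

theorem frac_spec : ∀ L : List Vec, (∀ v ∈ L, p7 v ≠ 0) →
    (frac L).2 ≠ 0 ∧ ((frac L).1 : ℚ) / (frac L).2 = (L.map fun v => (vV v : ℚ) ^ 2 / (p7 v : ℚ)).sum
  | [], _ => by simp [frac]
  | v :: L, h => by
    obtain ⟨h1, h2⟩ := frac_spec L fun w hw => h w (List.mem_cons_of_mem _ hw)
    have hv := h v (List.mem_cons_self ..)
    refine ⟨by simp [frac, h1, hv], ?_⟩
    have h1' : ((frac L).2 : ℚ) ≠ 0 := Int.cast_ne_zero.2 h1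
    have hv' : (p7 v : ℚ) ≠ 0 := Int.cast_ne_zero.2 hv
    rw [List.map_cons, List.sum_cons, ← h2, frac]
    push_cast
    field_simp
    ring

theorem quad_bound [Fintype ι] (m : Fin 7 → ι → ℤ) (hg : ∀ i j, ∑ p, m i p * m j p = Comb.hmat i j) (p : ι) :
    quad (m 0 p, m 1 p, m 2 p, m 3 p, m 4 p, m 5 p, m 6 p) ≤ 2208 := by
  set c : C7 := (m 0 p, m 1 p, m 2 p, m 3 p, m 4 p, m 5 p, m 6 p) with hc
  have hfn : ∀ i, fn c i = m i p := fun i => by fin_cases i <;> rfl
  obtain ⟨x, hx⟩ : ∃ x : Fin 7 → ℤ, ∀ i, x i = ∑ j, Comb.amat i j * fn c j := ⟨_, fun _ => rfl⟩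
  have hHx : ∀ i, ∑ j, Comb.hmat i j * x j = 2208 * fn c i := fun i => by
    simp only [hx, Finset.mul_sum]
    rw [Finset.sum_comm]
    simp only [← mul_assoc, ← Finset.sum_mul, Comb.mat_inv, ite_mul, zero_mul]
    rw [Finset.sum_ite_eq]
    simp
  have htot : ∑ q, (∑ i, x i * m i q) ^ 2 = 2208 * quad c := by
    simp only [pow_two, Finset.sum_mul_sum]
    rw [Finset.sum_comm, quad, Finset.mul_sum]
    refine Finset.sum_congr rfl fun i _ => ?_
    rw [Finset.sum_comm]
    calc ∑ j, ∑ q, x i * m i q * (x j * m j q) = x i * ∑ j, Comb.hmat i j * x j := by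
          rw [Finset.mul_sum]
          refine Finset.sum_congr rfl fun j _ => ?_
          have e : x i * ((∑ q, m i q * m j q) * x j) = ∑ q, x i * m i q * (x j * m j q) := by
            rw [Finset.sum_mul, Finset.mul_sum]
            exact Finset.sum_congr rfl fun q _ => by ring
          rw [hg i j] at e
          exact e.symm
      _ = _ := by rw [hHx, hx]; ring
  have hone : (∑ i, x i * m i p) ^ 2 ≤ 2208 * quad c :=
    htot ▸ Finset.single_le_sum (f := fun q => (∑ i, x i * m i q) ^ 2) (fun q _ => sq_nonneg _) (Finset.mem_univ p)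
  have hq : quad c = ∑ i, x i * m i p := by
    rw [quad]
    refine Finset.sum_congr rfl fun i _ => ?_
    rw [← hx i, hfn i]; ring
  rw [← hq] at hone
  by_contra hcon
  nlinarith

theorem sum_vec [Fintype ι] (m : Fin 7 → ι → ℤ) (d : ι → ℤ) (hg : ∀ i j, ∑ p, m i p * m j p = Comb.hmat i j)
    (hd : ∀ i, ∑ p, m i p * d p = -triv i) (i : Fin 7) :
    ∑ p, DegCert.mk (m 0 p, m 1 p, m 2 p, m 3 p, m 4 p, m 5 p, m 6 p) (m i p) (d p) = tgt i := by
  have e : ∀ i : Fin 7, (([0, 0, 0, 1, 0, 0, 1] : List ℤ).getD i.val 0) = triv i := by decide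
  simp only [DegCert.mk, tgt, e, Prod.ext_iff, Prod.fst_sum, Prod.snd_sum, hg, hd, one_mul, and_self]

theorem mem_items {sel : C7 → Bool} {pr : C7 → ℤ} {c : C7} {d : ℕ} (h : (c, d) ∈ opts) (hs : sel c = true) :
    DegCert.mk c (pr c) d ∈ items sel pr := by
  rw [items, List.mem_map]
  exact ⟨(c, d), List.mem_filter.2 ⟨h, hs⟩, rfl⟩

theorem mem_opts {c : C7} {d : ℕ} (hc : c ∈ cols) (hd : d ∈ degs) (ho : opt c d = true) : (c, d) ∈ opts := by
  obtain ⟨n, hn, rfl⟩ := List.mem_map.1 hc
  have h := List.all_eq_true.1 (List.all_eq_true.1 opts_ok n hn) d hd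
  simp only [ho, Bool.not_true, Bool.false_or, List.contains_iff_mem] at h
  exact List.mem_map.2 ⟨(n, d), h, rfl⟩

end Algebra

namespace JT

variable {G : Type u} [Group G] (D : JT G) [Fintype G] [Fintype W]

include D in
/-- Some degree has residue between four and fifteen. -/
theorem exists_degree [IsSimpleGroup G] :
    ∃ ψ : IrrCharacter G, ∃ d : ℕ, (ψ : G → ℂ) 1 = d ∧ 3 < d % 19 ∧ d % 19 < 16 := by
  classical
  by_contra hall
  push Not at hall
  have hK := D.K_eq
  have hG := D.card_eq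
  obtain ⟨⟨m, d, ν, k, o, ho, hd0, hd, hν, hmo, hdo, hgram, hdeg, vz, v4, v8, hk, hnorm, hdvd, hsq, hkey⟩⟩ := D.exists_tab
  let ι := {ψ : IrrCharacter G // ψ ≠ o}
  have hsplit : ∀ {A : Type} [AddCommMonoid A] (F : IrrCharacter G → A),
      ∑ ψ, F ψ = F o + ∑ p : ι, F p.1 := fun {A} _ F => by
    rw [← Finset.add_sum_erase _ _ (Finset.mem_univ o),
      Finset.sum_subtype (Finset.univ.erase o) (p := fun ψ => ψ ≠ o) (fun ψ => by simp) F]
  set m' : Fin 7 → ι → ℤ := fun i p => m i p.1 with hm'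
  have hg : ∀ i j, ∑ p, m' i p * m' j p = Comb.hmat i j := fun i j => by
    have h := hgram i j
    rw [hsplit, hmo, hmo] at h
    have e : ∀ i j, gram i j = triv i * triv j + Comb.hmat i j := by decide +kernel
    rw [e i j] at h
    exact add_left_cancel h
  set d' : ι → ℤ := fun p => (d p.1 : ℤ) with hd'
  have hdg : ∀ i, ∑ p, m' i p * d' p = -triv i := fun i => by
    have h := hdeg i
    rw [hsplit, hmo, hdo] at h
    simp only [hm', hd']
    linarith
  set col : ι → C7 := fun p => (m' 0 p, m' 1 p, m' 2 p, m' 3 p, m' 4 p, m' 5 p, m' 6 p) with hcoldef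
  set vec : Fin 7 → ι → Vec := fun i p => DegCert.mk (col p) (m' i p) (d' p) with hvec
  have hsumvec : ∀ i, ∑ p, vec i p = tgt i := fun i => sum_vec m' d' hg hdg i
  have hb : ∀ i p, m' i p ^ 2 ≤ Comb.hmat i i := fun i p => by
    rw [pow_two, ← hg i i]
    exact Finset.single_le_sum (f := fun q => m' i q * m' i q) (fun q _ => mul_self_nonneg _) (Finset.mem_univ p)
  have hcV : ∀ p : ι, ∑ i, coefV i * m i p.1 = cV (col p) := fun p => by
    simp only [cV, hcoldef, hm', coefV, Fin.sum_univ_seven, Matrix.cons_val]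
    ring
  have hcT : ∀ p : ι, (d' p + cT (col p)) % 128 = 0 ∧ 0 ≤ d' p + cT (col p) := fun p => by
    have h := hk p.1
    have e : 35 * (∑ i, coefV i * m i p.1) + 44 * (∑ i, coefU i * m i p.1) + 48 * (∑ i, coefE i * m i p.1) =
        cT (col p) := by
      simp only [cT, hcoldef, hm', coefV, coefU, coefE, Fin.sum_univ_seven, Matrix.cons_val]
      ring
    simp only [hd']
    omega
  -- the nonzero columns fit
  have hfit : ∀ (p : ι) (i : Fin 7), m' i p ≠ 0 → (col p, d p.1) ∈ opts := by
    intro p i hi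
    have hcands : col p ∈ cands := by
      simp only [cands, List.mem_flatMap, List.mem_map]
      refine ⟨_, Comb.mem_box1 (hb 0 p), _, Comb.mem_box1 (hb 1 p), _, Comb.mem_box1 (hb 2 p), _,
        Comb.mem_box1 (hb 3 p), _, Comb.mem_box2 ((hb 4 p).trans (by decide)), _,
        Comb.mem_box2 ((hb 5 p).trans (by decide)), _, Comb.mem_box2 ((hb 6 p).trans (by decide)), rfl⟩
    have hcols : col p ∈ cols := by
      have h := List.all_eq_true.1 cols_ok _ hcands
      have hq : quadP (col p) ≤ 2208 := quad_eq (col p) ▸ quad_bound m' hg p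
      simp only [hq, decide_true, Bool.not_true, Bool.false_or, Bool.or_eq_true, beq_iff_eq,
        List.contains_iff_mem] at h
      refine h.resolve_left fun h0 => hi ?_
      simp only [hcoldef, Prod.mk.injEq] at h0
      obtain ⟨e0, e1, e2, e3, e4, e5, e6⟩ := h0
      fin_cases i <;> assumption
    have hdvdG : d p.1 ∣ 50232960 := hG ▸ Char.IsIrr.degree_dvd_card p.1.2 (hd p.1)
    have hd7 : d p.1 < 7088 := by
      have h := hsq p.1
      rw [hK] at h
      by_contra hcon
      have h7 : (7088 : ℤ) ≤ d p.1 := by exact_mod_cast Nat.le_of_not_lt hcon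
      have := mul_le_mul h7 h7 (by norm_num) (by linarith)
      push_cast at h
      linarith
    have hdegs : d p.1 ∈ degs := by
      have h := List.all_eq_true.1 degs_ok _ (List.mem_range.2 hd7)
      have h0 := hd0 p.1
      simp only [Nat.mod_eq_zero_of_dvd hdvdG, beq_self_eq_true, Bool.not_true, Bool.or_false,
        Bool.or_eq_true, beq_iff_eq, List.contains_iff_mem] at h
      exact h.resolve_left (by omega)
    have hlt : cV (col p) < d' p := by
      have hn := hnorm p.1
      rw [hcV p] at hn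
      refine lt_of_le_of_ne (by simp only [hd']; omega) fun e => ?_
      have hch := Char.IsIrr.isCharacter p.1.2
      have hv := vz p.1
      rw [hcV p, e] at hv
      rcases (inferInstance : (Char.kerSubgroup hch).Normal).eq_bot_or_eq_top with h | h
      · have hm : D.z ∈ Char.kerSubgroup hch := (Char.mem_kerSubgroup _).2 (by rw [hv, hd p.1]; simp [hd'])
        rw [h, Subgroup.mem_bot] at hm
        exact D.z_ne hm
      · have hconst : ∀ a, (p.1 : G → ℂ) a = (p.1 : G → ℂ) 1 := fun a =>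
          (Char.mem_kerSubgroup _).1 (h ▸ Subgroup.mem_top a)
        have h0 := Char.classInner_irr_ne p.1.2 Char.isIrrCharacter_one
          (fun e' => p.2 (Subtype.ext (e'.trans ho.symm)))
        rw [classInner, Finset.sum_congr rfl (g := fun _ => (p.1 : G → ℂ) 1) (fun a _ => by
          rw [hconst a, map_one, mul_one]), Finset.sum_const, Finset.card_univ, nsmul_eq_mul,
          ← Nat.card_eq_fintype_card, inv_mul_cancel_left₀ Char.card_ne_zero] at h0
        exact Char.IsIrr.one_ne_zero p.1.2 h0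
    refine mem_opts hcols hdegs ?_
    obtain ⟨t1, t2⟩ := hcT p
    have hn := hnorm p.1
    have hdv := hdvd p.1
    rw [hcV p] at hn hdv
    rw [hK] at hdv
    have hr := hall p.1 (d p.1) (hd p.1)
    simp only [hd'] at t1 t2 hlt
    simp only [opt, Bool.and_eq_true, decide_eq_true_eq]
    exact ⟨⟨⟨⟨⟨t1, t2⟩, hn⟩, hlt⟩, Int.emod_eq_zero_of_dvd (by exact_mod_cast hdv)⟩, by
      by_contra hc
      push Not at hc
      have := hr hc.1
      omega⟩
  -- the three rows
  set S3 := Finset.univ.filter fun p : ι => m' 3 p ≠ 0 with hS3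
  set S2 := Finset.univ.filter fun p : ι => m' 3 p = 0 ∧ m' 2 p ≠ 0 with hS2
  set S5 := Finset.univ.filter fun p : ι => m' 3 p = 0 ∧ m' 2 p = 0 ∧ m' 5 p ≠ 0 with hS5
  have hz : ∀ i p, m' i p = 0 → vec i p = 0 := fun i p h => by simp only [hvec, h]; exact mk_zero _ _
  have p3i : ∀ v ∈ it3, 1 ≤ p3 v := fun v hv => by
    have := List.all_eq_true.1 items_pos.1 v hv
    simp only [decide_eq_true_eq] at this
    omega
  have p2i : ∀ v ∈ it2, 1 ≤ p2 v := fun v hv => by
    have := List.all_eq_true.1 items_pos.2.1 v hv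
    simp only [decide_eq_true_eq] at this
    omega
  have p5i : ∀ v ∈ it5, 1 ≤ p5 v := fun v hv => by
    have := List.all_eq_true.1 items_pos.2.2.1 v hv
    simpa using this
  obtain ⟨t3, t2, t5, t55⟩ := targets
  have hone : ∀ p ∈ S3, m' 3 p * m' 3 p = 1 := fun p hp => by
    have h := List.all_eq_true.1 items_pos.1 _ (mem_items (pr := fun c => c.2.2.2.1)
      (sel := fun c => c.2.2.2.1 != 0) (hfit p 3 (Finset.mem_filter.1 hp).2) (by simpa using (Finset.mem_filter.1 hp).2))
    simpa [p3, DegCert.mk, hcoldef] using h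
  have hone2 : ∀ p ∈ S2, m' 2 p * m' 2 p = 1 := fun p hp => by
    obtain ⟨-, h0, h1⟩ := Finset.mem_filter.1 hp
    have h := List.all_eq_true.1 items_pos.2.1 _ (mem_items (pr := fun c => c.2.2.1)
      (sel := fun c => c.2.2.2.1 == 0 && c.2.2.1 != 0) (hfit p 2 h1) (by simp [hcoldef, h0, h1]))
    simpa [p2, DegCert.mk, hcoldef] using h
  -- the fourth row
  have hfn : ∀ p i, fn (col p) i = m' i p := fun p i => by fin_cases i <;> rfl
  set L := S3.toList.map (vec 3) with hL
  have hLsum : L.sum = tgt 3 := by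
    rw [hL, Finset.sum_map_toList, ← hsumvec 3]
    exact Finset.sum_subset (Finset.subset_univ _) fun p _ hp => hz 3 p (by simpa [hS3] using hp)
  have hLmem : ∀ v ∈ L, v ∈ it3 := fun v hv => by
    obtain ⟨p, hp, rfl⟩ := List.mem_map.1 hv
    rw [Finset.mem_toList] at hp
    exact mem_items (sel := fun c => c.2.2.2.1 != 0) (pr := fun c => c.2.2.2.1) (hfit p 3 (Finset.mem_filter.1 hp).2)
      (by simpa [hcoldef] using (Finset.mem_filter.1 hp).2)
  have hLsol : L ∈ sols it3 p3 3 (tgt 3) := by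
    rw [← hLsum]
    exact mem_sols it3 p3 (fun _ _ => rfl) p3i L 3 hLmem
      (fun e => by rw [e, List.sum_nil] at hLsum; rw [← hLsum] at t3; exact absurd t3 (by decide))
      (by rw [hLsum, t3]; norm_num)
  have hLok : pairsOK L = true := by
    have hne : ∀ v ∈ L, p7 v ≠ 0 := fun v hv => by
      have := List.all_eq_true.1 items_pos.2.2.2 v (hLmem v hv)
      simpa using this
    obtain ⟨hf0, hf⟩ := frac_spec L hne
    have hsum3 : (L.map fun v => (vV v : ℚ) ^ 2 / (p7 v : ℚ)).sum =
        ∑ p : ι, (m 3 p.1 : ℚ) * (((∑ i, coefV i * m i p.1 : ℤ) : ℚ) ^ 2 / ((d p.1 : ℤ) : ℚ)) := by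
      rw [hL, List.map_map, Finset.sum_map_toList]
      refine (Finset.sum_congr rfl fun p hp => ?_).trans (Finset.sum_subset (Finset.subset_univ S3) fun p _ hp => ?_)
      · obtain ⟨-, -, h3⟩ := smul_mk (col p) (m' 3 p) (d' p) (hone p hp)
        have hd1 : (d p.1 : ℚ) ≠ 0 := Nat.cast_ne_zero.2 (by have := hd0 p.1; omega)
        simp only [Function.comp, hvec, h3, hcV p]
        rcases mul_self_eq_one_iff.1 (hone p hp) with e | e <;>
          simp [p7, DegCert.mk, hd', e, hd1, show m 3 p.1 = m' 3 p from rfl, neg_div, div_neg]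
      · simp [show m 3 p.1 = 0 by simpa [hS3, hm'] using hp]
    rw [hsplit, hmo, ← hsum3, ← hf, hK] at hkey
    have hVo : ∑ i, coefV i * m i o = 1 := by simp only [hmo]; decide +kernel
    rw [hVo, hdo, show ((triv 3 : ℤ) : ℚ) = 1 by simp [triv]] at hkey
    have hf0' : ((frac L).2 : ℚ) ≠ 0 := Int.cast_ne_zero.2 hf0
    simp only [pairsOK, decide_eq_true_eq]
    refine Int.cast_injective (α := ℚ) ?_
    push_cast at hkey ⊢
    field_simp at hkey
    linear_combination hkey
  have hR := List.all_eq_true.1 row_four L hLsol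
  simp only [hLok, Bool.not_true, Bool.false_or, Bool.and_eq_true, beq_iff_eq] at hR
  obtain ⟨hR2, hR5⟩ := hR
  have hmap : ∀ (f : Vec → Vec) (i : Fin 7) (S : Finset ι) (j : Fin 7),
      (∀ p ∈ S, f (vec j p) = vec i p) → ((S.toList.map (vec j)).map f).sum = ∑ p ∈ S, vec i p := by
    intro f i S j h
    rw [List.map_map, Finset.sum_map_toList]
    exact Finset.sum_congr rfl h
  have e2 : ((L.map fun v => smulV (p2 v) v).sum) = ∑ p ∈ S3, vec 2 p := hmap _ 2 S3 3 fun p hp =>
    (smul_mk (col p) (m' 3 p) (d' p) (hone p hp)).1.trans (by simp only [hvec, hfn])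
  have e5 : ((L.map fun v => smulV (p5 v) v).sum) = ∑ p ∈ S3, vec 5 p := hmap _ 5 S3 3 fun p hp =>
    (smul_mk (col p) (m' 3 p) (d' p) (hone p hp)).2.1.trans (by simp only [hvec, hfn])
  -- the third row
  set M := S2.toList.map (vec 2) with hM
  have hrest : ∀ i, ∑ p, vec i p = ∑ p ∈ S3, vec i p + ∑ p ∈ Finset.univ.filter (fun p => m' 3 p = 0), vec i p := fun i => by
    rw [← Finset.sum_filter_add_sum_filter_not Finset.univ (fun p => m' 3 p = 0), add_comm]
  have hMsum : M.sum = R2 := by
    rw [hM, Finset.sum_map_toList]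
    have h := hsumvec 2
    rw [hrest 2, ← e2, ← hR2, add_right_inj] at h
    rw [← h]
    refine Finset.sum_subset (fun p hp => ?_) fun p hp1 hp2 => hz 2 p ?_
    · simp only [hS2, Finset.mem_filter, Finset.mem_univ, true_and] at hp ⊢
      exact hp.1
    · simp only [hS2, Finset.mem_filter, Finset.mem_univ, true_and] at hp1 hp2
      tauto
  have hMmem : ∀ v ∈ M, v ∈ it2 := fun v hv => by
    obtain ⟨p, hp, rfl⟩ := List.mem_map.1 hv
    rw [Finset.mem_toList] at hp
    obtain ⟨-, h0, h1⟩ := Finset.mem_filter.1 hp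
    exact mem_items (sel := fun c => c.2.2.2.1 == 0 && c.2.2.1 != 0) (pr := fun c => c.2.2.1) (hfit p 2 h1) (by simp [hcoldef, h0, h1])
  have hMsol : M ∈ sols it2 p2 2 R2 := by
    rw [← hMsum]
    exact mem_sols it2 p2 (fun _ _ => rfl) p2i M 2 hMmem
      (fun e => by rw [e, List.sum_nil] at hMsum; rw [← hMsum] at t2; exact absurd t2 (by decide))
      (by rw [hMsum, t2]; norm_num)
  have hB := List.all_eq_true.1 row_three M hMsol
  rw [beq_iff_eq, hmap _ 5 S2 2 fun p hp => (smul_mk (col p) (m' 2 p) (d' p) (hone2 p hp)).2.1.trans (by simp only [hvec, hfn])] at hB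
  rw [e5] at hR5
  -- the sixth row
  set N := S5.toList.map (vec 5) with hN
  have hNsum : N.sum = R5 := by
    rw [hN, Finset.sum_map_toList]
    have h := hsumvec 5
    rw [beq_iff_eq] at t55
    rw [hrest 5, hR5, ← t55, add_assoc, add_right_inj] at h
    rw [← Finset.sum_filter_add_sum_filter_not _ (fun p => m' 2 p = 0), add_comm, Finset.filter_filter, Finset.filter_filter] at h
    rw [show (Finset.univ.filter fun p : ι => m' 3 p = 0 ∧ ¬m' 2 p = 0) = S2 from rfl, hB, add_right_inj] at h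
    rw [← h]
    refine Finset.sum_subset (fun p hp => ?_) fun p hp1 hp2 => hz 5 p ?_
    · simp only [hS5, Finset.mem_filter, Finset.mem_univ, true_and] at hp ⊢
      exact ⟨hp.1, hp.2.1⟩
    · simp only [hS5, Finset.mem_filter, Finset.mem_univ, true_and] at hp1 hp2
      tauto
  have hNmem : ∀ v ∈ N, v ∈ it5 := fun v hv => by
    obtain ⟨p, hp, rfl⟩ := List.mem_map.1 hv
    rw [Finset.mem_toList] at hp
    obtain ⟨-, h0, h1, h2⟩ := Finset.mem_filter.1 hp
    exact mem_items (sel := fun c => c.2.2.2.1 == 0 && c.2.2.1 == 0 && c.2.2.2.2.2.1 != 0) (pr := fun c => c.2.2.2.2.2.1) (hfit p 5 h2) (by simp [hcoldef, h0, h1, h2])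
  have hNsol : N ∈ sols it5 p5 4 R5 := by
    rw [← hNsum]
    exact mem_sols it5 p5 (fun _ _ => rfl) p5i N 4 hNmem
      (fun e => by rw [e, List.sum_nil] at hNsum; rw [← hNsum] at t5; exact absurd t5 (by decide))
      (by rw [hNsum, t5]; norm_num)
  have h6 := row_six
  rw [List.isEmpty_iff] at h6
  rw [h6] at hNsol
  exact List.not_mem_nil hNsol

end JT

end Cfsg.Agent.JThreeRecog
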