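import Cfsg.Agent.JThreeRecog.Model
import Cfsg.Agent.S3377

/-!
A centraliser with an outer involution is the model: it has a complement permuting five anticommuting involutions.
-/

set_option autoImplicit false
set_option maxRecDepth 100000
set_option maxHeartbeats 1600000
set_option linter.all false

namespace Cfsg.Agent.JThreeRecog

open HallJanko Equiv

/-- A three-cycle. -/
def ax : A5 :=
  ⟨⟨![1, 2, 0, 3, 4], ![2, 0, 1, 3, 4], by decide, by decide⟩, by rw [Equiv.Perm.mem_alternatingGroup]; decide⟩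

/-- A five-cycle. -/
def ay : A5 :=
  ⟨⟨![2, 3, 4, 0, 1], ![3, 4, 0, 1, 2], by decide, by decide⟩, by rw [Equiv.Perm.mem_alternatingGroup]; decide⟩

/-- A three-cycle fixing the last letter. -/
def bx : A5 :=
  ⟨⟨![0, 2, 3, 1, 4], ![0, 3, 1, 2, 4], by decide, by decide⟩, by rw [Equiv.Perm.mem_alternatingGroup]; decide⟩

/-- Words for the cosets of the powers of the five-cycle. -/
def cosWord : Fin 12 → List Bool :=
  ![[],
    [true],
    [true, true],
    [true, true, false],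
    [true, true, false, true],
    [true, true, false, false],
    [true, true, false, true, true],
    [true, true, false, false, true],
    [true, true, false, true, true, false],
    [true, true, false, true, true, false, false],
    [true, true, false, true, true, false, false, true],
    [true, true, false, true, true, false, false, true, true]]

theorem ax_ay : ∀ σ : A5, ∃ j : Fin 5, ∃ i : Fin 12,
    σ = ay ^ j.val * ((cosWord i).map fun b => bif b then ax else ay).prod := by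
  decide +kernel

theorem ax_ay_rel : ax ^ 3 = 1 ∧ ay ^ 5 = 1 ∧ ay ≠ 1 ∧ (ax * ay) * (ax * ay) = 1 ∧ ax * ay ≠ 1 ∧
    ((ax : Perm (Fin 5)) 4 = 4) ∧ ((bx : Perm (Fin 5)) 4 = 4) ∧ ax ^ 3 = 1 ∧ bx ^ 3 = 1 := by
  decide +kernel

theorem stab_four : ∀ σ : A5, (σ : Perm (Fin 5)) 4 = 4 →
    ∃ i j k : Fin 3, σ = ax ^ i.val * bx ^ j.val * ax ^ k.val := by
  decide +kernel

theorem four_prod : ∀ a0 a1 a2 a3 : ZMod 2,
    M.zp a0 * M.e 0 * (M.zp a1 * M.e 1) * (M.zp a2 * M.e 2) * (M.zp a3 * M.e 3) =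
      M.zp (a0 + a1 + a2 + a3) * M.e 4 := by
  decide +kernel

theorem pow_four : ∀ m : M, m * m * (m * m) = 1 := by decide +kernel

variable {G : Type*} [Group G] [Finite G] {z : G} {Q : Subgroup G}

theorem exists_section (h : HJCore z Q) {t : G} (ht : Outer z Q t) (F : Frame z Q) :
    ∃ k : A5 →* G, ∀ σ, k σ * z = z * k σ ∧ F.π h (k σ) = (σ : Perm (Fin 5)) := by
  obtain ⟨r3, r5, ryn, rinv, rne, -⟩ := ax_ay_rel
  have hQ4 : ∀ q ∈ Q, q ^ 4 = 1 := fun q hq => by
    obtain ⟨m, rfl⟩ := F.ι_surj h hq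
    rw [← map_pow, show m ^ 4 = m * m * (m * m) by simp [pow_succ, mul_assoc], pow_four, map_one]
  have hzinv : z⁻¹ = z := h.zinv
  -- an involution over the product
  set τ : Perm (Fin 5) := ((ax * ay : A5) : Perm (Fin 5)) with hτ
  have hτ2 : τ * τ = 1 := congrArg Subtype.val rinv
  have hτ1 : τ ≠ 1 := fun e => rne (Subtype.ext e)
  obtain ⟨g1, hg1s, hg1⟩ := M.τ0_conj τ hτ2 hτ1 (ax * ay : A5).2
  have hσ2 : F.π h t * F.π h t = 1 := by
    rw [← F.π_mul h ht.comm ht.comm, Invol.mul_self_eq_one ht.ord, F.π_one h]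
  have hσ1 : F.π h t ≠ 1 := fun e => ht.notMem ((F.π_eq_one_iff h ht.comm).1 e)
  obtain ⟨g2, hg2s, hg2⟩ := M.τ0_conj _ hσ2 hσ1 (F.π_sign h ht.comm)
  obtain ⟨c, hc, hcπ⟩ := F.π_surj h (show Perm.sign (g1 * g2⁻¹) = 1 by
    rw [map_mul, map_inv, hg1s, hg2s, inv_one, one_mul])
  set s := c * t * c⁻¹ with hs
  have hsz : s * z = z * s :=
    (((show Commute c z from hc).mul_left ht.comm).mul_left (show Commute c z from hc).inv_left).eq
  have hsπ : F.π h s = τ := by rw [hs, F.π_conj h hc ht.comm, hcπ, ← hg2, ← hg1]; group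
  have hs2 : s * s = 1 := by
    rw [hs, show c * t * c⁻¹ * (c * t * c⁻¹) = c * (t * t) * c⁻¹ by group, Invol.mul_self_eq_one ht.ord]
    group
  -- an element of order three
  obtain ⟨c3, hc3, hc3π⟩ := F.π_surj h (σ := ((ax : A5) : Perm (Fin 5))) ax.2
  have hxz : c3 ^ 4 * z = z * c3 ^ 4 := ((show Commute c3 z from hc3).pow_left 4).eq
  have hx3 : (c3 ^ 4) ^ 3 = 1 := by
    rw [← pow_mul, show 4 * 3 = 3 * 4 from rfl, pow_mul]
    refine hQ4 _ ((F.π_eq_one_iff h ((show Commute c3 z from hc3).pow_left 3).eq).1 ?_)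
    rw [F.π_pow h hc3, hc3π, ← Subgroup.coe_pow, r3, Subgroup.coe_one]
  have hxπ : F.π h (c3 ^ 4) = ((ax : A5) : Perm (Fin 5)) := by
    rw [F.π_pow h hc3, hc3π, pow_succ, ← Subgroup.coe_pow, r3, Subgroup.coe_one, one_mul]
  set x := c3 ^ 4
  have hxi : x⁻¹ * z = z * x⁻¹ := (show Commute x z from hxz).inv_left.eq
  set y := x⁻¹ * s with hy
  have hyz : y * z = z * y := ((show Commute x⁻¹ z from hxi).mul_left hsz).eq
  have hyπ : F.π h y = ((ay : A5) : Perm (Fin 5)) := by
    rw [hy, F.π_mul h hxi hsz, F.π_inv h hxz, hxπ, hsπ, hτ, Subgroup.coe_mul, inv_mul_cancel_left]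
  have hy5Q : y ^ 5 ∈ Q := (F.π_eq_one_iff h ((show Commute y z from hyz).pow_left 5).eq).1 (by
    rw [F.π_pow h hyz, hyπ, ← Subgroup.coe_pow, r5, Subgroup.coe_one])
  have hp5 : (y ^ 16) ^ 5 = 1 := by
    rw [← pow_mul, show 16 * 5 = 5 * (4 * 4) from rfl, pow_mul, pow_mul, hQ4 _ hy5Q, one_pow]
  have hpne : y ^ 16 ≠ 1 := fun e => ryn (Subtype.ext (by
    have := congrArg (F.π h) e
    rw [F.π_pow h hyz, hyπ, ← Subgroup.coe_pow, show 16 = 5 * 3 + 1 from rfl, pow_succ, pow_mul, r5, one_pow,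
      one_mul, F.π_one h] at this
    exact this))
  have hy5 : y ^ 5 = 1 ∨ y ^ 5 = z := h.fix_five ((show Commute y z from hyz).pow_left 16).eq
    (orderOf_eq_prime (hp := ⟨by norm_num⟩) hp5 hpne) hy5Q ((Commute.refl y).pow_pow 16 5).eq
  obtain ⟨y', hy'z, hy'π, hy'5, hxy⟩ : ∃ y' : G, y' * z = z * y' ∧ F.π h y' = ((ay : A5) : Perm (Fin 5)) ∧
      y' ^ 5 = 1 ∧ (x * y') ^ 2 = 1 := by
    rcases hy5 with e | e
    · exact ⟨y, hyz, hyπ, e, by rw [hy, mul_inv_cancel_left, pow_two, hs2]⟩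
    · refine ⟨z * y, (((Commute.refl z)).mul_left hyz).eq, ?_, ?_, ?_⟩
      · rw [F.π_mul h rfl hyz, (F.π_eq_one_iff h rfl).2 h.zmem, one_mul, hyπ]
      · rw [(show Commute z y from hyz.symm).mul_pow, e, show z ^ 5 = (z * z) * (z * z) * z by simp [pow_succ, mul_assoc], h.zsq,
          one_mul, one_mul, h.zsq]
      · rw [hy, pow_two, show x * (z * (x⁻¹ * s)) = z * s by rw [← mul_assoc, hxz, mul_assoc, mul_inv_cancel_left],
          show z * s * (z * s) = z * (s * z) * s by group, hsz, show z * (z * s) * s = (z * z) * (s * s) by group,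
          h.zsq, hs2, one_mul]
  -- the map on the presented group
  let C := Subgroup.centralizer ({z} : Set G)
  let xC : C := ⟨x, mem_C.2 hxz⟩
  let yC : C := ⟨y', mem_C.2 hy'z⟩
  obtain ⟨eP⟩ := Cfsg.Agent.S3377.result
  set R : Set (FreeGroup (Fin 2)) := {FreeGroup.of (0 : Fin 2) ^ 3, FreeGroup.of (1 : Fin 2) ^ 5,
        (FreeGroup.of (0 : Fin 2) * FreeGroup.of 1) ^ 2} with hR
  have hrel : ∀ w ∈ R, FreeGroup.lift ![xC, yC] w = 1 := by
    intro w hw
    simp only [hR, Set.mem_insert_iff, Set.mem_singleton_iff] at hw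
    rcases hw with rfl | rfl | rfl
    · simp only [map_pow, FreeGroup.lift_apply_of]; exact Subtype.ext hx3
    · simp only [map_pow, FreeGroup.lift_apply_of]; exact Subtype.ext hy'5
    · simp only [map_pow, map_mul, FreeGroup.lift_apply_of]; exact Subtype.ext hxy
  let k0 := PresentedGroup.toGroup hrel
  let f : PresentedGroup R →* A5 := ((F.ρ h).codRestrict (alternatingGroup (Fin 5)) fun c => by
    have := F.π_sign h (mem_C.1 c.2)
    rwa [F.π_eq_ρ h (mem_C.1 c.2)] at this).comp k0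
  have hfspec : ∀ p, ((f p : A5) : Perm (Fin 5)) = F.π h ((k0 p : C) : G) := fun p => by
    show F.ρ h (k0 p) = _
    rw [F.π_eq_ρ h (mem_C.1 (k0 p).2)]
  have hfx : f (PresentedGroup.of 0) = ax := Subtype.ext (by
    rw [hfspec, show k0 (PresentedGroup.of 0) = xC from PresentedGroup.toGroup.of (h := hrel)]
    exact hxπ)
  have hfy : f (PresentedGroup.of 1) = ay := Subtype.ext (by
    rw [hfspec, show k0 (PresentedGroup.of 1) = yC from PresentedGroup.toGroup.of (h := hrel)]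
    exact hy'π)
  have hfs : Function.Surjective f := fun σ => by
    obtain ⟨j, i, rfl⟩ := ax_ay σ
    refine ⟨PresentedGroup.of 1 ^ j.val *
      ((cosWord i).map fun b => bif b then PresentedGroup.of 0 else PresentedGroup.of 1).prod, ?_⟩
    rw [map_mul, map_pow, hfy, map_list_prod, List.map_map]
    refine congrArg (fun w : A5 => ay ^ j.val * w) (congrArg List.prod (List.map_congr_left fun b _ => ?_))
    cases b
    · exact hfy
    · exact hfx
  haveI : Finite (PresentedGroup R) := Finite.of_equiv _ eP.symm.toEquiv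
  have hfb : Function.Bijective f :=
    (Nat.bijective_iff_surjective_and_card f).2 ⟨hfs, Nat.card_congr eP.toEquiv⟩
  let ef := MulEquiv.ofBijective f hfb
  refine ⟨C.subtype.comp (k0.comp ef.symm.toMonoidHom), fun σ => ⟨mem_C.1 (k0 (ef.symm σ)).2, ?_⟩⟩
  show F.π h ((k0 (ef.symm σ) : C) : G) = _
  rw [← hfspec]
  exact congrArg Subtype.val (ef.apply_symm_apply σ)

/-- The centraliser is the model. -/
theorem exists_emb (h : HJCore z Q) {t : G} (ht : Outer z Q t) :
    ∃ emb : W →* G, Function.Injective emb ∧ emb zW = z ∧ (∀ w, emb w * z = z * emb w) ∧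
      ∀ c : G, c * z = z * c → ∃ w, emb w = c := by
  obtain ⟨F⟩ := h.exists_frame
  obtain ⟨k, hk⟩ := exists_section h ht F
  obtain ⟨-, -, -, -, -, hax4, hbx4, hax3, hbx3⟩ := ax_ay_rel
  set s := F.ι (M.e 4) with hs
  have hk3 : ∀ σ : A5, σ ^ 3 = 1 → (σ : Perm (Fin 5)) 4 = 4 → k σ * s * (k σ)⁻¹ = s := by
    intro σ h3 h4
    obtain ⟨a, ha⟩ := F.π_spec h (hk σ).1 4
    rw [(hk σ).2, h4, ← hs, map_mul, F.ι_zp, ← hs] at ha
    rcases z2_cases a with rfl | rfl
    · rw [ha, pw_zero, one_mul]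
    · exfalso
      rw [pw_one] at ha
      have hkz : k σ * z * (k σ)⁻¹ = z := by rw [(hk σ).1, mul_inv_cancel_right]
      have e2 : k σ ^ 2 * s * (k σ ^ 2)⁻¹ = s := by
        calc k σ ^ 2 * s * (k σ ^ 2)⁻¹ = k σ * (k σ * s * (k σ)⁻¹) * (k σ)⁻¹ := by rw [pow_two]; group
          _ = (k σ * z * (k σ)⁻¹) * (k σ * s * (k σ)⁻¹) := by
              conv_lhs => rw [ha]
              group
          _ = s := by rw [hkz, ha, ← mul_assoc, h.zsq, one_mul]
      have h3' : k σ ^ 3 = 1 := by rw [← map_pow, h3, map_one]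
      refine h.zne (mul_right_cancel (b := s) ?_)
      rw [one_mul]
      calc z * s = k σ * (k σ ^ 2 * s * (k σ ^ 2)⁻¹) * (k σ)⁻¹ := by rw [e2, ha]
        _ = k σ ^ 3 * s * (k σ ^ 3)⁻¹ := by rw [pow_succ (k σ) 2, pow_two]; group
        _ = s := by rw [h3', one_mul, inv_one, mul_one]
  let St : Subgroup G := Subgroup.centralizer {s}
  have hin : ∀ σ : A5, σ ^ 3 = 1 → (σ : Perm (Fin 5)) 4 = 4 → σ ∈ St.comap k := fun σ a b =>
    mem_C.2 (mul_inv_eq_iff_eq_mul.1 (hk3 σ a b))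
  have hstab : ∀ σ : A5, (σ : Perm (Fin 5)) 4 = 4 → k σ * s * (k σ)⁻¹ = s := by
    intro σ h4
    obtain ⟨i, j, l, rfl⟩ := stab_four σ h4
    have hm : ax ^ i.val * bx ^ j.val * ax ^ l.val ∈ St.comap k :=
      mul_mem (mul_mem (pow_mem (hin ax hax3 hax4) _) (pow_mem (hin bx hbx3 hbx4) _)) (pow_mem (hin ax hax3 hax4) _)
    exact mul_inv_eq_iff_eq_mul.2 (mem_C.1 hm)
  have htr : ∀ i : Fin 5, ∃ σ : A5, (σ : Perm (Fin 5)) 4 = i := fun i => by
    obtain ⟨g, hg, hgi⟩ := M.even_trans 4 i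
    exact ⟨⟨g, hg⟩, hgi⟩
  choose rep hrep using htr
  set u : Fin 5 → G := fun i => k (rep i) * s * (k (rep i))⁻¹ with hu
  have heq : ∀ (σ : A5) (i : Fin 5), k σ * u i * (k σ)⁻¹ = u ((σ : Perm (Fin 5)) i) := by
    intro σ i
    set ρ := (rep ((σ : Perm (Fin 5)) i))⁻¹ * (σ * rep i) with hρ
    have hρ4 : (ρ : Perm (Fin 5)) 4 = 4 := by
      rw [hρ, Subgroup.coe_mul, Subgroup.coe_inv, Subgroup.coe_mul, Perm.mul_apply, Perm.mul_apply, hrep,
        Perm.inv_def, Equiv.symm_apply_eq, hrep]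
    have := hstab ρ hρ4
    rw [hρ, map_mul, map_inv, map_mul] at this
    calc k σ * u i * (k σ)⁻¹ = k (rep ((σ : Perm (Fin 5)) i)) *
          ((k (rep ((σ : Perm (Fin 5)) i)))⁻¹ * (k σ * k (rep i)) * s *
            ((k (rep ((σ : Perm (Fin 5)) i)))⁻¹ * (k σ * k (rep i)))⁻¹) *
          (k (rep ((σ : Perm (Fin 5)) i)))⁻¹ := by simp only [hu]; group
      _ = _ := by rw [this]
  have hform : ∀ i, ∃ a : ZMod 2, u i = F.ι (M.zp a * M.e i) := fun i => by
    obtain ⟨a, ha⟩ := F.π_spec h (hk (rep i)).1 4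
    rw [(hk _).2, hrep] at ha
    exact ⟨a, ha⟩
  choose a ha using hform
  have hu4 : u 4 = s := hstab _ (hrep 4)
  set b : ZMod 2 := a 0 + a 1 + a 2 + a 3 with hb
  set v : Fin 5 → G := fun i => pw z b * u i with hv
  have hvform : ∀ i, v i = F.ι (M.zp (b + a i) * M.e i) := fun i => by
    rw [hv]
    simp only [ha, map_mul, F.ι_zp, pw_add h.zsq, mul_assoc]
  have heqv : ∀ (σ : A5) (i : Fin 5), k σ * v i * (k σ)⁻¹ = v ((σ : Perm (Fin 5)) i) := fun σ i => by
    have hc : k σ * pw z b = pw z b * k σ := (pw_comm (g := z) (hk σ).1.symm b).symm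
    simp only [hv]
    rw [← mul_assoc (k σ), hc, ← heq]
    group
  have ha4 : a 4 = 0 := by
    have e := (ha 4).symm.trans hu4
    rw [hs] at e
    exact (M.e_class 4 4 (a 4) 0 (F.ι_inj (by rw [M.zp_zero, one_mul]; exact e))).1
  let F' : Frame z Q :=
    { s := fun i => v i.castSucc
      base :=
        { sq := fun i => by rw [hvform, ← map_mul, M.zp_e_sq, map_one]
          zsq := h.zsq
          zne := h.zne
          zc := fun i => by rw [hvform]; exact (F.ι_comm h _).symm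
          anti := fun i j hij => by
            rw [hvform, hvform, ← map_mul, M.zp_e_anti _ _ _ _ (fun e => hij (Fin.castSucc_injective 4 e)),
              map_mul, map_mul, F.ι_zM] }
      mem := fun i => by rw [hvform]; exact F.ι_mem h _ }
  have hF' : ∀ i, F'.ι (M.e i) = v i := by
    refine Fin.lastCases ?_ fun j => F'.ι_e j
    refine F'.base.hom_e_four.trans ?_
    show v 0 * v 1 * v 2 * v 3 = v 4
    rw [hvform, hvform, hvform, hvform, hvform, ← map_mul, ← map_mul, ← map_mul]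
    refine congrArg F.ι ((four_prod _ _ _ _).trans ?_)
    rw [ha4, hb]
    congr 2
    generalize a 0 = a0, a 1 = a1, a 2 = a2, a 3 = a3
    revert a0 a1 a2 a3
    decide
  have hcompat : ∀ σ : A5, F'.ι.comp (permAct σ).toMonoidHom = (MulAut.conj (k σ)).toMonoidHom.comp F'.ι := by
    intro σ
    refine F'.base.ext_base ?_ fun i => ?_
    · show F'.ι (permAct σ M.zM) = k σ * F'.ι M.zM * (k σ)⁻¹
      rw [show permAct σ M.zM = M.zM from (act_base σ).hom_zM, F'.ι_zM, (hk σ).1, mul_inv_cancel_right]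
    · show F'.ι (permAct σ (M.e i.castSucc)) = k σ * F'.ι (M.e i.castSucc) * (k σ)⁻¹
      rw [permAct_e, hF', hF', heqv]
  let emb : W →* G := SemidirectProduct.lift F'.ι k hcompat
  have hemb : ∀ w : W, emb w = F'.ι w.left * k w.right := fun w => rfl
  refine ⟨emb, (injective_iff_map_eq_one _).2 fun w hw => ?_, ?_, fun w => ?_, fun c hc => ?_⟩
  · rw [hemb] at hw
    have hπ := congrArg (F.π h) hw
    rw [F.π_mul h (F'.ι_comm h _) (hk _).1, (F.π_eq_one_iff h (F'.ι_comm h _)).2 (F'.ι_mem h _), one_mul, (hk _).2,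
      F.π_one h] at hπ
    have hr : w.right = 1 := Subtype.ext hπ
    rw [hr, map_one, mul_one] at hw
    exact SemidirectProduct.ext (F'.ι_inj (hw.trans (map_one _).symm)) hr
  · rw [hemb]
    simp [zW, F'.ι_zM]
  · rw [hemb]
    exact ((show Commute (F'.ι w.left) z from F'.ι_comm h _).mul_left (hk _).1).eq
  · set σ : A5 := ⟨F.π h c, F.π_sign h hc⟩
    have hki : (k σ)⁻¹ * z = z * (k σ)⁻¹ := (show Commute (k σ) z from (hk σ).1).inv_left.eq
    have hm : c * (k σ)⁻¹ ∈ Q := (F.π_eq_one_iff h ((show Commute c z from hc).mul_left hki).eq).1 (by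
      rw [F.π_mul h hc hki, F.π_inv h (hk σ).1, (hk σ).2, mul_inv_cancel])
    obtain ⟨m, hm'⟩ := F'.ι_surj h hm
    exact ⟨⟨m, σ⟩, by rw [hemb]; show F'.ι m * k σ = c; rw [hm', inv_mul_cancel_right]⟩

end Cfsg.Agent.JThreeRecog
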