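import Cfsg.Agent.JThreeRecog.WFacts

/-!
Elements of order five and sixteen in the model.
-/

set_option autoImplicit false
set_option maxRecDepth 100000
set_option linter.all false
set_option maxHeartbeats 1600000

namespace Cfsg.Agent.JThreeRecog

open HallJanko Equiv

/-- Squaring. -/
def tsq (t : T) : T := tmul t t

theorem five_classes : ((List.range 16).all fun c =>
    !(tpow (repT c) 5 == tone) || c == 0 ||
      ((List.range 1920).all (fun n => !(tmul (dec n) (repT c) == tmul (repT c) (dec n)) ||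
          ((tpow (dec n) 10 == tone) && (!(tsq (dec n) == tone) || dec n == tone || dec n == tz))) &&
        (List.range 1920).any (fun n => tsq (dec n) == tone && !(dec n == tone) && !(dec n == tz) &&
          tmul (tmul (dec n) (repT c)) (tmul (dec n) (repT c)) == tone))) = true := by
  decide +kernel

theorem no_sixteen : ((List.range 16).all fun c =>
    !(tpow (repT c) 16 == tone) || tpow (repT c) 8 == tone) = true := by
  decide +kernel

theorem conj_rel {Γ : Type*} [Group Γ] (g w r : Γ) (h : w * r * (w * r) = 1) :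
    g * w * g⁻¹ * (g * r * g⁻¹) * (g * w * g⁻¹ * (g * r * g⁻¹)) = 1 := by
  rw [show g * w * g⁻¹ * (g * r * g⁻¹) * (g * w * g⁻¹ * (g * r * g⁻¹)) = g * (w * r * (w * r)) * g⁻¹ by group, h]
  group

variable [Fintype W]

theorem toT_eq_iff (a b : W) : toT a = toT b ↔ a = b := toT_injective.eq_iff

/-- The centraliser of an element of order five, and an involution inverting it. -/
theorem five_facts {x : W} (h5 : x ^ 5 = 1) (hx : x ≠ 1) :
    (∀ u, u * x = x * u → u ^ 10 = 1 ∧ (u * u = 1 → u = 1 ∨ u = zW)) ∧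
      ∃ w, w * w = 1 ∧ w ≠ 1 ∧ w ≠ zW ∧ w * x * (w * x) = 1 := by
  obtain ⟨r, hr, hrc⟩ := exists_rep (cls_lt x)
  obtain ⟨g, rfl⟩ := isConj_iff.1 ((isConj_iff_cls r x).2 hrc)
  have hr5 : r ^ 5 = 1 := by
    rw [conj_pow] at h5
    exact conj_eq_one_iff.1 h5
  have hr1 : r ≠ 1 := fun e => hx (by rw [e]; group)
  have h := List.all_eq_true.1 five_classes (cls (g * r * g⁻¹)) (List.mem_range.2 (cls_lt _))
  rw [cls_conj] at hrc hr h
  simp only [Bool.or_eq_true, Bool.not_eq_true', Bool.and_eq_true, List.all_eq_true, List.any_eq_true,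
    beq_iff_eq, beq_eq_false_iff_ne, List.mem_range, tsq, ← hr] at h
  rcases h with (h | h) | ⟨hc, n, hn, ⟨⟨n1, n2⟩, n3⟩, n4⟩
  · exact absurd (by rw [← toT_pow, hr5, toT_one]) h
  · exact absurd (cls_eq_zero h) hr1
  · refine ⟨fun u hu => ?_, ?_⟩
    · have hv : g⁻¹ * u * g * r = r * (g⁻¹ * u * g) := by
        calc g⁻¹ * u * g * r = g⁻¹ * (u * (g * r * g⁻¹)) * g := by group
          _ = r * (g⁻¹ * u * g) := by rw [hu]; group
      have := (hc (pos (toT (g⁻¹ * u * g))) (dec_eq _).1)
      rw [dec_pos, ← toT_mul, ← toT_mul, ← toT_mul, ← toT_pow, ← toT_one, ← toT_zW] at this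
      simp only [toT_eq_iff, ne_eq, hv, not_true_eq_false, false_or] at this
      obtain ⟨a, b⟩ := this
      have e : u = g * (g⁻¹ * u * g) * g⁻¹ := by group
      refine ⟨by rw [e, conj_pow, a]; group, fun hu2 => ?_⟩
      rcases b with (b | b) | b
      · exact absurd (by rw [show g⁻¹ * u * g * (g⁻¹ * u * g) = g⁻¹ * (u * u) * g by group, hu2]; group) b
      · left; rw [e, b]; group
      · right; rw [e, b, zW_central, mul_inv_cancel_right]
    · obtain ⟨w, hw⟩ := dec_surj hn
      rw [← hw] at n1 n2 n3 n4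
      rw [← toT_mul, ← toT_one, toT_eq_iff] at n1
      rw [← toT_one] at n2
      rw [← toT_zW] at n3
      rw [← toT_mul, ← toT_mul, ← toT_one, toT_eq_iff] at n4
      refine ⟨g * w * g⁻¹, by rw [show g * w * g⁻¹ * (g * w * g⁻¹) = g * (w * w) * g⁻¹ by group, n1]; group,
        fun e => n2 (congrArg toT (conj_eq_one_iff.1 e)), fun e => n3 (congrArg toT ?_), ?_⟩
      · calc w = g⁻¹ * (g * w * g⁻¹) * g := by group
          _ = zW := by rw [e, mul_assoc, ← zW_central g, inv_mul_cancel_left]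
      · exact conj_rel g w r n4

theorem pow_sixteen {w : W} (h : w ^ 16 = 1) : w ^ 8 = 1 := by
  obtain ⟨r, hr, hrc⟩ := exists_rep (cls_lt w)
  obtain ⟨g, rfl⟩ := isConj_iff.1 ((isConj_iff_cls r w).2 hrc)
  have h' := List.all_eq_true.1 no_sixteen (cls (g * r * g⁻¹)) (List.mem_range.2 (cls_lt _))
  simp only [Bool.or_eq_true, Bool.not_eq_true', beq_iff_eq, beq_eq_false_iff_ne, ← hr, ← toT_pow,
    ← toT_one, toT_eq_iff, ne_eq] at h'
  rw [conj_pow] at h ⊢
  rw [conj_eq_one_iff.1 h] at h'
  rw [h'.resolve_left (by simp)]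
  group

end Cfsg.Agent.JThreeRecog
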