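import Cfsg.Agent.JThreeRecog.Main
import Cfsg.Agent.JThreeRecog.WLocal
import Mathlib.GroupTheory.Transfer
import Mathlib.GroupTheory.SpecificGroups.Cyclic

/-!
Elements of order five, seventeen and nineteen.
-/

set_option autoImplicit false
set_option maxRecDepth 100000
set_option linter.all false

namespace Cfsg.Agent.JThreeRecog

open Subgroup
open scoped Pointwise

universe u

/-- An involution of a finite set of odd size fixes an odd number of points. -/
theorem odd_fixed {α : Type*} [DecidableEq α] (s : Finset α) (f : α → α) (hf : ∀ a ∈ s, f a ∈ s)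
    (hf2 : ∀ a ∈ s, f (f a) = a) (h : Odd s.card) : Odd (s.filter fun a => f a = a).card := by
  have h0 : ∑ a ∈ s.filter (fun a => ¬f a = a), (1 : ZMod 2) = 0 := by
    refine Finset.sum_involution (fun a _ => f a) (fun a _ => by decide) (fun a ha _ => (Finset.mem_filter.1 ha).2)
      (fun a ha => ?_) (fun a ha => hf2 a (Finset.mem_filter.1 ha).1)
    obtain ⟨h1, h2⟩ := Finset.mem_filter.1 ha
    exact Finset.mem_filter.2 ⟨hf a h1, fun e => h2 (by rw [hf2 a h1] at e; exact e.symm)⟩
  rw [Finset.sum_const, nsmul_eq_mul, mul_one, ZMod.natCast_eq_zero_iff_even] at h0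
  rw [← Finset.card_filter_add_card_filter_not (p := fun a => f a = a), Nat.odd_add] at h
  exact h.2 h0

/-- A subgroup of index two contains the elements of odd order. -/
theorem mem_of_index_two {G : Type*} [Group G] {H : Subgroup G} (hH : H.index = 2) {y : G} {m : ℕ}
    (hm : Odd m) (hy : y ^ m = 1) : y ∈ H := by
  obtain ⟨k, rfl⟩ := hm
  have e : (y ^ 2) ^ (k + 1) = y := by
    rw [← pow_mul, show 2 * (k + 1) = (2 * k + 1) + 1 by ring, pow_succ, hy, one_mul]
  rw [← e]
  exact pow_mem (Subgroup.sq_mem_of_index_two hH y) _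

/-- The centraliser of a generated subgroup. -/
theorem mem_centralizer_zpowers {G : Type*} [Group G] {g c : G} :
    c ∈ centralizer ((zpowers g : Subgroup G) : Set G) ↔ c * g = g * c := by
  rw [mem_centralizer_iff]
  constructor
  · exact fun h => (h g (mem_zpowers g)).symm
  · rintro h _ ⟨n, rfl⟩
    exact ((show Commute c g from h).zpow_right n).eq.symm

theorem finite_W : Finite W := Nat.finite_of_card_ne_zero (by rw [card_W]; norm_num)

namespace JT

variable {G : Type u} [Group G] (D : JT G) [Finite G]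
include D

/-- An element commuting with an involution is conjugate into the centraliser. -/
theorem into_cc {u g : G} (u2 : u * u = 1) (u1 : u ≠ 1) (hug : u * g = g * u) :
    ∃ (h : G) (w : W), D.emb w = h * g * h⁻¹ := by
  obtain ⟨h, hh⟩ := isConj_iff.1 (D.isConj_z u2 u1).symm
  obtain ⟨w, hw⟩ := D.onto (h * g * h⁻¹) (by
    rw [← hh, show h * g * h⁻¹ * (h * u * h⁻¹) = h * (g * u) * h⁻¹ by group, ← hug]
    group)
  exact ⟨h, w, hw⟩

theorem orderOf_dvd_of_comm {u g : G} (u2 : u * u = 1) (u1 : u ≠ 1) (hug : u * g = g * u) : orderOf g ∣ 1920 := by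
  haveI := finite_W
  obtain ⟨h, w, hw⟩ := D.into_cc u2 u1 hug
  have e : orderOf g = orderOf (h * g * h⁻¹) := (MulEquiv.orderOf_eq (MulAut.conj h) g).symm
  rw [e, ← hw, orderOf_injective D.emb D.inj, ← card_W]
  exact orderOf_dvd_natCard w

theorem no_sixteen {v : G} (h : v ^ 16 = 1) : v ^ 8 = 1 := by
  haveI := finite_W
  haveI := Fintype.ofFinite W
  by_contra h8
  obtain ⟨k, w, hw⟩ := D.into_cc (u := v ^ 8) (g := v) (by rw [← pow_add]; exact h) h8
    (Commute.pow_self v 8).eq
  have hw16 : w ^ 16 = 1 := D.inj (by rw [map_pow, hw, conj_pow, h, map_one]; group)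
  have := congrArg D.emb (pow_sixteen hw16)
  rw [map_pow, hw, conj_pow, map_one] at this
  exact h8 (conj_eq_one_iff.1 this)

variable [IsSimpleGroup G]

theorem conj_five {x : G} (hx : orderOf x = 5) : ∃ (h : G) (w : W), D.emb w = h * x * h⁻¹ := by
  classical
  haveI := finite_W
  haveI : Fact (Nat.Prime 5) := ⟨by norm_num⟩
  obtain ⟨w0, hw0⟩ := exists_prime_orderOf_dvd_card' (G := W) 5 (by rw [card_W]; norm_num)
  obtain ⟨P, hP⟩ := (IsPGroup.of_card (p := 5) (n := 1)
    (show Nat.card (zpowers x) = 5 ^ 1 by rw [Nat.card_zpowers, hx, pow_one])).exists_le_sylow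
  obtain ⟨Q, hQ⟩ := (IsPGroup.of_card (p := 5) (n := 1)
    (show Nat.card (zpowers (D.emb w0)) = 5 ^ 1 by
      rw [Nat.card_zpowers, orderOf_injective D.emb D.inj, hw0, pow_one])).exists_le_sylow
  have hcard : Nat.card Q = 5 := by
    obtain ⟨n, hn⟩ := IsPGroup.iff_card.1 Q.isPGroup'
    have hd : Nat.card Q ∣ Nat.card G := Subgroup.card_subgroup_dvd_card _
    have h1 : 1 ≤ n := by
      by_contra h0
      have := Subgroup.card_dvd_of_le hQ
      rw [Nat.card_zpowers, orderOf_injective D.emb D.inj, hw0, hn, show n = 0 by omega] at this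
      norm_num at this
    rw [hn, D.order] at hd
    rcases Nat.lt_or_ge n 2 with h2 | h2
    · rw [hn, show n = 1 by omega, pow_one]
    · exact absurd ((pow_dvd_pow 5 h2).trans hd) (by norm_num)
  have hQeq : zpowers (D.emb w0) = (Q : Subgroup G) := Subgroup.eq_of_le_of_card_ge hQ
    (by rw [Nat.card_zpowers, orderOf_injective D.emb D.inj, hw0, hcard])
  obtain ⟨h, hh⟩ := MulAction.exists_smul_eq G P Q
  have hm : MulAut.conj h • x ∈ MulAut.conj h • (P : Subgroup G) :=
    Subgroup.smul_mem_pointwise_smul _ _ _ (hP (mem_zpowers x))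
  rw [← Sylow.pointwise_smul_def, ← Sylow.smul_def, hh] at hm
  rw [← hQeq] at hm
  obtain ⟨k, hk⟩ := hm
  exact ⟨h, w0 ^ k, by rw [map_zpow]; exact hk⟩

/-- An element of order five commutes with no element of order seventeen or nineteen. -/
theorem five_commute {x g : G} {p : ℕ} (hp : p = 17 ∨ p = 19) (hx : orderOf x = 5) (hg : orderOf g = p)
    (hc : g * x = x * g) : False := by
  classical
  haveI := finite_W
  haveI := Fintype.ofFinite W
  haveI := Fintype.ofFinite G
  obtain ⟨h, w5, hw5⟩ := D.conj_five hx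
  -- conjugate so that the element of order five is in the centraliser of the involution
  obtain ⟨x', g', hx', hg', hc'⟩ : ∃ x' g' : G, x' = D.emb w5 ∧ orderOf g' = p ∧ g' * x' = x' * g' :=
    ⟨_, h * g * h⁻¹, hw5.symm, hg ▸ MulEquiv.orderOf_eq (MulAut.conj h) g, by
      rw [show h * g * h⁻¹ * (h * x * h⁻¹) = h * (g * x) * h⁻¹ by group, hc]; group⟩
  have hx'5 : orderOf x' = 5 := by
    rw [hx', hw5, ← hx]; exact MulEquiv.orderOf_eq (MulAut.conj h) x
  have hw55 : orderOf w5 = 5 := by rw [← orderOf_injective D.emb D.inj, ← hx', hx'5]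
  obtain ⟨hcen, wi, wi2, wi1, wiz, wix⟩ := five_facts (x := w5)
    (orderOf_dvd_iff_pow_eq_one.1 hw55.dvd) (fun e => by rw [e, orderOf_one] at hw55; norm_num at hw55)
  set C := centralizer ({x'} : Set G) with hC
  have hmemC : ∀ {c : G}, c ∈ C ↔ c * x' = x' * c := fun {c} => Subgroup.mem_centralizer_singleton_iff
  have hzC : D.z ∈ C := hmemC.2 (by rw [hx']; exact (D.comm w5).symm)
  have hsmall : ∀ u ∈ C, u * D.z = D.z * u → u ^ 4 = 1 → u = 1 ∨ u = D.z := by
    intro u huC hu hu4
    obtain ⟨v, rfl⟩ := D.onto u hu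
    have hv : v * w5 = w5 * v := D.inj (by rw [map_mul, map_mul, ← hx']; exact hmemC.1 huC)
    obtain ⟨h10, hinv⟩ := hcen v hv
    have hv4 : v ^ 4 = 1 := D.inj (by rw [map_pow, hu4, map_one])
    have hv2 : v * v = 1 := by
      have : v ^ 10 = v ^ 4 * v ^ 4 * (v * v) := by group
      rwa [h10, hv4, one_mul, one_mul, eq_comm] at this
    rcases hinv hv2 with rfl | rfl
    · exact Or.inl (map_one _)
    · exact Or.inr D.emb_z
  haveI : Fact (Nat.Prime 2) := ⟨Nat.prime_two⟩
  set zC : C := ⟨D.z, hzC⟩ with hzCdef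
  have hzo : orderOf zC = 2 := by rw [Subgroup.orderOf_mk, D.ord]
  have h2 : 2 ∣ Nat.card C := hzo ▸ orderOf_dvd_natCard zC
  have h4 : ¬4 ∣ Nat.card C := fun h4 => by
    obtain ⟨H, hH, hle⟩ := Sylow.exists_subgroup_card_pow_prime_le 2 (n := 1) (m := 2) (by simpa using h4)
      (zpowers zC) (by rw [Nat.card_zpowers, hzo, pow_one]) (by norm_num)
    have hsub : ∀ u : H, (u : C) = 1 ∨ (u : C) = zC := fun u => by
      have hc := IsPGroup.commutative_of_card_eq_prime_sq hH u ⟨zC, hle (mem_zpowers zC)⟩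
      have h4' : u ^ 4 = 1 := by
        rw [show (4 : ℕ) = Nat.card H by rw [hH]; norm_num]
        exact pow_card_eq_one'
      rcases hsmall ((u : C) : G) u.1.2 (congrArg (fun y : H => ((y : C) : G)) hc)
          (by simpa using congrArg (fun y : H => ((y : C) : G)) h4') with e | e
      · exact Or.inl (Subtype.ext e)
      · exact Or.inr (Subtype.ext e)
    have hsub' : (H : Set C) ⊆ {1, zC} := fun u hu => hsub ⟨u, hu⟩
    have := Set.ncard_le_ncard hsub'
    rw [← Nat.card_coe_set_eq] at this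
    have h3 : ({1, zC} : Set C).ncard ≤ 2 := (Set.ncard_insert_le _ _).trans (by simp)
    have : Nat.card H ≤ 2 := this.trans h3
    rw [hH] at this
    norm_num at this
  obtain ⟨S2⟩ : Nonempty (Sylow 2 C) := inferInstance
  have hS2 : Nat.card S2 = 2 := by
    obtain ⟨n, hn⟩ := IsPGroup.iff_card.1 S2.isPGroup'
    have hd : Nat.card S2 ∣ Nat.card C := Subgroup.card_subgroup_dvd_card _
    have h1 : 2 ∣ Nat.card S2 := by
      have := S2.pow_dvd_card_of_pow_dvd_card (n := 1) (by simpa using h2)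
      simpa using this
    rcases Nat.lt_or_ge n 2 with hn2 | hn2
    · interval_cases n
      · rw [hn] at h1; norm_num at h1
      · rw [hn]; rfl
    · exact absurd ((pow_dvd_pow 2 hn2).trans (hn ▸ hd)) h4
  haveI : IsCyclic S2 := isCyclic_of_prime_card hS2
  have hmin : (Nat.card C).minFac = 2 := (Nat.minFac_eq_two_iff _).2 h2
  set K := (MonoidHom.transferSylow S2 (IsCyclic.normalizer_le_centralizer hmin inferInstance)).ker
  have hKc : K.IsComplement' (S2 : Subgroup C) := IsCyclic.isComplement' hmin inferInstance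
  have hKi : K.index = 2 := by rw [hKc.symm.index_eq_card, hS2]
  have hKodd : Odd (Nat.card K) := by
    rw [Nat.odd_iff]
    by_contra h
    refine h4 ?_
    rw [← K.card_mul_index, hKi]
    exact Nat.mul_dvd_mul (show 2 ∣ Nat.card K by omega) dvd_rfl
  haveI : Fact p.Prime := ⟨by rcases hp with rfl | rfl <;> norm_num⟩
  have hpodd : Odd p := by rcases hp with rfl | rfl <;> decide
  have hg'1 : g' ^ p = 1 := hg' ▸ pow_orderOf_eq_one g'
  have hg'C : g' ∈ C := hmemC.2 hc'
  have hg'K : (⟨g', hg'C⟩ : C) ∈ K := mem_of_index_two hKi hpodd (Subtype.ext hg'1)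
  set S : Finset (Subgroup G) := Finset.univ.filter fun X => X ≤ C ∧ Nat.card X = p with hS
  have hfK : (Nat.card K).factorization p = 1 := by
    have hd : p ∣ Nat.card K := by
      have := orderOf_dvd_natCard (⟨⟨g', hg'C⟩, hg'K⟩ : K)
      rwa [Subgroup.orderOf_mk, Subgroup.orderOf_mk, hg'] at this
    have h1 := (Fact.out : p.Prime).dvd_iff_one_le_factorization Nat.card_pos.ne' |>.1 hd
    have h2 : ¬p ^ 2 ∣ Nat.card K := fun hh => by
      have := hh.trans ((Subgroup.card_subgroup_dvd_card K).trans (Subgroup.card_subgroup_dvd_card C))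
      rw [D.order] at this
      rcases hp with rfl | rfl <;> norm_num at this
    rw [(Fact.out : p.Prime).pow_dvd_iff_le_factorization Nat.card_pos.ne'] at h2
    omega
  have hSodd : Odd S.card := by
    have hbij : Nat.card (Sylow p K) = S.card := by
      rw [← Nat.card_eq_finsetCard]
      refine Nat.card_congr (Equiv.ofBijective
        (fun P : Sylow p K => (⟨((P : Subgroup K).map K.subtype).map C.subtype, ?_⟩ : S)) ⟨?_, ?_⟩)
      · refine Finset.mem_filter.2 ⟨Finset.mem_univ _, Subgroup.map_subtype_le _, ?_⟩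
        rw [Subgroup.card_map_of_injective C.subtype_injective, Subgroup.card_map_of_injective K.subtype_injective,
          P.card_eq_multiplicity, hfK, pow_one]
      · intro P Q hPQ
        exact Sylow.ext (Subgroup.map_injective K.subtype_injective (Subgroup.map_injective C.subtype_injective
          (congrArg Subtype.val hPQ)))
      · rintro ⟨X, hX⟩
        obtain ⟨-, hXC, hXp⟩ := Finset.mem_filter.1 hX
        have hXK : X.subgroupOf C ≤ K := fun y hy => mem_of_index_two hKi hpodd (Subtype.ext (by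
          have := pow_card_eq_one' (x := (⟨(y : G), hy⟩ : X))
          rw [hXp] at this
          simpa using congrArg Subtype.val this))
        have hc : Nat.card ((X.subgroupOf C).subgroupOf K) = p ^ (Nat.card K).factorization p := by
          rw [hfK, pow_one, Nat.card_congr (Subgroup.subgroupOfEquivOfLe hXK).toEquiv,
            Nat.card_congr (Subgroup.subgroupOfEquivOfLe hXC).toEquiv, hXp]
        refine ⟨Sylow.ofCard _ hc, Subtype.ext ?_⟩
        show (((X.subgroupOf C).subgroupOf K).map K.subtype).map C.subtype = X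
        rw [Subgroup.subgroupOf_map_subtype, inf_eq_left.2 hXK, Subgroup.subgroupOf_map_subtype, inf_eq_left.2 hXC]
    obtain ⟨P0⟩ : Nonempty (Sylow p K) := inferInstance
    rw [← hbij]
    exact hKodd.of_dvd_nat ((P0.card_dvd_index).trans (Subgroup.index_dvd_card _))
  have hnorm : ∀ v : G, v * v = 1 → (∀ c ∈ C, v * c * v⁻¹ ∈ C) →
      ∀ X ∈ S, X.map (MulAut.conj v).toMonoidHom ∈ S ∧
        (X.map (MulAut.conj v).toMonoidHom).map (MulAut.conj v).toMonoidHom = X := by
    intro v v2 hv X hX
    obtain ⟨-, hXC, hXp⟩ := Finset.mem_filter.1 hX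
    refine ⟨Finset.mem_filter.2 ⟨Finset.mem_univ _, ?_, ?_⟩, ?_⟩
    · rintro _ ⟨y, hy, rfl⟩
      exact hv y (hXC hy)
    · rw [Subgroup.card_map_of_injective (MulAut.conj v).injective, hXp]
    · rw [Subgroup.map_map, ← Subgroup.map_id X]
      simp only [Subgroup.map_id]
      refine (congrArg (fun f => X.map f) (MonoidHom.ext fun y => ?_)).trans (Subgroup.map_id X)
      show v * (v * y * v⁻¹) * v⁻¹ = y
      rw [inv_eq_of_mul_eq_one_right v2, show v * (v * y * v) * v = (v * v) * y * (v * v) by group, v2, one_mul, mul_one]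
  set w := D.emb wi with hw
  have hw2 : w * w = 1 := by rw [hw, ← map_mul, wi2, map_one]
  have hz_pres : ∀ c ∈ C, D.z * c * D.z⁻¹ ∈ C := fun c hc => C.mul_mem (C.mul_mem hzC hc) (C.inv_mem hzC)
  have hwx : w * x' * w = x'⁻¹ := by
    have e : w * x' * (w * x') = 1 := by rw [hx', hw, ← map_mul, ← map_mul, wix, map_one]
    exact eq_inv_of_mul_eq_one_left (by rw [mul_assoc]; exact e)
  have hw_pres : ∀ c ∈ C, w * c * w⁻¹ ∈ C := fun c hc => by
    rw [inv_eq_of_mul_eq_one_right hw2, hmemC]
    have hc' : Commute c x'⁻¹ := (show Commute c x' from hmemC.1 hc).inv_right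
    have hcomm := hc'.eq
    rw [← hwx] at hcomm
    calc w * c * w * x' = w * (c * (w * x' * w)) * (w * w)⁻¹ * w := by rw [hw2, inv_one, mul_one]; simp [mul_assoc, hw2]
      _ = w * ((w * x' * w) * c) * w := by rw [hcomm, hw2, inv_one, mul_one]
      _ = (w * w) * x' * w * c * w := by group
      _ = x' * (w * c * w) := by rw [hw2, one_mul]; group
  have hzw : D.z * w = w * D.z := (D.comm wi).symm
  set S1 := S.filter fun X => X.map (MulAut.conj D.z).toMonoidHom = X with hS1
  have hS1odd : Odd S1.card := odd_fixed S _ (fun X hX => (hnorm _ D.zz hz_pres X hX).1)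
    (fun X hX => (hnorm _ D.zz hz_pres X hX).2) hSodd
  have hS2odd : Odd (S1.filter fun X => X.map (MulAut.conj w).toMonoidHom = X).card := by
    refine odd_fixed S1 _ (fun X hX => ?_) (fun X hX => (hnorm _ hw2 hw_pres X (Finset.mem_filter.1 hX).1).2) hS1odd
    obtain ⟨hXS, hXz⟩ := Finset.mem_filter.1 hX
    refine Finset.mem_filter.2 ⟨(hnorm _ hw2 hw_pres X hXS).1, ?_⟩
    conv_rhs => rw [← hXz]
    rw [Subgroup.map_map, Subgroup.map_map]
    refine congrArg (fun f => X.map f) (MonoidHom.ext fun y => ?_)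
    show D.z * (w * y * w⁻¹) * D.z⁻¹ = w * (D.z * y * D.z⁻¹) * w⁻¹
    calc D.z * (w * y * w⁻¹) * D.z⁻¹ = D.z * w * y * (D.z * w)⁻¹ := by group
      _ = _ := by rw [hzw]; group
  obtain ⟨X, hX⟩ := Finset.card_pos.1 hS2odd.pos
  obtain ⟨hX1, hXw⟩ := Finset.mem_filter.1 hX
  obtain ⟨hXS, hXz⟩ := Finset.mem_filter.1 hX1
  obtain ⟨-, hXC, hXp⟩ := Finset.mem_filter.1 hXS
  obtain ⟨⟨y, hy⟩, hyo⟩ := exists_prime_orderOf_dvd_card' (G := X) p (by rw [hXp])
  rw [Subgroup.orderOf_mk] at hyo
  have hXgen : zpowers y = X := Subgroup.eq_of_le_of_card_ge (Subgroup.zpowers_le.2 hy)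
    (by rw [hXp, Nat.card_zpowers, hyo])
  have hyne : y ≠ 1 := fun e => by
    rw [e, orderOf_one] at hyo
    exact (Fact.out : p.Prime).one_lt.ne hyo
  have hnc : ∀ v : G, v * v = 1 → v ≠ 1 → v * y = y * v → False := fun v v2 v1 hv => by
    have := D.orderOf_dvd_of_comm v2 v1 hv
    rw [hyo] at this
    rcases hp with rfl | rfl <;> norm_num at this
  have hact : ∀ v : G, v * v = 1 → v ≠ 1 → X.map (MulAut.conj v).toMonoidHom = X → v * y * v = y⁻¹ := by
    intro v v2 v1 hv
    have hm : v * y * v⁻¹ ∈ X := hv ▸ ⟨y, hy, rfl⟩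
    rw [inv_eq_of_mul_eq_one_right v2, ← hXgen] at hm
    obtain ⟨a, ha⟩ := hm
    simp only at ha
    have h2 : y ^ (a * a) = y := by
      calc y ^ (a * a) = (y ^ a) ^ a := zpow_mul y a a
        _ = (v * y * v⁻¹) ^ a := by rw [ha, inv_eq_of_mul_eq_one_right v2]
        _ = v * y ^ a * v⁻¹ := conj_zpow
        _ = y := by
          rw [ha, inv_eq_of_mul_eq_one_right v2, show v * (v * y * v) * v = (v * v) * y * (v * v) by group, v2,
            one_mul, mul_one]
    have hdvd : (p : ℤ) ∣ (a - 1) * (a + 1) := by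
      rw [← hyo, orderOf_dvd_iff_zpow_eq_one, show (a - 1) * (a + 1) = a * a - 1 by ring, zpow_sub, zpow_one, h2,
        mul_inv_cancel]
    rcases (Nat.prime_iff_prime_int.1 (Fact.out : p.Prime)).dvd_or_dvd hdvd with h | h <;>
      rw [← hyo, orderOf_dvd_iff_zpow_eq_one] at h
    · exfalso
      rw [zpow_sub, zpow_one, ha, mul_inv_eq_one] at h
      refine hnc v v2 v1 ?_
      calc v * y = v * y * (v * v) := by rw [v2, mul_one]
        _ = v * y * v * v := by group
        _ = y * v := by rw [h]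
    · rw [zpow_add, zpow_one, ha] at h
      exact eq_inv_of_mul_eq_one_left h
  have hw1 : w ≠ 1 := fun e => wi1 (D.inj (e.trans (map_one D.emb).symm))
  have hwz' : w * D.z ≠ 1 := fun e => wiz (D.inj (by
    rw [D.emb_z, ← hw, eq_inv_of_mul_eq_one_left e, D.zinv]))
  have e1 := hact w hw2 hw1 hXw
  have e2 := hact D.z D.zz D.z_ne hXz
  refine hnc (w * D.z) (by
    rw [show w * D.z * (w * D.z) = w * (D.z * w) * D.z by group, hzw, show w * (w * D.z) * D.z = (w * w) * (D.z * D.z) by group, hw2, D.zz, one_mul]) hwz' ?_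
  have e3 : w * D.z * y * (w * D.z) = y := by
    calc w * D.z * y * (w * D.z) = w * (D.z * y * (w * D.z)) := by group
      _ = w * (D.z * y * D.z * w) := by rw [← hzw]; group
      _ = w * (y⁻¹ * w) := by rw [e2]
      _ = (w * y * w)⁻¹ := by rw [mul_inv_rev, mul_inv_rev, inv_eq_of_mul_eq_one_right hw2]
      _ = y := by rw [e1, inv_inv]
  have hv2 : w * D.z * (w * D.z) = 1 := by
    rw [show w * D.z * (w * D.z) = w * (D.z * w) * D.z by group, hzw,
      show w * (w * D.z) * D.z = (w * w) * (D.z * D.z) by group, hw2, D.zz, one_mul]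
  calc w * D.z * y = w * D.z * y * (w * D.z * (w * D.z)) := by rw [hv2, mul_one]
    _ = w * D.z * y * (w * D.z) * (w * D.z) := by group
    _ = y * (w * D.z) := by rw [e3]

end JT

end Cfsg.Agent.JThreeRecog
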