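import Cfsg.Agent.HallJanko.Uniq.Simple

/-!
The centraliser of an involution with an extraspecial normal subgroup of order 32 and quotient `A₅` in a simple
group: the subgroup is self-centralising.
-/

set_option autoImplicit false
set_option linter.all false

namespace Cfsg.Agent.JThreeRecog

open HallJanko

theorem alt_center : ∀ a : alternatingGroup (Fin 5), (∀ b, a * b = b * a) → a = 1 := by decide +kernel

theorem alt_card : Nat.card (alternatingGroup (Fin 5)) = 60 := by
  rw [nat_card_alternatingGroup, Nat.card_fin]; rfl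

variable {G : Type*} [Group G] [Finite G]

/-- Some further conjugate of an involution commutes with it. -/
theorem exists_commuting_conj [IsSimpleGroup G] {z : G} (hz : orderOf z = 2)
    (hnab : ∃ a b : G, a * b ≠ b * a) : ∃ g : G, z * (g * z * g⁻¹) = g * z * g⁻¹ * z ∧ g * z * g⁻¹ ≠ z := by
  by_contra hiso
  push Not at hiso
  have hiso' : ∀ g : G, Commute z (g * z * g⁻¹) → g * z * g⁻¹ = z := fun g hc => hiso g hc.eq
  have hO : Cfsg.oddCore G = ⊥ := by
    refine ((inferInstance : (Cfsg.oddCore G).Normal).eq_bot_or_eq_top).resolve_right fun e => ?_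
    have hzO : z ∈ Cfsg.oddCore G := e ▸ Subgroup.mem_top z
    refine Core.not_dvd_card_pPrimeCore (p := 2) (G := G) ?_
    have h2 := orderOf_dvd_natCard (⟨z, hzO⟩ : Cfsg.oddCore G)
    rwa [Subgroup.orderOf_mk, hz] at h2
  have hcen : ∀ u : G, u * z = z * u := fun u => by
    have := Invol.zstar (⟨hz, hiso'⟩ : Cfsg.IsIsolatedInvolution z) u
    rw [hO, Subgroup.mem_bot, mul_inv_eq_one, mul_inv_eq_iff_eq_mul] at this
    exact this.symm
  have hzcenter : z ∈ Subgroup.center G := Subgroup.mem_center_iff.2 hcen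
  rcases (inferInstance : (Subgroup.center G).Normal).eq_bot_or_eq_top with e | e
  · rw [e, Subgroup.mem_bot] at hzcenter
    exact Invol.ne_one hz hzcenter
  · obtain ⟨a, b, hab⟩ := hnab
    exact hab (Subgroup.mem_center_iff.1 (e ▸ Subgroup.mem_top b) a)

/-- Commutators of elements with central commutators multiply. -/
theorem comm_mul {a b z : G} (ha : a * z = z * a) (hb : b * z = z * b) {x : G} {e f : G}
    (he : e = 1 ∨ e = z) (hf : f = 1 ∨ f = z) (h1 : x * a = e * (a * x)) (h2 : x * b = f * (b * x)) :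
    x * (a * b) = e * f * (a * b * x) := by
  have hfa : a * f = f * a := by rcases hf with rfl | rfl <;> simp [ha]
  calc x * (a * b) = e * (a * (x * b)) := by rw [← mul_assoc, h1]; group
    _ = e * ((a * f) * (b * x)) := by rw [h2]; group
    _ = _ := by rw [hfa]; group

variable [IsSimpleGroup G] {t : G} (ht : orderOf t = 2) {Q : Subgroup (Subgroup.centralizer ({t} : Set G))}
  [hQn : Q.Normal] (hQ : Cfsg.IsExtraspecial 2 Q) (hcard : Nat.card Q = 32)
  (e : (Subgroup.centralizer ({t} : Set G)) ⧸ Q ≃* alternatingGroup (Fin 5))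
include ht hQ hcard e

theorem tC_mem : (⟨t, mem_C.2 rfl⟩ : Subgroup.centralizer ({t} : Set G)) ∈ Q := by
  rw [← QuotientGroup.eq_one_iff, ← e.map_eq_one_iff]
  refine alt_center _ fun b => ?_
  obtain ⟨c, rfl⟩ : ∃ c : Subgroup.centralizer ({t} : Set G), e (c : _ ⧸ Q) = b := by
    obtain ⟨c, hc⟩ := QuotientGroup.mk_surjective (e.symm b)
    exact ⟨c, by rw [hc, e.apply_symm_apply]⟩
  rw [← map_mul, ← map_mul, ← QuotientGroup.mk_mul, ← QuotientGroup.mk_mul]
  exact congrArg (fun w : Subgroup.centralizer ({t} : Set G) => e (w : _ ⧸ Q)) (Subtype.ext (mem_C.1 c.2).symm)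

theorem center_cases {x : Subgroup.centralizer ({t} : Set G)} (hx : x ∈ Q) (hc : ∀ q ∈ Q, q * x = x * q) :
    (x : G) = 1 ∨ (x : G) = t := by
  set tQ : Q := ⟨_, tC_mem ht hQ hcard e⟩
  have htne : tQ ≠ 1 := fun e' =>
    Invol.ne_one ht (congrArg (fun x : Q => ((x : ↥(Subgroup.centralizer ({t} : Set G))) : G)) e')
  have htm : tQ ∈ Subgroup.center Q :=
    Subgroup.mem_center_iff.2 fun q => Subtype.ext (Subtype.ext (mem_C.1 q.1.2))
  have hxm : (⟨x, hx⟩ : Q) ∈ Subgroup.center Q :=
    Subgroup.mem_center_iff.2 fun q => Subtype.ext (hc q q.2)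
  have h2 : Nat.card (Subgroup.center Q) = 2 := hQ.2
  rw [Nat.card_eq_two_iff' (1 : Subgroup.center Q)] at h2
  obtain ⟨y, -, hy⟩ := h2
  by_cases hx1 : (x : G) = 1
  · exact Or.inl hx1
  · have a1 := hy ⟨_, hxm⟩ (fun e' => hx1 (congrArg (fun w : Subgroup.center Q => (w.1.1 : G)) e'))
    have a2 := hy ⟨_, htm⟩ (fun e' => htne (congrArg Subtype.val e'))
    exact Or.inr (congrArg (fun w : Subgroup.center Q => (w.1.1 : G)) (a1.trans a2.symm))

/-- The centraliser of the subgroup lies inside it. -/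
theorem selfCentral : Subgroup.centralizer (Q : Set (Subgroup.centralizer ({t} : Set G))) ≤ Q := by
  classical
  haveI : Fact (Nat.Prime 2) := ⟨Nat.prime_two⟩
  set K := Subgroup.centralizer (Q : Set (Subgroup.centralizer ({t} : Set G))) with hK
  haveI : K.Normal := Subgroup.normal_centralizer
  let f : (Subgroup.centralizer ({t} : Set G)) →* alternatingGroup (Fin 5) := e.toMonoidHom.comp (QuotientGroup.mk' Q)
  have hf : Function.Surjective f := e.surjective.comp (QuotientGroup.mk'_surjective Q)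
  have hker : ∀ c : (Subgroup.centralizer ({t} : Set G)), f c = 1 ↔ c ∈ Q := fun c => by
    show e (c : (Subgroup.centralizer ({t} : Set G)) ⧸ Q) = 1 ↔ _
    rw [e.map_eq_one_iff, QuotientGroup.eq_one_iff]
  haveI hKn : (K.map f).Normal := Subgroup.Normal.map inferInstance f hf
  rcases hKn.eq_bot_or_eq_top with hb | hb
  · exact fun c hc => (hker c).1 (Subgroup.mem_bot.1 (hb ▸ Subgroup.mem_map_of_mem f hc))
  exfalso
  have hQK : ∀ k ∈ K, ∀ q ∈ Q, q * k = k * q := fun k hk q hq => Subgroup.mem_centralizer_iff.1 hk q hq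
  have hdec : ∀ c : (Subgroup.centralizer ({t} : Set G)), ∃ q ∈ Q, ∃ k ∈ K, c = q * k := fun c => by
    obtain ⟨k, hk, hkc⟩ := (hb ▸ Subgroup.mem_top (f c) : f c ∈ K.map f)
    exact ⟨c * k⁻¹, (hker _).1 (by rw [map_mul, map_inv, hkc, mul_inv_cancel]), k, hk, by group⟩
  obtain ⟨P, hPQ⟩ := (IsPGroup.of_card (n := 5) (by rw [hcard]; norm_num) : IsPGroup 2 Q).exists_le_sylow
  -- the image of the Sylow subgroup is abelian
  have himg : ∀ x ∈ (P : Subgroup (Subgroup.centralizer ({t} : Set G))), ∀ y ∈ (P : Subgroup (Subgroup.centralizer ({t} : Set G))), f x * f y = f y * f x := by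
    have h4 : Nat.card ((P.mapSurjective hf : Sylow 2 _) : Subgroup (alternatingGroup (Fin 5))) = 2 ^ 2 := by
      rw [Sylow.card_eq_multiplicity, alt_card, show (60 : ℕ) = 2 ^ 2 * 15 by norm_num,
        Nat.factorization_mul (by norm_num) (by norm_num), Finsupp.add_apply,
        Nat.Prime.factorization_pow Nat.prime_two, Finsupp.single_eq_same,
        Nat.factorization_eq_zero_of_not_dvd (by norm_num : ¬ 2 ∣ 15)]
    intro x hx y hy
    exact congrArg Subtype.val (IsPGroup.commutative_of_card_eq_prime_sq h4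
      ⟨f x, Subgroup.mem_map_of_mem f hx⟩ ⟨f y, Subgroup.mem_map_of_mem f hy⟩)
  -- commutators in the Sylow subgroup
  have hQQ : ∀ q ∈ Q, ∀ q' ∈ Q, ∃ a : G, (a = 1 ∨ a = t) ∧ (q : G) * q' = a * (q' * q) := by
    intro q hq q' hq'
    have hm : (⟨q, hq⟩ : Q) * ⟨q', hq'⟩ * (⟨q', hq'⟩ * ⟨q, hq⟩)⁻¹ ∈ Subgroup.center Q := by
      have hcm := Subgroup.commutator_mem_commutator (H₁ := (⊤ : Subgroup Q)) (H₂ := ⊤)
        (g₁ := ⟨q, hq⟩) (g₂ := ⟨q', hq'⟩) trivial trivial
      rw [← commutator_def, commutatorElement_def, hQ.1.2.2] at hcm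
      convert hcm using 1
      group
    refine ⟨((q * q' * (q' * q)⁻¹ : (Subgroup.centralizer ({t} : Set G))) : G), center_cases ht hQ hcard e
      (mul_mem (mul_mem hq hq') (inv_mem (mul_mem hq' hq))) fun w hw => ?_, ?_⟩
    · exact congrArg Subtype.val (Subgroup.mem_center_iff.1 hm ⟨w, hw⟩)
    · simp [mul_assoc]
  have hSS : ∀ x ∈ (P : Subgroup (Subgroup.centralizer ({t} : Set G))), ∀ y ∈ (P : Subgroup (Subgroup.centralizer ({t} : Set G))),
      ∃ a : G, (a = 1 ∨ a = t) ∧ (x : G) * y = a * (y * x) := by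
    intro x hx y hy
    obtain ⟨q, hq, k, hk, rfl⟩ := hdec x
    obtain ⟨q', hq', k', hk', rfl⟩ := hdec y
    obtain ⟨a, ha, hqq⟩ := hQQ q hq q' hq'
    have hkm : k * k' * (k' * k)⁻¹ ∈ Q := by
      have h1 := himg _ hx _ hy
      rw [map_mul, map_mul, (hker q).2 hq, (hker q').2 hq', one_mul, one_mul] at h1
      exact (hker _).1 (by rw [map_mul, map_inv, map_mul, map_mul, h1, mul_inv_cancel])
    have hb' := center_cases ht hQ hcard e hkm fun w hw =>
      hQK _ (mul_mem (mul_mem hk hk') (inv_mem (mul_mem hk' hk))) w hw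
    refine ⟨a * ((k * k' * (k' * k)⁻¹ : (Subgroup.centralizer ({t} : Set G))) : G), ?_, ?_⟩
    · rcases ha with rfl | rfl <;> rcases hb' with e' | e' <;> rw [e']
      · exact Or.inl (one_mul 1)
      · exact Or.inr (one_mul t)
      · exact Or.inr (mul_one a)
      · exact Or.inl (Invol.mul_self_eq_one ht)
    · have e1 : (k : G) * q' = q' * k := (congrArg Subtype.val (hQK k hk q' hq')).symm
      have e2 : (k' : G) * q = q * k' := (congrArg Subtype.val (hQK k' hk' q hq)).symm
      have e3 : ∀ w ∈ Q, ((k * k' * (k' * k)⁻¹ : (Subgroup.centralizer ({t} : Set G))) : G) * w = w * ((k * k' * (k' * k)⁻¹ : (Subgroup.centralizer ({t} : Set G))) : G) :=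
        fun w hw => (congrArg Subtype.val (hQK _ (mul_mem (mul_mem hk hk') (inv_mem (mul_mem hk' hk))) w hw)).symm
      have e4 : (k : G) * k' = ((k * k' * (k' * k)⁻¹ : (Subgroup.centralizer ({t} : Set G))) : G) * ((k' : G) * k) := by simp [mul_assoc]
      simp only [Subgroup.coe_mul]
      calc (q : G) * k * (q' * k') = q * (k * q') * k' := by group
        _ = (q * q') * (k * k') := by rw [e1]; group
        _ = a * ((q' * q) * ((k * k' * (k' * k)⁻¹ : (Subgroup.centralizer ({t} : Set G))) : G)) * (k' * k) := by rw [hqq, e4]; group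
        _ = a * (((k * k' * (k' * k)⁻¹ : (Subgroup.centralizer ({t} : Set G))) : G) * (q' * q)) * (k' * k) := by
            rw [(Commute.mul_right (e3 q' hq') (e3 q hq)).eq.symm]
        _ = a * ((k * k' * (k' * k)⁻¹ : (Subgroup.centralizer ({t} : Set G))) : G) * ((q' : G) * (q * k') * k) := by group
        _ = _ := by rw [← e2]; simp only [Subgroup.coe_mul, Subgroup.coe_inv]; group
  -- the subgroup is not commutative
  have hnc : ∀ S : Finset Q, (∀ x, x ∈ S) → 32 ≤ S.card := fun S hS => by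
    haveI : Fintype Q := Fintype.ofFinite _
    rw [Finset.eq_univ_iff_forall.2 hS, Finset.card_univ, ← Nat.card_eq_fintype_card, hcard]
  have hnab : ∃ a b : G, a * b ≠ b * a := by
    by_contra hh
    push Not at hh
    have h2 := hQ.2
    rw [(Subgroup.eq_top_iff' _).2 fun x => Subgroup.mem_center_iff.2 fun y => Subtype.ext (Subtype.ext (hh _ _)),
      Subgroup.card_top, hcard] at h2
    norm_num at h2
  obtain ⟨g, hgc, hgne⟩ := exists_commuting_conj ht hnab
  -- move it into the Sylow subgroup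
  set u : (Subgroup.centralizer ({t} : Set G)) := ⟨g * t * g⁻¹, mem_C.2 hgc.symm⟩
  have hu2 : u ^ 2 = 1 := Subtype.ext (by
    show (g * t * g⁻¹) ^ 2 = 1
    rw [conj_pow, pow_two, Invol.mul_self_eq_one ht, mul_one, mul_inv_cancel])
  have hup : IsPGroup 2 (Subgroup.zpowers u) := by
    obtain ⟨n, -, hn⟩ := (Nat.dvd_prime_pow Nat.prime_two (m := 1)).1 (by simpa using orderOf_dvd_of_pow_eq_one hu2)
    exact IsPGroup.of_card (n := n) (by rw [Nat.card_zpowers, hn])
  obtain ⟨P', hP'⟩ := hup.exists_le_sylow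
  obtain ⟨c, rfl⟩ := MulAction.exists_smul_eq (Subgroup.centralizer ({t} : Set G)) P' P
  set g' : G := (c : G) * g
  have hu' : g' * t * g'⁻¹ ≠ t := fun e' => hgne (by
    have hc : (c : G) * t = t * c := mem_C.1 c.2
    calc g * t * g⁻¹ = (c : G)⁻¹ * (g' * t * g'⁻¹) * c := by simp only [g']; group
      _ = t := by rw [e', mul_assoc, ← hc, inv_mul_cancel_left])
  have huP : (c * u * c⁻¹) ∈ ((c • P' : Sylow 2 (Subgroup.centralizer ({t} : Set G))) : Subgroup (Subgroup.centralizer ({t} : Set G))) :=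
    Subgroup.mem_map.2 ⟨u, hP' (Subgroup.mem_zpowers u), rfl⟩
  set v : (Subgroup.centralizer ({t} : Set G)) := c * u * c⁻¹
  have hv : (v : G) = g' * t * g'⁻¹ := by simp [v, u, g', mul_assoc]
  have htinv : ∀ w : (Subgroup.centralizer ({t} : Set G)), (w : G) * t = t * w := fun w => mem_C.1 w.2
  -- two elements of `Q` centralising it that do not commute
  obtain ⟨a, haQ, b, hbQ, hav, hbv, hab⟩ : ∃ a ∈ Q, ∃ b ∈ Q, (a : G) * v = v * a ∧ (b : G) * v = v * b ∧
      (a : G) * b ≠ b * a := by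
    by_contra hno
    push Not at hno
    let A : Finset Q := (Fintype.ofFinite Q).elems.filter fun x => ((x : (Subgroup.centralizer ({t} : Set G))) : G) * v = v * (x : (Subgroup.centralizer ({t} : Set G)))
    haveI : Fintype Q := Fintype.ofFinite _
    have hA : ∀ x : Q, x ∈ A ↔ ((x : (Subgroup.centralizer ({t} : Set G))) : G) * v = v * (x : (Subgroup.centralizer ({t} : Set G))) := fun x => by simp [A, Fintype.complete]
    have hdiff : ∀ (y : (Subgroup.centralizer ({t} : Set G))), y ∈ ((c • P' : Sylow 2 (Subgroup.centralizer ({t} : Set G))) : Subgroup (Subgroup.centralizer ({t} : Set G))) → ∀ x x' : Q,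
        (y : G) * (x : (Subgroup.centralizer ({t} : Set G))) ≠ (x : (Subgroup.centralizer ({t} : Set G))) * y → (y : G) * (x' : (Subgroup.centralizer ({t} : Set G))) ≠ (x' : (Subgroup.centralizer ({t} : Set G))) * y →
        (y : G) * ((x⁻¹ * x' : Q) : (Subgroup.centralizer ({t} : Set G))) = ((x⁻¹ * x' : Q) : (Subgroup.centralizer ({t} : Set G))) * y := by
      intro y hy x x' hx hx'
      obtain ⟨a1, ha1, e1⟩ := hSS y hy _ (hPQ (x⁻¹).2)
      obtain ⟨a2, ha2, e2⟩ := hSS y hy _ (hPQ x'.2)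
      obtain ⟨a3, ha3, e3⟩ := hSS y hy _ (hPQ x.2)
      have hat : a2 = t := ha2.resolve_left fun e' => hx' (by rw [e2, e', one_mul])
      have hat' : a1 = t := ha1.resolve_left fun e' => hx (by
        rw [e', one_mul] at e1
        exact (Commute.inv_right_iff.1 (show Commute (y : G) ((x : (Subgroup.centralizer ({t} : Set G))) : G)⁻¹ by simpa [Commute, SemiconjBy] using e1)).eq)
      have e5 := comm_mul (htinv _) (htinv _) (z := t) ha1 ha2 e1 e2
      rw [hat, hat', Invol.mul_self_eq_one ht, one_mul] at e5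
      simpa using e5
    set tQ : Q := ⟨_, tC_mem ht hQ hcard e⟩
    have hcases : ∀ x : Q, (∀ w : Q, ((w : (Subgroup.centralizer ({t} : Set G))) : G) * (x : (Subgroup.centralizer ({t} : Set G))) = (x : (Subgroup.centralizer ({t} : Set G))) * (w : (Subgroup.centralizer ({t} : Set G)))) → x = 1 ∨ x = tQ := fun x hx => by
      rcases center_cases ht hQ hcard e x.2 fun w hw => Subtype.ext (hx ⟨w, hw⟩) with e' | e'
      · exact Or.inl (Subtype.ext (Subtype.ext e'))
      · exact Or.inr (Subtype.ext (Subtype.ext e'))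
    by_cases hall : ∀ x : Q, x ∈ A
    · have : ∀ x : Q, x = 1 ∨ x = tQ := fun x => hcases x fun w =>
        hno _ w.2 _ x.2 ((hA w).1 (hall w)) ((hA x).1 (hall x))
      have := hnc {1, tQ} fun x => by simpa using this x
      have := Finset.card_le_two (a := (1 : Q)) (b := tQ)
      omega
    push Not at hall
    obtain ⟨a, ha⟩ := hall
    have hout : ∀ x : Q, x ∉ A → a⁻¹ * x ∈ A := fun x hx => by
      rw [hA] at ha hx ⊢
      exact (hdiff v huP a x (fun e' => ha e'.symm) (fun e' => hx e'.symm)).symm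
    have hB : ∀ x ∈ A, ((a : (Subgroup.centralizer ({t} : Set G))) : G) * (x : (Subgroup.centralizer ({t} : Set G))) = (x : (Subgroup.centralizer ({t} : Set G))) * (a : (Subgroup.centralizer ({t} : Set G))) → x = 1 ∨ x = tQ := fun x hx hax => hcases x fun w => by
      by_cases hw : w ∈ A
      · exact hno _ w.2 _ x.2 ((hA w).1 hw) ((hA x).1 hx)
      · have h1 : Commute ((((a⁻¹ * w : Q)) : (Subgroup.centralizer ({t} : Set G))) : G) ((x : (Subgroup.centralizer ({t} : Set G))) : G) :=
          hno _ (a⁻¹ * w).2 _ x.2 ((hA _).1 (hout w hw)) ((hA x).1 hx)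
        have h2 := (show Commute ((a : (Subgroup.centralizer ({t} : Set G))) : G) ((x : (Subgroup.centralizer ({t} : Set G))) : G) from hax).mul_left h1
        simpa [Commute, SemiconjBy] using h2
    obtain ⟨b, hb⟩ : ∃ b : Q, ∀ x ∈ A, x = 1 ∨ x = tQ ∨ x = b ∨ x = b * tQ := by
      by_cases hall' : ∀ x ∈ A, ((a : (Subgroup.centralizer ({t} : Set G))) : G) * (x : (Subgroup.centralizer ({t} : Set G))) = (x : (Subgroup.centralizer ({t} : Set G))) * (a : (Subgroup.centralizer ({t} : Set G)))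
      · exact ⟨1, fun x hx => (hB x hx (hall' x hx)).imp_right Or.inl⟩
      push Not at hall'
      obtain ⟨b, hbA, hb⟩ := hall'
      refine ⟨b, fun x hx => ?_⟩
      by_cases hax : ((a : (Subgroup.centralizer ({t} : Set G))) : G) * (x : (Subgroup.centralizer ({t} : Set G))) = (x : (Subgroup.centralizer ({t} : Set G))) * (a : (Subgroup.centralizer ({t} : Set G)))
      · exact (hB x hx hax).imp_right Or.inl
      · have h1 := hdiff (a : (Subgroup.centralizer ({t} : Set G))) (hPQ a.2) b x hb hax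
        have h2 : b⁻¹ * x ∈ A := (hA _).2 (by
          have := (show Commute ((b : (Subgroup.centralizer ({t} : Set G))) : G) v from (hA b).1 hbA).inv_left.mul_left ((hA x).1 hx)
          simpa [Commute, SemiconjBy] using this)
        rcases hB _ h2 h1 with e' | e'
        · exact Or.inr (Or.inr (Or.inl (inv_mul_eq_one.1 e').symm))
        · exact Or.inr (Or.inr (Or.inr (inv_mul_eq_iff_eq_mul.1 e')))
    have := hnc (({1, tQ, b, b * tQ} : Finset Q) ∪ ({1, tQ, b, b * tQ} : Finset Q).image (a * ·)) fun x => by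
      by_cases hx : x ∈ A
      · exact Finset.mem_union_left _ (by simpa using hb x hx)
      · exact Finset.mem_union_right _ (Finset.mem_image.2 ⟨a⁻¹ * x, by simpa using hb _ (hout x hx), by group⟩)
    have := Finset.card_union_le ({1, tQ, b, b * tQ} : Finset Q) (({1, tQ, b, b * tQ} : Finset Q).image (a * ·))
    have := Finset.card_image_le (s := ({1, tQ, b, b * tQ} : Finset Q)) (f := (a * ·))
    have := Finset.card_le_four (a := (1 : Q)) (b := tQ) (c := b) (d := b * tQ)
    omega
  -- pulled back into the centraliser of `t`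
  obtain ⟨a0, ha0, hab0⟩ := hQQ a haQ b hbQ
  have hab' : (a : G) * b = t * (b * a) := by
    rcases ha0 with rfl | rfl
    · exact absurd (by rwa [one_mul] at hab0) hab
    · exact hab0
  have hpull : ∀ w : (Subgroup.centralizer ({t} : Set G)), (w : G) * v = v * w → g'⁻¹ * (w : G) * g' * t = t * (g'⁻¹ * (w : G) * g') := fun w hw => by
    rw [hv] at hw
    calc g'⁻¹ * (w : G) * g' * t = g'⁻¹ * ((w : G) * (g' * t * g'⁻¹)) * g' := by group
      _ = _ := by rw [hw]; group
  let R : Subgroup (Subgroup.centralizer ({t} : Set G)) := (Q.map (Subgroup.centralizer ({t} : Set G)).subtype).comap ((MulAut.conj g').toMonoidHom.comp (Subgroup.centralizer ({t} : Set G)).subtype)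
  have hR : IsPGroup 2 R := by
    have h32 : IsPGroup 2 (Q.map (Subgroup.centralizer ({t} : Set G)).subtype) :=
      (IsPGroup.of_card (n := 5) (by rw [hcard]; norm_num) : IsPGroup 2 Q).map _
    exact h32.comap_of_injective _ ((MulAut.conj g').injective.comp (Subgroup.centralizer ({t} : Set G)).subtype_injective)
  have hmemR : ∀ w : (Subgroup.centralizer ({t} : Set G)), w ∈ Q → ∀ hw : g'⁻¹ * (w : G) * g' ∈ (Subgroup.centralizer ({t} : Set G)), (⟨_, hw⟩ : (Subgroup.centralizer ({t} : Set G))) ∈ R := fun w hw hw' => by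
    show MulAut.conj g' (g'⁻¹ * (w : G) * g') ∈ Q.map (Subgroup.centralizer ({t} : Set G)).subtype
    exact ⟨w, hw, by simp [mul_assoc]⟩
  obtain ⟨P'', hP''⟩ := hR.exists_le_sylow
  obtain ⟨d, hd⟩ := MulAction.exists_smul_eq (Subgroup.centralizer ({t} : Set G)) P'' (c • P')
  set A1 : (Subgroup.centralizer ({t} : Set G)) := ⟨g'⁻¹ * (a : G) * g', mem_C.2 (hpull a hav)⟩
  set B1 : (Subgroup.centralizer ({t} : Set G)) := ⟨g'⁻¹ * (b : G) * g', mem_C.2 (hpull b hbv)⟩
  have hm : ∀ w ∈ R, d * w * d⁻¹ ∈ ((c • P' : Sylow 2 (Subgroup.centralizer ({t} : Set G))) : Subgroup (Subgroup.centralizer ({t} : Set G))) := fun w hw => by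
    rw [← hd]
    exact Subgroup.mem_map.2 ⟨w, hP'' hw, rfl⟩
  obtain ⟨a1, ha1, he1⟩ := hSS _ (hm A1 (hmemR a haQ _)) _ (hm B1 (hmemR b hbQ _))
  have key : g'⁻¹ * t * g' = (d : G)⁻¹ * a1 * d := by
    have : (d : G) * (g'⁻¹ * ((a : G) * b) * g') * (d : G)⁻¹ = a1 * ((d : G) * (g'⁻¹ * ((b : G) * a) * g') * (d : G)⁻¹) := by
      simp only [A1, B1, Subgroup.coe_mul, Subgroup.coe_inv] at he1
      convert he1 using 1 <;> group
    rw [hab'] at this
    calc g'⁻¹ * t * g' = (d : G)⁻¹ * ((d : G) * (g'⁻¹ * (t * ((b : G) * a)) * g') * (d : G)⁻¹ *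
          ((d : G) * (g'⁻¹ * ((b : G) * a) * g') * (d : G)⁻¹)⁻¹) * d := by group
      _ = _ := by rw [this, mul_inv_cancel_right]
  rcases ha1 with rfl | rfl
  · exact Invol.ne_one ht (by
      rw [mul_one, inv_mul_cancel] at key
      calc t = g' * (g'⁻¹ * t * g') * g'⁻¹ := by group
        _ = 1 := by rw [key]; group)
  · rw [show (d : G)⁻¹ * a1 * d = a1 by rw [mul_assoc, ← htinv d, inv_mul_cancel_left]] at key
    exact hu' (by
      conv_lhs => rw [← key]
      group)

/-- The setting. -/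
theorem core : HJCore t (Q.map (Subgroup.centralizer ({t} : Set G)).subtype) := by
  let eQ : Q ≃* Q.map (Subgroup.centralizer ({t} : Set G)).subtype := Subgroup.equivMapOfInjective Q (Subgroup.centralizer ({t} : Set G)).subtype (Subgroup.centralizer ({t} : Set G)).subtype_injective
  refine ⟨ht, ?_, ?_, LargeExtra.extraspecial_congr eQ hQ, ?_, ⟨_, tC_mem ht hQ hcard e, rfl⟩, ?_, ?_⟩
  · rintro _ ⟨q, -, rfl⟩
    exact mem_C.1 q.2
  · rintro c hc _ ⟨q, hq, rfl⟩
    exact ⟨⟨c, mem_C.2 hc⟩ * q * ⟨c, mem_C.2 hc⟩⁻¹, Subgroup.Normal.conj_mem inferInstance q hq _, by simp⟩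
  · rw [← Nat.card_congr eQ.toEquiv, hcard]
  · intro c hc
    have hcC : c ∈ (Subgroup.centralizer ({t} : Set G)) := mem_C.2 (hc t ⟨_, tC_mem ht hQ hcard e, rfl⟩).symm
    have hcen : ∀ q ∈ Q, q * (⟨c, hcC⟩ : (Subgroup.centralizer ({t} : Set G))) = ⟨c, hcC⟩ * q := fun q hq => Subtype.ext (hc q ⟨q, hq, rfl⟩)
    exact center_cases ht hQ hcard e (x := ⟨c, hcC⟩)
      (selfCentral ht hQ hcard e (Subgroup.mem_centralizer_iff.2 hcen)) hcen
  · rw [Subgroup.card_eq_card_quotient_mul_card_subgroup Q, Nat.card_congr e.toEquiv, hcard, alt_card]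

end Cfsg.Agent.JThreeRecog
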