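import Cfsg.Agent.HallJanko.Uniq.Simple

/-!
With a single class of involutions some involution of the centraliser lies outside the extraspecial subgroup.
-/

set_option autoImplicit false
set_option linter.all false
set_option maxHeartbeats 1600000

namespace Cfsg.Agent.JThreeRecog

open HallJanko

theorem count_root : (Finset.univ.filter fun m : M => m * M.e 4 = M.e 4 * m ∧ m * m = M.zM).card = 12 := by
  decide +kernel

theorem count_twist : ∀ a : ZMod 2, (Finset.univ.filter fun m : M =>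
    m * M.e 4 = M.e 4 * m ∧ m * M.φ m * M.zM = M.zp a * M.e 4).card ≤ 4 := by decide +kernel

theorem perm_fix : ∀ σ : Equiv.Perm (Fin 5), σ * σ = 1 → σ 4 = 4 → Equiv.Perm.sign σ = 1 →
    σ = 1 ∨ σ = M.τ0 ∨ σ = Equiv.swap 0 2 * Equiv.swap 1 3 ∨ σ = Equiv.swap 0 3 * Equiv.swap 1 2 := by
  decide +kernel

theorem perm_rot : (Equiv.swap (1 : Fin 5) 2 * Equiv.swap 2 3) ^ 3 = 1 ∧
    Equiv.Perm.sign (Equiv.swap (1 : Fin 5) 2 * Equiv.swap 2 3) = 1 ∧
    (Equiv.swap (1 : Fin 5) 2 * Equiv.swap 2 3 : Equiv.Perm (Fin 5)) 4 = 4 ∧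
    ({M.τ0, (Equiv.swap (1 : Fin 5) 2 * Equiv.swap 2 3) * M.τ0 * (Equiv.swap (1 : Fin 5) 2 * Equiv.swap 2 3)⁻¹,
      ((Equiv.swap (1 : Fin 5) 2 * Equiv.swap 2 3) ^ 2) * M.τ0 *
        ((Equiv.swap (1 : Fin 5) 2 * Equiv.swap 2 3) ^ 2)⁻¹} : Finset (Equiv.Perm (Fin 5))) =
      {M.τ0, Equiv.swap 0 2 * Equiv.swap 1 3, Equiv.swap 0 3 * Equiv.swap 1 2} := by
  decide +kernel

variable {G : Type*} [Group G] [Finite G] {z : G} {Q : Subgroup G}

/-- An element over `τ0` acting by the standard automorphism. -/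
theorem exists_standard (h : HJCore z Q) (F : Frame z Q) :
    ∃ x : G, x * z = z * x ∧ F.π h x = M.τ0 ∧ (∀ m : M, x * F.ι m * x⁻¹ = F.ι (M.φ m)) ∧ (x * x = 1 ∨ x * x = z) := by
  obtain ⟨c, hc, hcπ⟩ := F.π_surj h (show Equiv.Perm.sign M.τ0 = 1 by decide +kernel)
  have hs : ∀ i : Fin 4, ∃ a, c * F.ι (M.e i.castSucc) * c⁻¹ = F.ι (M.zp a * M.e (M.τ0 i.castSucc)) := fun i => by
    obtain ⟨a, ha⟩ := F.π_spec h hc i.castSucc
    rw [hcπ] at ha
    exact ⟨a, ha⟩
  choose a ha using hs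
  obtain ⟨q, q0, q1, q2, q3⟩ := M.signs_inner (a 1) (a 0) (a 3) (a 2)
  set x := (F.ι q)⁻¹ * c with hx
  have hqz : (F.ι q)⁻¹ * z = z * (F.ι q)⁻¹ := (show Commute (F.ι q) z from F.ι_comm h q).inv_left.eq
  have hxz : x * z = z * x := ((show Commute (F.ι q)⁻¹ z from hqz).mul_left hc).eq
  have hxπ : F.π h x = M.τ0 := by
    rw [hx, F.π_mul h hqz hc, hcπ, F.π_inv h (F.ι_comm h q),
      (F.π_eq_one_iff h (F.ι_comm h q)).2 (F.ι_mem h q), inv_one, one_mul]
  have hact : ∀ m : M, x * F.ι m * x⁻¹ = F.ι (M.φ m) := by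
    let f : M →* G := (MulAut.conj x).toMonoidHom.comp F.ι
    have he : ∀ i : Fin 4, x * F.ι (M.e i.castSucc) * x⁻¹ = F.ι (M.e (M.τ0 i.castSucc)) := fun i => by
      have hq : q * M.e (M.τ0 i.castSucc) * q⁻¹ = M.zp (a i) * M.e (M.τ0 i.castSucc) := by
        fin_cases i <;> assumption
      calc x * F.ι (M.e i.castSucc) * x⁻¹ = (F.ι q)⁻¹ * (c * F.ι (M.e i.castSucc) * c⁻¹) * F.ι q := by
            rw [hx]; group
        _ = (F.ι q)⁻¹ * (F.ι q * F.ι (M.e (M.τ0 i.castSucc)) * (F.ι q)⁻¹) * F.ι q := by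
            rw [ha i, ← hq, map_mul, map_mul, map_inv]
        _ = _ := by group
    intro m
    have hz' : ∀ b : ZMod 2, x * F.ι (M.zp b) * x⁻¹ = F.ι (M.zp b) := fun b => by
      rw [F.ι_zp, ← pw_comm (g := z) hxz.symm, mul_inv_cancel_right]
    show f m = _
    conv_lhs => rw [M.decomp m]
    simp only [map_mul, M.φ]
    refine congrArg₂ (· * ·) (congrArg₂ (· * ·) (congrArg₂ (· * ·) (congrArg₂ (· * ·) ?_ ?_) ?_) ?_) ?_
    · exact hz' _
    all_goals split_ifs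
    all_goals first | rw [map_one, map_one] | exact he 0 | exact he 1 | exact he 2 | exact he 3
  refine ⟨x, hxz, hxπ, hact, ?_⟩
  refine h.cQ _ fun q' hq' => ?_
  obtain ⟨m, rfl⟩ := F.ι_surj h hq'
  have h2 : x * x * F.ι m * (x * x)⁻¹ = F.ι m := by
    calc x * x * F.ι m * (x * x)⁻¹ = x * (x * F.ι m * x⁻¹) * x⁻¹ := by group
      _ = F.ι m := by rw [hact, hact, (by decide +kernel : ∀ m : M, M.φ (M.φ m) = m) m]
  exact (mul_inv_eq_iff_eq_mul.1 h2).symm

/-- Some involution of the centraliser is outside `Q`. -/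
theorem exists_outer [IsSimpleGroup G] (h : HJCore z Q)
    (hone : ∀ x y : G, orderOf x = 2 → orderOf y = 2 → IsConj x y) : ∃ t, Outer z Q t := by
  classical
  by_contra hno
  push Not at hno
  obtain ⟨F⟩ := h.exists_frame
  obtain ⟨x, hxz, hxπ, hact, hx2⟩ := exists_standard h F
  set s := F.ι (M.e 4) with hs
  have hsz : s * z = z * s := F.ι_comm h _
  have hso : orderOf s = 2 := orderOf_eq_prime (hp := ⟨Nat.prime_two⟩)
    (by rw [pow_two, hs, ← map_mul, M.e_mul_self, map_one])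
    (fun e => (M.e_ne 4).1 (F.ι_inj (e.trans (map_one F.ι).symm)))
  have hsne : s ≠ z := fun e => (M.e_ne 4).2 (F.ι_inj (e.trans F.ι_zM.symm))
  have hxQ : x ∉ Q := fun e => by
    have := (F.π_eq_one_iff h hxz).2 e
    rw [hxπ] at this
    exact absurd this (by decide +kernel)
  have hxx : x * x = z := hx2.resolve_left fun e => by
    refine hno x ⟨orderOf_eq_prime (hp := ⟨Nat.prime_two⟩) (by rw [pow_two, e]) (fun e' => hxQ (e' ▸ one_mem Q)), hxz, hxQ⟩
  have hxs : x * s = s * x := by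
    have := hact (M.e 4)
    rw [M.φ_e4, ← hs, mul_inv_eq_iff_eq_mul] at this
    exact this
  -- exchange `z` and `s`
  obtain ⟨g, hgz, hgs⟩ : ∃ g : G, g * z * g⁻¹ = s ∧ g * s * g⁻¹ = z := by
    obtain ⟨g1, hg1⟩ := isConj_iff.1 (hone s z hso h.hz)
    set s' := g1 * z * g1⁻¹ with hs'
    have hs'o : orderOf s' = 2 := by rw [hs', Invol.orderOf_conj, h.hz]
    have hs'z : s' * z = z * s' := by
      calc s' * z = g1 * z * g1⁻¹ * (g1 * s * g1⁻¹) := by rw [hg1]
        _ = g1 * (z * s) * g1⁻¹ := by group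
        _ = g1 * (s * z) * g1⁻¹ := by rw [hsz]
        _ = g1 * s * g1⁻¹ * (g1 * z * g1⁻¹) := by group
        _ = z * s' := by rw [hg1]
    have hs'ne : s' ≠ z := fun e => hsne (by
      have := e.trans hg1.symm
      rw [hs', mul_left_inj, mul_right_inj] at this
      exact this.symm)
    have hs'Q : s' ∈ Q := by_contra fun hh => hno s' ⟨hs'o, hs'z, hh⟩
    obtain ⟨c, hc, hcs⟩ := h.inner_conj hs'Q (F.ι_mem h _) hs'o hso hs'ne hsne
    refine ⟨c * g1, ?_, ?_⟩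
    · rw [hs, ← hcs, hs']; group
    · calc c * g1 * s * (c * g1)⁻¹ = c * (g1 * s * g1⁻¹) * c⁻¹ := by group
        _ = z := by rw [hg1, hc, mul_inv_cancel_right]
  let Rt : G → Finset G := fun w => (Fintype.ofFinite G).elems.filter fun d => d * z = z * d ∧ d * s = s * d ∧ d * d = w
  have hRt : ∀ w d, d ∈ Rt w ↔ d * z = z * d ∧ d * s = s * d ∧ d * d = w := fun w d => by simp [Rt, Fintype.complete]
  have hswap : (Rt z).card ≤ (Rt s).card := by
    refine Finset.card_le_card_of_injOn (fun d => g * d * g⁻¹) (fun d hd => ?_) (fun a _ b _ e => by simpa using e)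
    obtain ⟨h1, h2, h3⟩ := (hRt _ _).1 hd
    refine (hRt _ _).2 ⟨?_, ?_, ?_⟩
    · calc g * d * g⁻¹ * z = g * (d * s) * g⁻¹ := by rw [← hgs]; group
        _ = g * (s * d) * g⁻¹ := by rw [h2]
        _ = z * (g * d * g⁻¹) := by rw [← hgs]; group
    · calc g * d * g⁻¹ * s = g * (d * z) * g⁻¹ := by rw [← hgz]; group
        _ = g * (z * d) * g⁻¹ := by rw [h1]
        _ = s * (g * d * g⁻¹) := by rw [← hgz]; group
    · rw [← hgz, ← h3]; group
  have hlow : 13 ≤ (Rt z).card := by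
    set S := Finset.univ.filter fun m : M => m * M.e 4 = M.e 4 * m ∧ m * m = M.zM
    have hsub : insert x (S.image F.ι) ⊆ Rt z := by
      refine Finset.insert_subset ((hRt _ _).2 ⟨hxz, hxs, hxx⟩) fun w hw => ?_
      obtain ⟨m, hm, rfl⟩ := Finset.mem_image.1 hw
      obtain ⟨m1, m2⟩ := (Finset.mem_filter.1 hm).2
      exact (hRt _ _).2 ⟨F.ι_comm h m, by rw [hs, ← map_mul, ← map_mul, m1],
        by rw [← map_mul, m2, F.ι_zM]⟩
    have := Finset.card_le_card hsub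
    rw [Finset.card_insert_of_notMem (fun hm => hxQ ?_), Finset.card_image_of_injective _ F.ι_inj,
      count_root] at this
    · omega
    · obtain ⟨m, -, e⟩ := Finset.mem_image.1 hm
      exact e ▸ F.ι_mem h m
  -- a rotation of order three fixing `s`
  obtain ⟨r3, rs, r4, rset⟩ := perm_rot
  set ρ : Equiv.Perm (Fin 5) := Equiv.swap (1 : Fin 5) 2 * Equiv.swap 2 3
  obtain ⟨c, hc, hcπ⟩ := F.π_surj h rs
  obtain ⟨w, hw, hwπ, hws⟩ : ∃ w : G, w * z = z * w ∧ F.π h w = ρ ∧ w * s = s * w := by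
    obtain ⟨b, hb⟩ := F.π_spec h hc 4
    rw [hcπ, r4] at hb
    obtain ⟨q, hq⟩ : ∃ q : M, q * M.e 4 * q⁻¹ = M.zp b * M.e 4 :=
      (by decide +kernel : ∀ b : ZMod 2, ∃ q : M, q * M.e 4 * q⁻¹ = M.zp b * M.e 4) b
    have hqz : (F.ι q)⁻¹ * z = z * (F.ι q)⁻¹ := (show Commute (F.ι q) z from F.ι_comm h q).inv_left.eq
    refine ⟨(F.ι q)⁻¹ * c, ((show Commute (F.ι q)⁻¹ z from hqz).mul_left hc).eq, ?_, ?_⟩
    · rw [F.π_mul h hqz hc, hcπ, F.π_inv h (F.ι_comm h q), (F.π_eq_one_iff h (F.ι_comm h q)).2 (F.ι_mem h q),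
        inv_one, one_mul]
    · refine mul_inv_eq_iff_eq_mul.1 ?_
      calc (F.ι q)⁻¹ * c * s * ((F.ι q)⁻¹ * c)⁻¹ = (F.ι q)⁻¹ * (c * F.ι (M.e 4) * c⁻¹) * F.ι q := by
            rw [hs]; group
        _ = s := by rw [hb, ← hq, map_mul, map_mul, map_inv, hs]; group
  let P : Equiv.Perm (Fin 5) → Finset G := fun σ => (Rt s).filter fun d => F.π h d = σ
  have hP0 : (P M.τ0).card ≤ 4 := by
    refine le_trans ?_ (count_twist 0)
    refine le_trans (Finset.card_le_card (t := (Finset.univ.filter fun m : M =>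
      m * M.e 4 = M.e 4 * m ∧ m * M.φ m * M.zM = M.zp 0 * M.e 4).image fun m => F.ι m * x) fun d hd => ?_) Finset.card_image_le
    obtain ⟨hd1, hdπ⟩ := Finset.mem_filter.1 hd
    obtain ⟨dz, ds, dd⟩ := (hRt _ _).1 hd1
    have hxi : x⁻¹ * z = z * x⁻¹ := (show Commute x z from hxz).inv_left.eq
    have hmQ : d * x⁻¹ ∈ Q := by
      refine (F.π_eq_one_iff h ((show Commute d z from dz).mul_left hxi).eq).1 ?_
      rw [F.π_mul h dz hxi, F.π_inv h hxz, hdπ, hxπ, mul_inv_cancel]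
    obtain ⟨m, hm⟩ := F.ι_surj h hmQ
    have hd' : F.ι m * x = d := by rw [hm, inv_mul_cancel_right]
    refine Finset.mem_image.2 ⟨m, Finset.mem_filter.2 ⟨Finset.mem_univ _, F.ι_inj ?_, F.ι_inj ?_⟩, hd'⟩
    · rw [map_mul, map_mul, ← hs, hm]
      exact ((show Commute d s from ds).mul_left (show Commute x s from hxs).inv_left).eq
    · rw [map_mul, map_mul, F.ι_zM, M.zp_zero, one_mul, ← hs, ← dd, ← hd', ← hact]
      calc F.ι m * (x * F.ι m * x⁻¹) * z = F.ι m * (x * F.ι m * x⁻¹) * (x * x) := congrArg _ hxx.symm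
        _ = _ := by group
  have hconj : ∀ v σ, v * z = z * v → v * s = s * v → F.π h v = σ →
      (P (σ * M.τ0 * σ⁻¹)).card ≤ (P M.τ0).card := by
    intro v σ hv hvs hvπ
    have hvi : v⁻¹ * z = z * v⁻¹ := (show Commute v z from hv).inv_left.eq
    refine Finset.card_le_card_of_injOn (fun d => v⁻¹ * d * v) (fun d hd => ?_) (fun a _ b _ e => by simpa using e)
    obtain ⟨hd1, hdπ⟩ := Finset.mem_filter.1 hd
    obtain ⟨dz, ds, dd⟩ := (hRt _ _).1 hd1
    refine Finset.mem_filter.2 ⟨(hRt _ _).2 ⟨?_, ?_, ?_⟩, ?_⟩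
    · exact (((show Commute v z from hv).inv_left.mul_left dz).mul_left hv).eq
    · exact (((show Commute v s from hvs).inv_left.mul_left ds).mul_left hvs).eq
    · calc v⁻¹ * d * v * (v⁻¹ * d * v) = v⁻¹ * (d * d) * v := by group
        _ = s := by rw [dd, mul_assoc, ← hvs, inv_mul_cancel_left]
    · have e := F.π_conj h hvi dz
      rw [inv_inv, F.π_inv h hv, inv_inv, hdπ, hvπ] at e
      rw [e]; group
  have hcover : Rt s ⊆ ({M.τ0, ρ * M.τ0 * ρ⁻¹, ρ ^ 2 * M.τ0 * (ρ ^ 2)⁻¹} : Finset _).biUnion P := by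
    intro d hd
    obtain ⟨dz, ds, dd⟩ := (hRt _ _).1 hd
    have h1 : F.π h d * F.π h d = 1 := by
      rw [← F.π_mul h dz dz, dd, (F.π_eq_one_iff h hsz).2 (F.ι_mem h _)]
    have h4 : F.π h d 4 = 4 := F.π_eq_of h dz (a := 0) (by
      rw [M.zp_zero, one_mul, ← hs, ds, mul_inv_cancel_right])
    rw [rset]
    refine Finset.mem_biUnion.2 ⟨F.π h d, ?_, Finset.mem_filter.2 ⟨hd, rfl⟩⟩
    rcases perm_fix _ h1 h4 (F.π_sign h dz) with e | e | e | e
    · exfalso
      obtain ⟨m, hm⟩ := F.ι_surj h ((F.π_eq_one_iff h dz).1 e)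
      have : m * m = M.e 4 := F.ι_inj (by rw [map_mul, hm, dd, hs])
      exact (by decide +kernel : ∀ m : M, m * m ≠ M.e 4) m this
    all_goals simp [e]
  have hw2 : F.π h (w ^ 2) = ρ ^ 2 := by rw [F.π_pow h hw, hwπ]
  have b1 := hconj w ρ hw hws hwπ
  have b2 := hconj (w ^ 2) (ρ ^ 2) ((show Commute w z from hw).pow_left 2).eq
    ((show Commute w s from hws).pow_left 2).eq hw2
  have h12 : (Rt s).card ≤ 12 := by
    refine ((Finset.card_le_card hcover).trans Finset.card_biUnion_le).trans ?_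
    refine (Finset.sum_le_card_nsmul _ _ 4 fun σ hσ => ?_).trans ?_
    · simp only [Finset.mem_insert, Finset.mem_singleton] at hσ
      rcases hσ with rfl | rfl | rfl
      exacts [hP0, b1.trans hP0, b2.trans hP0]
    · have := Finset.card_le_three (a := M.τ0) (b := ρ * M.τ0 * ρ⁻¹) (c := ρ ^ 2 * M.τ0 * (ρ ^ 2)⁻¹)
      simp only [smul_eq_mul]
      omega
  omega

end Cfsg.Agent.JThreeRecog
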