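import Cfsg.Agent.JThreeRecog.Order
import Cfsg.Agent.JThreeRecog.Iso
import Cfsg.Agent.JThreeRecog.Split
import Cfsg.Agent.JThreeRecog.Setting
import Cfsg.Agent.HallJanko.Order

/-!
The order formula in the setting of the statements.
-/

set_option autoImplicit false
set_option linter.all false

namespace Cfsg.Agent.JThreeRecog

variable {G : Type*} [Group G] [Finite G] [IsSimpleGroup G]

/-- The data from the core setting. -/
theorem exists_JT {z : G} {Q : Subgroup G} (h : HallJanko.HJCore z Q)
    (hone : ∀ x y : G, orderOf x = 2 → orderOf y = 2 → IsConj x y) : ∃ D : JT G, D.z = z := by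
  obtain ⟨t, ht⟩ := exists_outer h hone
  obtain ⟨emb, h1, h2, h3, h4⟩ := exists_emb h ht
  exact ⟨⟨z, h.hz, emb, h1, h2, h3, h4, hone⟩, rfl⟩

/-- The order. -/
theorem JT.order (D : JT G) : Nat.card G = 50232960 := by
  haveI := Fintype.ofFinite G
  haveI : Finite W := Nat.finite_of_card_ne_zero (by rw [card_W]; norm_num)
  haveI : Fintype W := Fintype.ofFinite W
  exact D.card_eq

/-- One class of involutions. -/
theorem card_of_one {t : G} (ht : orderOf t = 2) {Q : Subgroup (Subgroup.centralizer ({t} : Set G))} [Q.Normal]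
    (hQ : Cfsg.IsExtraspecial 2 Q) (hcard : Nat.card Q = 32)
    (e : (Subgroup.centralizer ({t} : Set G)) ⧸ Q ≃* alternatingGroup (Fin 5))
    (hone : ∀ x y : G, orderOf x = 2 → orderOf y = 2 → IsConj x y) : Nat.card G = 50232960 := by
  obtain ⟨D, -⟩ := exists_JT (core ht hQ hcard e) hone
  exact D.order

/-- Either number of classes. -/
theorem card_of_any {t : G} (ht : orderOf t = 2) {Q : Subgroup (Subgroup.centralizer ({t} : Set G))} [Q.Normal]
    (hQ : Cfsg.IsExtraspecial 2 Q) (hcard : Nat.card Q = 32)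
    (e : (Subgroup.centralizer ({t} : Set G)) ⧸ Q ≃* alternatingGroup (Fin 5)) :
    Nat.card G = 604800 ∨ Nat.card G = 50232960 := by
  by_cases hone : ∀ x y : G, orderOf x = 2 → orderOf y = 2 → IsConj x y
  · exact Or.inr (card_of_one ht hQ hcard e hone)
  · push Not at hone
    obtain ⟨x, y, hx, hy, hxy⟩ := hone
    exact Or.inl (HallJanko.HJ.card_G
      (HallJanko.HJ.of_simple t ht Q hQ hcard (selfCentral ht hQ hcard e) e ⟨x, y, hx, hy, hxy⟩))

end Cfsg.Agent.JThreeRecog
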