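import Cfsg.Agent.HallJanko.Invol

/-!
The model of the centraliser: the extraspecial group of minus type extended by the even permutations of its five
classes of involutions.
-/

set_option autoImplicit false
set_option maxRecDepth 100000
set_option linter.all false

namespace Cfsg.Agent.JThreeRecog

open HallJanko Equiv

/-- Even permutations of five letters. -/
abbrev A5 : Type := ↥(alternatingGroup (Fin 5))

/-- Images of the five letters. -/
abbrev P5 : Type := Fin 5 × Fin 5 × Fin 5 × Fin 5 × Fin 5

/-- The image of a letter. -/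
def ev : P5 → Fin 5 → Fin 5
  | (a, b, c, d, e), i => match i.val with
    | 0 => a
    | 1 => b
    | 2 => c
    | 3 => d
    | _ => e

/-- Tuples of a permutation. -/
def toP (σ : A5) : P5 :=
  ((σ : Perm (Fin 5)) 0, (σ : Perm (Fin 5)) 1, (σ : Perm (Fin 5)) 2, (σ : Perm (Fin 5)) 3, (σ : Perm (Fin 5)) 4)

theorem ev_toP (σ : A5) : ∀ i, ev (toP σ) i = (σ : Perm (Fin 5)) i := by
  intro i
  fin_cases i <;> rfl

theorem toP_injective : Function.Injective toP := fun g h e =>
  Subtype.ext (Equiv.ext fun i => by rw [← ev_toP, ← ev_toP, e])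

/-- The action on the extraspecial group. -/
def act (p : P5) (x : M) : M :=
  M.zp x.a * (if x.b0 = 1 then M.e (ev p 0) else 1) * (if x.b1 = 1 then M.e (ev p 1) else 1) *
    (if x.b2 = 1 then M.e (ev p 2) else 1) * (if x.b3 = 1 then M.e (ev p 3) else 1)

theorem act_base : ∀ σ : A5, IsBase M.zM fun i : Fin 4 => M.e ((σ : Perm (Fin 5)) i.castSucc) := fun σ =>
  { sq := fun i => M.e_mul_self _
    zsq := by decide
    zne := by decide
    zc := fun i => (by decide +kernel : ∀ j, M.zM * M.e j = M.e j * M.zM) _
    anti := fun i j hij => M.e_anti _ _ fun e => hij (Fin.castSucc_injective 4 ((σ : Perm (Fin 5)).injective e)) }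

theorem act_hom (σ : A5) (x : M) : (act_base σ).hom x = act (toP σ) x := by
  simp only [IsBase.hom, MonoidHom.mk'_apply, pw, act, ev_toP, M.zp, M.zM]
  rcases z2_cases x.a with h | h <;> simp [h, mul_assoc, ← M.one_def]

theorem act_four : ∀ σ : A5, act (toP σ) (M.e 4) = M.e ((σ : Perm (Fin 5)) 4) := by decide +kernel

theorem act_e (σ : A5) (i : Fin 5) : (act_base σ).hom (M.e i) = M.e ((σ : Perm (Fin 5)) i) := by
  refine Fin.lastCases ?_ (fun j => ?_) i
  · exact (act_hom σ _).trans (act_four σ)
  · exact (act_base σ).hom_e j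

/-- The action as homomorphisms. -/
def actHom (σ : A5) : M →* M := (act_base σ).hom

theorem actHom_one : actHom 1 = MonoidHom.id M :=
  (act_base 1).ext_base (act_base 1).hom_zM fun i => act_e 1 i.castSucc

theorem actHom_mul (σ τ : A5) : actHom (σ * τ) = (actHom σ).comp (actHom τ) :=
  (act_base 1).ext_base (by simp [actHom, IsBase.hom_zM]) fun i => by
    simp only [actHom, MonoidHom.comp_apply]
    rw [act_e, act_e, act_e, Subgroup.coe_mul, Perm.mul_apply]

/-- The action by automorphisms. -/
def permAct : A5 →* MulAut M where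
  toFun σ := (actHom σ).toMulEquiv (actHom σ⁻¹)
    (by rw [← actHom_mul, inv_mul_cancel, actHom_one]) (by rw [← actHom_mul, mul_inv_cancel, actHom_one])
  map_one' := MulEquiv.ext fun x => DFunLike.congr_fun actHom_one x
  map_mul' σ τ := MulEquiv.ext fun x => DFunLike.congr_fun (actHom_mul σ τ) x

theorem permAct_apply (σ : A5) (x : M) : permAct σ x = act (toP σ) x := act_hom σ x

theorem permAct_e (σ : A5) (i : Fin 5) : permAct σ (M.e i) = M.e ((σ : Perm (Fin 5)) i) := act_e σ i

/-- The model. -/
abbrev W : Type := SemidirectProduct M A5 permAct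

/-- Tuples of elements. -/
abbrev T : Type := M × P5

/-- The product of permutation tuples. -/
def pmul : P5 → P5 → P5
  | p, (a, b, c, d, e) => (ev p a, ev p b, ev p c, ev p d, ev p e)

/-- The product of tuples. -/
def tmul (x y : T) : T := (x.1 * act x.2 y.1, pmul x.2 y.2)

/-- The tuple of the identity. -/
def tone : T := (1, 0, 1, 2, 3, 4)

/-- The tuple of the central involution. -/
def tz : T := (M.zM, 0, 1, 2, 3, 4)

/-- The tuple of an element. -/
def toT (w : W) : T := (w.left, toP w.right)

theorem toT_injective : Function.Injective toT := fun a b e => by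
  simp only [toT, Prod.mk.injEq] at e
  exact SemidirectProduct.ext e.1 (toP_injective e.2)

theorem toT_mul (a b : W) : toT (a * b) = tmul (toT a) (toT b) := by
  simp only [toT, tmul, SemidirectProduct.mul_left, SemidirectProduct.mul_right, permAct_apply]
  rw [Prod.mk.injEq]
  refine ⟨rfl, ?_⟩
  show _ = (ev (toP a.right) _, ev (toP a.right) _, ev (toP a.right) _, ev (toP a.right) _, ev (toP a.right) _)
  simp only [ev_toP]
  rfl

theorem toT_one : toT 1 = tone := rfl

/-- The central involution. -/
def zW : W := SemidirectProduct.inl M.zM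

theorem toT_zW : toT zW = tz := rfl

theorem card_W : Nat.card W = 1920 := by
  rw [Nat.card_congr SemidirectProduct.equivProd, Nat.card_prod, M.card, nat_card_alternatingGroup, Nat.card_fin]
  rfl

end Cfsg.Agent.JThreeRecog
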