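import Mathlib.RingTheory.RootsOfUnity.Complex
import Mathlib.Data.Complex.BigOperators
import Mathlib.Algebra.Field.GeomSum

/-!
Sums of squares of character values on a cyclic group of order 57.
-/

set_option autoImplicit false
set_option maxRecDepth 100000
set_option linter.all false

namespace Cfsg.Agent.JThreeRecog

open scoped ComplexConjugate

/-- The excess of a residue. -/
def fres (r : ℕ) : ℕ := r * (19 - r)

theorem fres_big : ∀ a < 19, ∀ b < 19, ∀ c < 19, 4 ≤ (a + b + c) % 19 → (a + b + c) % 19 ≤ 15 →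
    57 < fres a + fres b + fres c := by
  decide +kernel

theorem third_class : ∀ r : Fin 3, (Finset.univ.filter fun e : Fin 57 => e.val % 3 = r.val).card = 19 := by
  decide +kernel

theorem var_bound {ι : Type*} (s : Finset ι) (hs : s.card = 19) (n : ι → ℕ) :
    (∑ e ∈ s, n e) ^ 2 + fres ((∑ e ∈ s, n e) % 19) ≤ 19 * ∑ e ∈ s, n e ^ 2 := by
  set a := ∑ e ∈ s, n e with ha
  set q := a / 19 with hq
  have h1 : ∑ e ∈ s, ((n e : ℤ) - q) ≤ ∑ e ∈ s, ((n e : ℤ) - q) ^ 2 := Finset.sum_le_sum fun e _ => by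
    rcases le_or_gt ((n e : ℤ) - q) 0 with h | h <;> nlinarith
  rw [show (∑ e ∈ s, ((n e : ℤ) - q) ^ 2) = ∑ e ∈ s, ((n e : ℤ) ^ 2 - 2 * q * n e + (q : ℤ) ^ 2) from
      Finset.sum_congr rfl fun e _ => by ring, Finset.sum_sub_distrib, Finset.sum_const, hs, nsmul_eq_mul,
    Finset.sum_add_distrib, Finset.sum_sub_distrib, Finset.sum_const, hs, nsmul_eq_mul, ← Finset.mul_sum] at h1
  have hdiv := Nat.div_add_mod a 19
  rw [← hq] at hdiv
  set r := a % 19 with hr
  have hr19 : r < 19 := Nat.mod_lt _ (by norm_num)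
  have e1 : (∑ e ∈ s, (n e : ℤ)) = (a : ℤ) := by rw [ha]; push_cast; rfl
  rw [e1] at h1
  have e2 : (fres r : ℤ) = (r : ℤ) * (19 - r) := by
    rw [fres]; push_cast [Nat.cast_sub hr19.le]; ring
  have hcast : (19 : ℤ) * q + r = a := by exact_mod_cast hdiv
  suffices h : ((a : ℤ)) ^ 2 + (fres r : ℤ) ≤ 19 * ∑ e ∈ s, (n e : ℤ) ^ 2 by exact_mod_cast h
  rw [e2, ← hcast]
  push_cast at h1
  rw [← hcast] at h1
  linarith

theorem geom {n : ℕ} (w : ℂ) (hw : w ^ n = 1) : ∑ j ∈ Finset.range n, w ^ j = if w = 1 then (n : ℂ) else 0 := by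
  split_ifs with h
  · simp [h]
  · rw [geom_sum_eq h, hw, sub_self, zero_div]

theorem sum_norm {ι : Type*} [Fintype ι] {n : ℕ} (hn : n ≠ 0) (μ : ι → ℂ) (hμ : ∀ i, μ i ^ n = 1) :
    ∑ j ∈ Finset.range n, (∑ i, μ i ^ j) * conj (∑ i, μ i ^ j) =
      (n : ℂ) * ((Finset.univ.filter fun p : ι × ι => μ p.1 = μ p.2).card : ℂ) := by
  classical
  have hnorm : ∀ i, μ i * conj (μ i) = 1 := fun i => by
    rw [Complex.mul_conj, Complex.normSq_eq_norm_sq, Complex.norm_eq_one_of_pow_eq_one (hμ i) hn]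
    simp
  have h1 : ∀ j, (∑ i, μ i ^ j) * conj (∑ i, μ i ^ j) = ∑ p : ι × ι, (μ p.1 * conj (μ p.2)) ^ j := fun j => by
    rw [Fintype.sum_prod_type, map_sum, Finset.sum_mul_sum]
    exact Finset.sum_congr rfl fun a _ => Finset.sum_congr rfl fun b _ => by rw [mul_pow, map_pow]
  rw [Finset.sum_congr rfl fun j _ => h1 j, Finset.sum_comm]
  rw [Finset.sum_congr rfl fun p _ => geom (μ p.1 * conj (μ p.2)) (by rw [mul_pow, ← map_pow, hμ, hμ]; simp),
    Finset.sum_ite, Finset.sum_const_zero, add_zero, Finset.sum_const, nsmul_eq_mul, mul_comm (n : ℂ)]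
  congr 3
  ext p
  simp only [Finset.mem_filter, Finset.mem_univ, true_and]
  refine ⟨fun h => ?_, fun h => by rw [h, hnorm]⟩
  calc μ p.1 = μ p.1 * (μ p.2 * conj (μ p.2)) := by rw [hnorm, mul_one]
    _ = μ p.2 * (μ p.1 * conj (μ p.2)) := by ring
    _ = μ p.2 := by rw [h, mul_one]

theorem card_pairs {ι κ : Type*} [Fintype ι] [Fintype κ] [DecidableEq κ] (e : ι → κ) :
    (Finset.univ.filter fun p : ι × ι => e p.1 = e p.2).card =
      ∑ c : κ, (Finset.univ.filter fun i => e i = c).card ^ 2 := by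
  classical
  rw [Finset.card_eq_sum_card_fiberwise (f := fun p : ι × ι => e p.1) (t := Finset.univ) (fun _ _ => Finset.mem_univ _)]
  refine Finset.sum_congr rfl fun c _ => ?_
  rw [pow_two, ← Finset.card_product]
  congr 1
  ext ⟨a, b⟩
  simp only [Finset.mem_filter, Finset.mem_univ, true_and, Finset.mem_product]
  exact ⟨fun ⟨h1, h2⟩ => ⟨h2, h1.symm.trans h2⟩, fun ⟨h1, h2⟩ => ⟨h1.trans h2.symm, h1⟩⟩

/-- The values on the elements of order divisible by nineteen are large when the degree has residue 4 to 15. -/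
theorem excess {d : ℕ} (μ : Fin d → ℂ) (hμ : ∀ i, μ i ^ 57 = 1) (h4 : 4 ≤ d % 19) (h15 : d % 19 ≤ 15) :
    ∃ A B : ℕ, 57 + B < 19 * A ∧
      ∑ j ∈ Finset.range 57, (∑ i, μ i ^ j) * conj (∑ i, μ i ^ j) = (57 : ℂ) * A ∧
      ∑ l ∈ Finset.range 3, (∑ i, μ i ^ (19 * l)) * conj (∑ i, μ i ^ (19 * l)) = (3 : ℂ) * B := by
  classical
  set ζ : ℂ := Complex.exp (2 * Real.pi * Complex.I / 57) with hζdef
  have hζ : IsPrimitiveRoot ζ 57 := by
    simpa [hζdef] using Complex.isPrimitiveRoot_exp 57 (by norm_num)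
  choose e he hee using fun i => hζ.eq_pow_of_pow_eq_one (hμ i)
  have hω : IsPrimitiveRoot (ζ ^ 19) 3 := hζ.pow (by norm_num) (by norm_num)
  have h57 := sum_norm (n := 57) (by norm_num) μ hμ
  have h3 := sum_norm (n := 3) (by norm_num) (fun i => μ i ^ 19)
    (fun i => by rw [← pow_mul]; exact hμ i)
  simp only [← pow_mul] at h3
  refine ⟨_, _, ?_, h57, h3⟩
  set f : Fin d → Fin 57 := fun i => ⟨e i, he i⟩ with hf
  set g : Fin d → Fin 3 := fun i => ⟨e i % 3, Nat.mod_lt _ (by norm_num)⟩ with hg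
  have eA : (Finset.univ.filter fun p : Fin d × Fin d => μ p.1 = μ p.2) = Finset.univ.filter fun p => f p.1 = f p.2 := by
    refine Finset.filter_congr fun p _ => ?_
    rw [← hee p.1, ← hee p.2]
    simp only [hf, Fin.mk.injEq]
    exact ⟨fun h => hζ.pow_inj (he _) (he _) h, fun h => by rw [h]⟩
  have eB : (Finset.univ.filter fun p : Fin d × Fin d => μ p.1 ^ 19 = μ p.2 ^ 19) =
      Finset.univ.filter fun p => g p.1 = g p.2 := by
    refine Finset.filter_congr fun p _ => ?_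
    have key : ∀ n : ℕ, (ζ ^ n) ^ 19 = (ζ ^ 19) ^ (n % 3) := fun n => by
      rw [← pow_mul, mul_comm, pow_mul]
      conv_lhs => rw [← Nat.div_add_mod n 3]
      rw [pow_add, pow_mul, hω.pow_eq_one, one_pow, one_mul]
    rw [← hee p.1, ← hee p.2, key, key]
    simp only [hg, Fin.mk.injEq]
    exact ⟨fun h => hω.pow_inj (Nat.mod_lt _ (by norm_num)) (Nat.mod_lt _ (by norm_num)) h, fun h => by rw [h]⟩
  rw [eA, eB, card_pairs f, card_pairs g]
  set n : Fin 57 → ℕ := fun c => (Finset.univ.filter fun i => f i = c).card with hn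
  set a : Fin 3 → ℕ := fun r => (Finset.univ.filter fun i => g i = r).card with ha
  show 57 + ∑ r, a r ^ 2 < 19 * ∑ c, n c ^ 2
  have hcls : ∀ r : Fin 3, a r = ∑ c ∈ Finset.univ.filter (fun c : Fin 57 => c.val % 3 = r.val), n c := by
    intro r
    simp only [ha, hn]
    rw [← Finset.card_biUnion]
    · refine congrArg Finset.card ?_
      ext i
      simp only [Finset.mem_filter, Finset.mem_univ, true_and, Finset.mem_biUnion, hg, hf, Fin.ext_iff]
      exact ⟨fun h => ⟨⟨e i, he i⟩, h, rfl⟩, fun ⟨c, h1, h2⟩ => by rw [h2]; exact h1⟩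
    · intro c _ c' _ hne
      simp only [Function.onFun, Finset.disjoint_left, Finset.mem_filter, Finset.mem_univ, true_and]
      exact fun i h1 h2 => hne (h1.symm.trans h2)
  have hvar : ∀ r : Fin 3, a r ^ 2 + fres (a r % 19) ≤
      19 * ∑ c ∈ Finset.univ.filter (fun c : Fin 57 => c.val % 3 = r.val), n c ^ 2 := fun r => by
    rw [hcls r]
    exact var_bound _ (third_class r) n
  have hsum : ∑ r : Fin 3, a r = d := by
    simp only [ha]
    rw [← Finset.card_eq_sum_card_fiberwise (fun _ _ => Finset.mem_univ _)]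
    simp
  have hsplit : ∑ c, n c ^ 2 = ∑ r : Fin 3, ∑ c ∈ Finset.univ.filter (fun c : Fin 57 => c.val % 3 = r.val), n c ^ 2 := by
    rw [← Finset.sum_fiberwise Finset.univ (fun c : Fin 57 => (⟨c.val % 3, Nat.mod_lt _ (by norm_num)⟩ : Fin 3))]
    refine Finset.sum_congr rfl fun r _ => Finset.sum_congr (Finset.filter_congr fun c _ => ?_) fun _ _ => rfl
    simp [Fin.ext_iff]
  rw [hsplit, Fin.sum_univ_three, Fin.sum_univ_three, mul_add, mul_add]
  rw [Fin.sum_univ_three] at hsum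
  have hbig := fres_big (a 0 % 19) (Nat.mod_lt _ (by norm_num)) (a 1 % 19) (Nat.mod_lt _ (by norm_num))
    (a 2 % 19) (Nat.mod_lt _ (by norm_num)) (by omega) (by omega)
  have := hvar 0
  have := hvar 1
  have := hvar 2
  omega

end Cfsg.Agent.JThreeRecog
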