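import Cfsg.Agent.JThreeRecog.Sylow
import Cfsg.Agent.JThreeRecog.Degree
import Cfsg.Agent.JThreeRecog.PairBound

/-!
The centraliser and normaliser of an element of order nineteen.
-/

set_option autoImplicit false
set_option maxRecDepth 100000
set_option linter.all false

namespace Cfsg.Agent.JThreeRecog

open scoped ComplexConjugate
open Subgroup Cfsg

universe u

/-- Translates of a set of elements of a cyclic subgroup of order 57. -/
theorem translate_bound {G : Type u} [Group G] [Fintype G] {g c : G} (hg : orderOf g = 19) (hc : orderOf c = 57)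
    (hgc : g ∈ zpowers c) {n : ℕ} (hN : Nat.card (normalizer ((zpowers g : Subgroup G) : Set G)) ≤ n)
    (f : G → ℝ) (hf : ∀ x, 0 ≤ f x) (hcl : ∀ a x, f (a * x * a⁻¹) = f x) :
    (Nat.card G : ℝ) * ∑ j ∈ (Finset.range 57).filter (fun j => ¬19 ∣ j), f (c ^ j) ≤ (n : ℝ) * ∑ x, f x := by
  classical
  set T := (Finset.range 57).filter fun j => ¬19 ∣ j with hT
  set φ : G × ℕ → G := fun p => p.1 * c ^ p.2 * p.1⁻¹ with hφ
  have h1 : (Nat.card G : ℝ) * ∑ j ∈ T, f (c ^ j) = ∑ p ∈ Finset.univ ×ˢ T, f (φ p) := by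
    rw [Finset.sum_product, Finset.sum_congr rfl fun a _ => Finset.sum_congr rfl fun j _ => hcl a (c ^ j),
      Finset.sum_const, Finset.card_univ, nsmul_eq_mul, Nat.card_eq_fintype_card]
  rw [h1, ← Finset.sum_fiberwise (Finset.univ ×ˢ T) φ, Finset.mul_sum]
  refine Finset.sum_le_sum fun x _ => ?_
  rw [Finset.sum_congr rfl fun p hp => by rw [(Finset.mem_filter.1 hp).2], Finset.sum_const, nsmul_eq_mul]
  refine mul_le_mul_of_nonneg_right ?_ (hf x)
  refine Nat.cast_le.2 (le_trans ?_ hN)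
  set F := (Finset.univ ×ˢ T).filter fun p => φ p = x with hF
  rcases F.eq_empty_or_nonempty with h | ⟨p0, hp0⟩
  · rw [h, Finset.card_empty]
    exact Nat.zero_le _
  have hX : ∀ j ∈ T, zpowers g = zpowers ((c ^ j) ^ 3) := by
    intro j hj
    obtain ⟨hj1, hj2⟩ := Finset.mem_filter.1 hj
    have h57 : c ^ 57 = 1 := hc ▸ pow_orderOf_eq_one c
    have hne : (c ^ j) ^ 3 ≠ 1 := fun e => by
      rw [← pow_mul] at e
      have h := orderOf_dvd_of_pow_eq_one e
      rw [hc, show 57 = 19 * 3 by norm_num] at h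
      exact hj2 ((Nat.mul_dvd_mul_iff_right (by norm_num)).1 h)
    haveI : Fact (Nat.Prime 19) := ⟨by norm_num⟩
    have ho : orderOf ((c ^ j) ^ 3) = 19 := orderOf_eq_prime
      (by rw [← pow_mul, ← pow_mul, show j * (3 * 19) = 57 * j by ring, pow_mul, h57, one_pow]) hne
    obtain ⟨a, ha⟩ := hgc
    simp only at ha
    have ha3 : (3 : ℤ) ∣ a := by
      have e : c ^ (a * 19) = 1 := by rw [zpow_mul, ha, zpow_ofNat]; exact hg ▸ pow_orderOf_eq_one g
      rw [← orderOf_dvd_iff_zpow_eq_one, hc] at e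
      push_cast at e
      omega
    obtain ⟨b, rfl⟩ := ha3
    refine Subgroup.eq_of_le_of_card_ge ?_ (by rw [Nat.card_zpowers, Nat.card_zpowers, ho, hg])
    -- both lie among the powers of the cube of the generator
    have hcyc : ∀ y : G, y ∈ zpowers (c ^ 3) → y ≠ 1 → zpowers y = zpowers (c ^ 3) := fun y hy hy1 => by
      have hc3 : orderOf (c ^ 3) = 19 := by rw [orderOf_pow' c (by norm_num), hc]; rfl
      exact le_antisymm (zpowers_le.2 hy) (zpowers_le.2 (mem_zpowers_pow (by norm_num) hc3 hy hy1))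
    rw [hcyc ((c ^ j) ^ 3) ⟨j, by simp [← pow_mul, mul_comm]⟩ hne, zpowers_le]
    exact ⟨b, by rw [← ha, zpow_mul, ← zpow_natCast c 3]; rfl⟩
  obtain ⟨hp0m, hp0e⟩ := Finset.mem_filter.1 hp0
  have key : ∀ p ∈ F, p0.1⁻¹ * p.1 ∈ normalizer ((zpowers g : Subgroup G) : Set G) ∧
      p0.1⁻¹ * p.1 * c ^ p.2 * (p0.1⁻¹ * p.1)⁻¹ = c ^ p0.2 := by
    intro p hp
    obtain ⟨hpm, hpe⟩ := Finset.mem_filter.1 hp
    have e : p0.1⁻¹ * p.1 * c ^ p.2 * (p0.1⁻¹ * p.1)⁻¹ = c ^ p0.2 := by
      have : p.1 * c ^ p.2 * p.1⁻¹ = p0.1 * c ^ p0.2 * p0.1⁻¹ := hpe.trans hp0e.symm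
      calc p0.1⁻¹ * p.1 * c ^ p.2 * (p0.1⁻¹ * p.1)⁻¹ = p0.1⁻¹ * (p.1 * c ^ p.2 * p.1⁻¹) * p0.1 := by group
        _ = _ := by rw [this]; group
    refine ⟨?_, e⟩
    have h3 := congrArg (fun y => y ^ 3) e
    simp only [conj_pow] at h3
    have hX1 := hX p.2 (Finset.mem_product.1 hpm).2
    have hX0 := hX p0.2 (Finset.mem_product.1 hp0m).2
    rw [hX1]
    refine mem_normalizer_zpowers ?_
    rw [h3, ← hX1, hX0]
    exact mem_zpowers _
  rw [Nat.card_eq_fintype_card, ← Finset.card_univ]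
  refine Finset.card_le_card_of_injOn (fun p => if h : p ∈ F then (⟨_, (key p h).1⟩ : normalizer ((zpowers g : Subgroup G) : Set G)) else 1)
    (fun _ _ => Finset.mem_univ _) ?_
  intro p hp q hq hpq
  rw [Finset.mem_coe] at hp hq
  simp only [dif_pos hp, dif_pos hq, Subtype.mk.injEq, mul_right_inj] at hpq
  have e1 := (key p hp).2
  have e2 := (key q hq).2
  rw [← hpq] at e2
  have e3 : c ^ p.2 = c ^ q.2 := mul_left_cancel (mul_right_cancel (e1.trans e2.symm))
  have hp2 := Finset.mem_range.1 (Finset.mem_filter.1 (Finset.mem_product.1 (Finset.mem_filter.1 hp).1).2).1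
  have hq2 := Finset.mem_range.1 (Finset.mem_filter.1 (Finset.mem_product.1 (Finset.mem_filter.1 hq).1).2).1
  exact Prod.ext hpq (pow_injOn_Iio_orderOf (x := c) (by simpa [hc] using hp2) (by simpa [hc] using hq2) e3)

namespace JT

variable {G : Type u} [Group G] (D : JT G) [Finite G] [IsSimpleGroup G]
include D

theorem not_171 {g : G} (hg : orderOf g = 19) (hC : Nat.card (centralizer ({g} : Set G)) = 57)
    (hN : Nat.card (normalizer ((zpowers g : Subgroup G) : Set G)) ≤ 171) : False := by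
  classical
  haveI := finite_W
  haveI := Fintype.ofFinite W
  haveI := Fintype.ofFinite G
  haveI : Fact (Nat.Prime 3) := ⟨Nat.prime_three⟩
  obtain ⟨⟨y, hy⟩, hyo⟩ := exists_prime_orderOf_dvd_card' (G := centralizer ({g} : Set G)) 3 (by rw [hC]; norm_num)
  rw [Subgroup.orderOf_mk] at hyo
  have hcomm : Commute g y := (Subgroup.mem_centralizer_singleton_iff.1 hy).symm
  set c := g * y with hcdef
  have hc : orderOf c = 57 := by
    rw [hcdef, hcomm.orderOf_mul_eq_mul_orderOf_of_coprime (by rw [hg, hyo]; norm_num), hg, hyo]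
  have hgc : g ∈ zpowers c := by
    refine ⟨39, ?_⟩
    show c ^ (39 : ℤ) = g
    rw [show (39 : ℤ) = ((39 : ℕ) : ℤ) by norm_num, zpow_natCast, hcdef, hcomm.mul_pow]
    have h1 : g ^ 39 = g := by
      rw [show (39 : ℕ) = 19 * 2 + 1 by norm_num, pow_succ, pow_mul, ← hg, pow_orderOf_eq_one, one_pow, one_mul]
    have h2 : y ^ 39 = 1 := by
      rw [show (39 : ℕ) = 3 * 13 by norm_num, pow_mul, ← hyo, pow_orderOf_eq_one, one_pow]
    rw [h1, h2, mul_one]
  obtain ⟨ψ, d, hd, hd4, hd15⟩ := D.exists_degree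
  have hnorm : ∑ x : G, (ψ : G → ℂ) x * conj ((ψ : G → ℂ) x) = (Nat.card G : ℂ) := by
    have h := Char.classInner_irrChar ψ ψ
    rw [if_pos rfl, classInner, inv_mul_eq_div, div_eq_one_iff_eq Char.card_ne_zero] at h
    exact h
  have hre : ∀ x, (ψ : G → ℂ) x * conj ((ψ : G → ℂ) x) = ((Complex.normSq ((ψ : G → ℂ) x) : ℝ) : ℂ) :=
    fun x => Complex.mul_conj _
  simp only [hre, ← Complex.ofReal_sum, ← Complex.ofReal_natCast, Complex.ofReal_inj] at hnorm
  have hb := translate_bound (n := 171) hg hc hgc hN (fun x => Complex.normSq ((ψ : G → ℂ) x))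
    (fun x => Complex.normSq_nonneg _)
    (fun a x => by rw [show (ψ : G → ℂ) (a * x * a⁻¹) = (ψ : G → ℂ) x from Char.isClassFunction_of_isIrr ψ.2 x a])
  rw [hnorm] at hb
  have hT : ∑ j ∈ (Finset.range 57).filter (fun j => ¬19 ∣ j), Complex.normSq ((ψ : G → ℂ) (c ^ j)) ≤ 171 :=
    le_of_mul_le_mul_left (a := (Nat.card G : ℝ)) (by push_cast at hb; linarith) (Nat.cast_pos.2 Nat.card_pos)
  obtain ⟨n, ρ, -, hρ⟩ := ψ.2
  have hn : n = d := by
    have h := hd
    rw [← hρ, Representation.char_one, Module.finrank_fin_fun] at h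
    exact_mod_cast h
  subst hn
  obtain ⟨μ, b, hb', hμ, -⟩ := Char.exists_eigenbasis ρ c
  have hμ57 : ∀ i, μ i ^ 57 = 1 := hc ▸ hμ
  have hval : ∀ j, (ψ : G → ℂ) (c ^ j) = ∑ i, μ i ^ j := fun j => by
    rw [← hρ]
    refine Char.trace_eq_sum_of_eigenbasis (ρ (c ^ j)) b (fun i => μ i ^ j) fun i => ?_
    induction j with
    | zero => simp
    | succ j ih => rw [pow_succ', map_mul, Module.End.mul_apply, ih, map_smul, hb', smul_smul, pow_succ]
  obtain ⟨A, B, hAB, hA, hB⟩ := excess (fun i : Fin n => μ (Fin.cast (by simp) i)) (fun i => hμ57 _)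
    (by omega) (by omega)
  have hcast : ∀ j, ∑ i : Fin n, μ (Fin.cast (by simp) i) ^ j = (ψ : G → ℂ) (c ^ j) := fun j => by
    rw [hval]
    exact Fintype.sum_equiv (finCongr (by simp)) _ _ fun i => rfl
  simp only [hcast, hre, ← Complex.ofReal_sum] at hA hB
  have hA' : ∑ j ∈ Finset.range 57, Complex.normSq ((ψ : G → ℂ) (c ^ j)) = 57 * (A : ℝ) := by
    apply Complex.ofReal_injective
    push_cast
    simpa using hA
  have hB' : ∑ l ∈ Finset.range 3, Complex.normSq ((ψ : G → ℂ) (c ^ (19 * l))) = 3 * (B : ℝ) := by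
    apply Complex.ofReal_injective
    push_cast
    simpa using hB
  rw [← Finset.sum_filter_add_sum_filter_not _ (fun j => 19 ∣ j),
    show (Finset.range 57).filter (fun j => 19 ∣ j) = (Finset.range 3).map ⟨fun l => 19 * l, fun _ _ h => by simpa using h⟩
      by decide +kernel, Finset.sum_map] at hA'
  erw [hB'] at hA' -- the subgroup of order three
  have : (57 + B : ℝ) + 1 ≤ 19 * A := by exact_mod_cast hAB
  linarith

/-- An element of order nineteen. -/
theorem nineteen {g : G} (hg : orderOf g = 19) :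
    Nat.card (centralizer ({g} : Set G)) = 19 ∧ Nat.card (zpowers g).normalizerMonoidHom.range = 9 ∧
      IsCyclic (zpowers g).normalizerMonoidHom.range := by
  classical
  obtain ⟨k, hk, hN, hNd, hmod, hr, hcyc⟩ := D.norm_data (Or.inr rfl) hg
  obtain ⟨i, hi, hC⟩ := D.card_centralizer_form (Or.inr rfl) hg
  rw [hN, hC] at hNd hmod
  norm_num at hk
  rcases solve_nineteen i hi k (Nat.lt_succ_of_le (Nat.le_of_dvd (by norm_num) hk)) hk hNd hmod with
    ⟨rfl, rfl⟩ | ⟨rfl, rfl⟩ | ⟨rfl, rfl⟩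
  · exact ⟨by rw [hC]; norm_num, hr, hcyc⟩
  · exact (D.not_171 hg (by rw [hC]; norm_num) (by rw [hN, hC]; norm_num)).elim
  · -- the normaliser centralises the Sylow subgroup
    exfalso
    haveI : Fact (Nat.Prime 19) := ⟨by norm_num⟩
    let P : Sylow 19 G := Sylow.ofCard (zpowers g) (by
      rw [Nat.card_zpowers, hg, D.card_G', show (50232960 : ℕ).factorization 19 = 1 by
        rw [Nat.factorization_def _ (by norm_num : Nat.Prime 19), show (50232960 : ℕ) = 19 ^ 1 * 2643840 by norm_num,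
          padicValNat.mul (by norm_num) (by norm_num), padicValNat.prime_pow,
          padicValNat.eq_zero_of_not_dvd (by norm_num)], pow_one])
    have hP : normalizer ((P : Subgroup G) : Set G) ≤ centralizer ((P : Subgroup G) : Set G) := by
      intro v hv
      have hle : centralizer ({g} : Set G) ≤ normalizer ((zpowers g : Subgroup G) : Set G) := fun c hc =>
        mem_normalizer_zpowers (by rw [Subgroup.mem_centralizer_singleton_iff.1 hc, mul_inv_cancel_right]; exact mem_zpowers g)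
      have he := Subgroup.eq_of_le_of_card_ge hle (by rw [hN, mul_one])
      exact mem_centralizer_zpowers.2 (Subgroup.mem_centralizer_singleton_iff.1 (he ▸ hv))
    have hcomp := (MonoidHom.ker_transferSylow_isComplement' P hP).card_mul
    have hPc : Nat.card P = 19 := by
      show Nat.card (zpowers g) = 19
      rw [Nat.card_zpowers, hg]
    rw [hPc, D.card_G'] at hcomp
    rcases (inferInstance : (MonoidHom.transferSylow P hP).ker.Normal).eq_bot_or_eq_top with h | h
    · rw [h, Subgroup.card_bot] at hcomp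
      norm_num at hcomp
    · rw [h, Subgroup.card_top, D.card_G'] at hcomp
      norm_num at hcomp

end JT

end Cfsg.Agent.JThreeRecog
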