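import Cfsg.Agent.JThreeRecog.Scan

/-!
A portion of the search.
-/

set_option autoImplicit false
set_option maxRecDepth 100000

namespace Cfsg.Agent.JThreeRecog.Search

theorem check9 : (triples9.all chk) = true := by decide +kernel

end Cfsg.Agent.JThreeRecog.Search
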