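import Cfsg.Agent.JThreeRecog.Part0
import Cfsg.Agent.JThreeRecog.Part1
import Cfsg.Agent.JThreeRecog.Part2
import Cfsg.Agent.JThreeRecog.Part3
import Cfsg.Agent.JThreeRecog.Part4
import Cfsg.Agent.JThreeRecog.Part5
import Cfsg.Agent.JThreeRecog.Part6
import Cfsg.Agent.JThreeRecog.Part7
import Cfsg.Agent.JThreeRecog.Part8
import Cfsg.Agent.JThreeRecog.Part9

/-!
The search is complete: the only order parameter is 26163.
-/

set_option autoImplicit false
set_option maxRecDepth 100000
set_option linter.all false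

namespace Cfsg.Agent.JThreeRecog.Search

theorem steps_spec {f : ℕ → Bool} : ∀ {n x : ℕ}, steps f n x = true → ∀ i < n, f (x + 128 * i) = true
  | 0, _, _, i, hi => absurd hi (Nat.not_lt_zero i)
  | n + 1, x, h, i, hi => by
    simp only [steps, Bool.and_eq_true] at h
    rcases i with _ | i
    · simpa using h.1
    · have := steps_spec h.2 i (by omega)
      rwa [show x + 128 + 128 * i = x + 128 * (i + 1) by ring] at this

theorem scan_spec {f : ℕ → Bool} {x B : ℕ} (h : scan x B f = true) {y : ℕ} (h1 : x ≤ y) (h2 : y ≤ B)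
    (h3 : y % 128 = x % 128) : f y = true := by
  have := steps_spec h ((y - x) / 128) (by omega)
  rwa [show x + 128 * ((y - x) / 128) = y by omega] at this

theorem negStart_le {K : ℕ} {c : Info} {D : ℤ} (h : Adm K c D) {a : ℕ} (ha : D = -(a : ℤ)) :
    negStart c ≤ a ∧ a % 128 = negStart c % 128 := by
  obtain ⟨h0, h1, h2, -, h4, -, -⟩ := h
  have h4' := h4 (by omega)
  simp only [negStart]
  omega

theorem posStart_le {K : ℕ} {c : Info} {D : ℤ} (h : Adm K c D) {a : ℕ} (ha : D = (a : ℤ)) :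
    posStart c ≤ a ∧ a % 128 = posStart c % 128 := by
  obtain ⟨h0, h1, h2, h3, -, -, -⟩ := h
  have h3' := h3 (by omega)
  simp only [posStart]
  omega

theorem okB_of {K : ℕ} {c : Info} {D : ℤ} (h : Adm K c D) : okB c D = true := by
  obtain ⟨h0, h1, h2, h3, h4, -, -⟩ := h
  simp only [okB, Bool.and_eq_true, bne_iff_ne, ne_eq, beq_iff_eq, Nat.ble_eq]
  refine ⟨⟨⟨h0, h1⟩, h2⟩, ?_⟩
  split_ifs with hD
  · exact decide_eq_true (h3 hD)
  · exact decide_eq_true (h4 (by omega))

theorem chkT_spec {K : ℕ} (hK : K % 128 = 51) {c₁ c₂ c₃ : Info} {a b e : ℤ}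
    (h : chkT c₁ c₂ c₃ a b e = true) (h₁ : Adm K c₁ a) (h₂ : Adm K c₂ b) (h₃ : Adm K c₃ e)
    (heq : (K : ℤ) * numer c₁ c₂ c₃ a b e = 15200 * (a * b * e)) : K = 26163 := by
  have hden : (15200 : ℤ) * (a * b * e) ≠ 0 := by simp [h₁.1, h₂.1, h₃.1]
  have hnum : numer c₁ c₂ c₃ a b e ≠ 0 := fun h0 => hden (by rw [← heq, h0, mul_zero])
  have hm : (15200 : ℤ) * (a * b * e) % numer c₁ c₂ c₃ a b e = 0 := by
    rw [← heq, Int.mul_emod_left]
  have hq : (15200 : ℤ) * (a * b * e) / numer c₁ c₂ c₃ a b e = (K : ℤ) := by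
    rw [← heq, Int.mul_ediv_cancel _ hnum]
  simp only [chkT, okB_of h₁, okB_of h₂, okB_of h₃, Bool.and_self, if_true, beq_iff_eq, bne_iff_ne, ne_eq,
    if_neg hnum, hm, not_true_eq_false, if_false, hq] at h
  obtain ⟨-, -, -, -, -, d1, q1⟩ := h₁
  obtain ⟨-, -, -, -, -, d2, q2⟩ := h₂
  obtain ⟨-, -, -, -, -, d3, q3⟩ := h₃
  simp only [Int.emod_eq_zero_of_dvd d1, Int.emod_eq_zero_of_dvd d2, Int.emod_eq_zero_of_dvd d3,
    decide_eq_true q1, decide_eq_true q2, decide_eq_true q3,
    decide_eq_true (show (0 : ℤ) < K by omega), show (K : ℤ) % 128 = 51 by omega, beq_self_eq_true,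
    Bool.and_self, Bool.not_true, Bool.false_or, beq_iff_eq] at h
  exact_mod_cast h

theorem chkQ_spec {K : ℕ} (hK : K % 128 = 51) {c₁ c₂ c₃ : Info} {a : ℕ} {b e : ℤ}
    (h : chkQ c₁ c₂ c₃ a K = true) (h₁ : Adm K c₁ (-(a : ℤ))) (h₂ : Adm K c₂ b) (h₃ : Adm K c₃ e)
    (hsum : -(a : ℤ) + b + e = -1) (heq : (K : ℤ) * numer c₁ c₂ c₃ (-(a : ℤ)) b e = 15200 * (-(a : ℤ) * b * e)) :
    K = 26163 := by
  have he : (a : ℤ) - 1 - b = e := by linarith
  simp only [chkQ] at h
  set A : ℤ := 15200 * -(a : ℤ) - (K : ℤ) * -(a : ℤ) - (K : ℤ) * (c₁.1 * c₁.1) with hA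
  set B : ℤ := -(A * ((a : ℤ) - 1)) + (K : ℤ) * -(a : ℤ) * (c₃.1 * c₃.1 - c₂.1 * c₂.1) with hB
  set C : ℤ := (K : ℤ) * -(a : ℤ) * (c₂.1 * c₂.1) * ((a : ℤ) - 1) with hC
  have hquad : A * b ^ 2 + B * b + C = 0 := by
    rw [hB, hC, hA]
    simp only [numer] at heq
    subst he
    linear_combination heq
  have fin : ∀ x, x = b → chkT c₁ c₂ c₃ (-(a : ℤ)) x ((a : ℤ) - 1 - x) = true → K = 26163 := by
    rintro x rfl hx
    rw [he] at hx
    exact chkT_spec hK hx h₁ h₂ h₃ heq
  by_cases hA0 : A = 0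
  · simp only [hA0, beq_self_eq_true, if_true, beq_iff_eq, bne_iff_ne, ne_eq] at h
    split_ifs at h with hB0
    · exact absurd (by simpa [hA0, hB0] using hquad) (of_decide_eq_true (by simpa using h))
    · refine fin _ ?_ h
      rw [show -C = b * B by rw [hA0] at hquad; linarith, Int.mul_ediv_cancel _ hB0]
  · have hΔ : B * B - 4 * A * C = (2 * A * b + B) ^ 2 := by linear_combination (-4 * A) * hquad
    simp only [beq_iff_eq, if_neg hA0, hΔ, if_neg (not_lt.2 (sq_nonneg (2 * A * b + B)))] at h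
    set w := isq ((2 * A * b + B) ^ 2).toNat
    simp only [Bool.and_eq_true, Nat.ble_eq, Nat.blt] at h
    split_ifs at h with hw hw2
    · rw [Bool.and_eq_true] at h
      have hsq : (2 * A * b + B) ^ 2 = (w : ℤ) ^ 2 := by
        have := congrArg (fun n : ℕ => (n : ℤ)) hw2
        simp only [Int.toNat_of_nonneg (sq_nonneg (2 * A * b + B))] at this
        rw [← this]
        push_cast
        ring
      have h2A : 2 * A ≠ 0 := by simp [hA0]
      rcases sq_eq_sq_iff_eq_or_eq_neg.1 hsq with e | e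
      · exact fin _ (by rw [show (w : ℤ) - B = b * (2 * A) by linarith, Int.mul_ediv_cancel _ h2A]) h.1
      · exact fin _ (by rw [show -(w : ℤ) - B = b * (2 * A) by linarith, Int.mul_ediv_cancel _ h2A]) h.2
    · exfalso
      obtain ⟨hw1, hw3⟩ := hw
      set n := ((2 * A * b + B) ^ 2).toNat with hn
      have hr : n = (2 * A * b + B).natAbs * (2 * A * b + B).natAbs := by
        have h5 : (2 * A * b + B) ^ 2 = (((2 * A * b + B).natAbs * (2 * A * b + B).natAbs : ℕ) : ℤ) := by
          push_cast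
          rw [abs_mul_abs_self, sq]
        rw [hn, h5, Int.toNat_natCast]
      rw [Nat.succ_le_iff] at hw3
      have h6 : w ≤ (2 * A * b + B).natAbs := Nat.mul_self_le_mul_self_iff.1 (hr ▸ hw1)
      have h7 : (2 * A * b + B).natAbs ≤ w :=
        Nat.lt_succ_iff.1 (Nat.mul_self_lt_mul_self_iff.1 (hr ▸ hw3))
      exact hw2 (by rw [hr, le_antisymm h7 h6])

theorem pow31 : ∀ r < 128, r % 2 = 1 → ∀ u < 128, r * u % 128 = 51 → 51 * r ^ 31 % 128 = u := by
  decide +kernel

theorem kscan_spec {K : ℕ} (hK : K % 128 = 51) {c₁ c₂ c₃ : Info} {a kmax : ℕ} {b e : ℤ}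
    (h : kscan c₁ c₂ c₃ a kmax = true) (h₁ : Adm K c₁ (-(a : ℤ))) (h₂ : Adm K c₂ b) (h₃ : Adm K c₃ e)
    (hsum : -(a : ℤ) + b + e = -1) (heq : (K : ℤ) * numer c₁ c₂ c₃ (-(a : ℤ)) b e = 15200 * (-(a : ℤ) * b * e))
    (hk : K ≤ kmax) : K = 26163 := by
  have h₁' := h₁
  obtain ⟨ha0, -, -, -, -, hd, hsq⟩ := h₁
  have ha : 0 < a := by omega
  have hd' : a ∣ c₁.1.natAbs * K := by
    have := Int.natAbs_dvd_natAbs.2 hd
    simpa [Int.natAbs_mul] using this
  set g := Nat.gcd a c₁.1.natAbs with hg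
  have hg0 : 0 < g := Nat.gcd_pos_of_pos_left _ ha
  have hs : a / g ∣ K := by
    have h1 : a / g ∣ c₁.1.natAbs / g * K := by
      have e1 : g * (c₁.1.natAbs / g * K) = c₁.1.natAbs * K := by
        rw [← mul_assoc, Nat.mul_div_cancel' (Nat.gcd_dvd_right _ _)]
      refine (Nat.mul_dvd_mul_iff_left hg0).1 ?_
      rwa [e1, Nat.mul_div_cancel' (Nat.gcd_dvd_left _ _)]
    exact (Nat.coprime_div_gcd_div_gcd hg0).dvd_of_dvd_mul_left h1
  obtain ⟨u, hu⟩ := hs
  simp only [kscan, ← hg] at h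
  set s := a / g
  have hsodd : s % 2 = 1 := by
    have := Nat.mul_mod s u 2
    rcases Nat.mod_two_eq_zero_or_one s with h0 | h0
    · rw [h0, zero_mul] at this; omega
    · exact h0
  rw [if_neg (by simp [hsodd])] at h
  have hu128 : 51 * s ^ 31 % 128 = u % 128 := by
    rw [Nat.mul_mod, Nat.pow_mod, ← Nat.mul_mod]
    exact pow31 (s % 128) (Nat.mod_lt _ (by norm_num)) ((Nat.mod_mod_of_dvd s (by norm_num : 2 ∣ 128)).trans hsodd) (u % 128) (Nat.mod_lt _ (by norm_num))
      (by rw [← Nat.mul_mod, ← hu, hK])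
  have hsu : s * u ≤ kmax := hu ▸ hk
  have := scan_spec h (y := u) (by omega) ((Nat.le_div_iff_mul_le (Nat.pos_of_ne_zero fun (h0 : s = 0) => by rw [h0] at hsodd; exact absurd hsodd (by norm_num))).2 (by rw [mul_comm]; exact hsu))
    (by omega)
  rw [← hu, if_neg] at this
  · exact chkQ_spec hK this h₁' h₂ h₃ hsum heq
  · have : (a : ℤ) * a ≤ 1920 * K := by linarith
    have : a * a ≤ 1920 * K := by exact_mod_cast this
    omega

section Bounds

variable {K v b e a x y : ℤ} (hK : 30401 ≤ K) (hv : 0 ≤ v) (hb : 0 ≤ b) (he : 0 ≤ e)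
  (ha : 0 < a) (hx : 0 < x) (hy : 0 < y)
include hK hv hb he ha hx hy

theorem bound_first (h : K * (a * x * y - v * x * y - b * a * y + e * a * x) = 15200 * (a * x * y))
    (hmax : b * a ≤ v * x) : a ≤ 4 * v := by
  have hxy : 0 < x * y := mul_pos hx hy
  have h1 : K * (a - 2 * v) * (x * y) ≤ 15200 * a * (x * y) := by
    calc K * (a - 2 * v) * (x * y) = K * (a * x * y - v * x * y - v * x * y) := by ring
      _ ≤ K * (a * x * y - v * x * y - b * a * y + e * a * x) := by
          refine mul_le_mul_of_nonneg_left ?_ (by linarith)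
          have := mul_le_mul_of_nonneg_right hmax hy.le
          have : 0 ≤ e * a * x := by positivity
          linarith
      _ = 15200 * a * (x * y) := by rw [h]; ring
  have h2 := le_of_mul_le_mul_right h1 hxy
  by_contra hcon
  have h3 : 30401 * (a - 2 * v) ≤ K * (a - 2 * v) := mul_le_mul_of_nonneg_right hK (by omega)
  omega

theorem bound_second_neg (h : K * (a * x * y - v * x * y - b * a * y + e * a * x) = 15200 * (a * x * y))
    (hav : a ≤ v) (hxy : x ≤ y) : x * (v - a) ≤ e * a := by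
  have h1 : 0 < a * x * y := by positivity
  have h2 : 0 < a * x * y - v * x * y - b * a * y + e * a * x := pos_of_mul_pos_right (by rw [h]; positivity) (by linarith)
  have h3 : 0 ≤ b * a * y := by positivity
  have h4 : (v - a) * y * x ≤ e * a * x := by linarith
  have h5 := le_of_mul_le_mul_right h4 hx
  have h6 := mul_le_mul_of_nonneg_left hxy (show 0 ≤ v - a by linarith)
  linarith

theorem bound_second_pos (h : K * (a * x * y - v * x * y - b * a * y + e * a * x) = 15200 * (a * x * y))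
    (hk : 2 * 15200 * a < K * (a - v)) : x * (a - v) ≤ 2 * b * a := by
  have hxy : 0 < x * y := mul_pos hx hy
  have h1 : 0 ≤ K * (e * a * x) := mul_nonneg (by linarith) (by positivity)
  have h2 : K * ((a - v) * x * y) < 2 * (K * (b * a * y)) := by
    have := mul_lt_mul_of_pos_right hk hxy
    linarith
  have h3 : (a - v) * x * y < 2 * (b * a * y) := by
    refine lt_of_mul_lt_mul_left ?_ (show (0 : ℤ) ≤ K by linarith)
    linarith
  have h4 : (a - v) * x * y < (2 * b * a) * y := by linarith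
  have := lt_of_mul_lt_mul_right h4 hy.le
  linarith

theorem bound_one (h : K * (a * x * y - v * x * y + b * a * y + e * a * x) = 15200 * (a * x * y)) :
    a ≤ 2 * v := by
  have hxy : 0 < x * y := mul_pos hx hy
  have h1 : K * (a - v) * (x * y) ≤ 15200 * a * (x * y) := by
    calc K * (a - v) * (x * y) = K * (a * x * y - v * x * y) := by ring
      _ ≤ K * (a * x * y - v * x * y + b * a * y + e * a * x) := by
          refine mul_le_mul_of_nonneg_left ?_ (by linarith)
          have : 0 ≤ b * a * y := by positivity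
          have : 0 ≤ e * a * x := by positivity
          linarith
      _ = 15200 * a * (x * y) := by rw [h]; ring
  have h2 := le_of_mul_le_mul_right h1 hxy
  by_contra hcon
  have h3 : 30401 * (a - v) ≤ K * (a - v) := mul_le_mul_of_nonneg_right hK (by omega)
  omega

end Bounds

theorem ordered {K : ℕ} (hK : K % 128 = 51) {c₁ c₂ c₃ : Info} {D₁ D₂ D₃ : ℤ}
    (hA : leB c₂ c₃ = true → chkA c₁ c₂ c₃ = true) (hA' : leB c₃ c₂ = true → chkA c₁ c₃ c₂ = true)
    (hB : chkB c₁ c₂ c₃ = true)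
    (h₁ : Adm K c₁ D₁) (h₂ : Adm K c₂ D₂) (h₃ : Adm K c₃ D₃) (hsum : D₁ + D₂ + D₃ = -1)
    (heq : (K : ℤ) * numer c₁ c₂ c₃ D₁ D₂ D₃ = 15200 * (D₁ * D₂ * D₃))
    (hneg : D₁ < 0) (hpos : 0 < D₃)
    (hmax : D₂ < 0 → c₂.1 * c₂.1 * (-D₁) ≤ c₁.1 * c₁.1 * (-D₂)) : K = 26163 := by
  obtain ⟨a, rfl⟩ : ∃ a : ℕ, D₁ = -(a : ℤ) := ⟨D₁.natAbs, by omega⟩
  obtain ⟨y, rfl⟩ : ∃ y : ℕ, D₃ = (y : ℤ) := ⟨D₃.natAbs, by omega⟩
  obtain ⟨sa, sam⟩ := negStart_le h₁ rfl
  have hsq := h₁.2.2.2.2.2.2
  set v : ℕ := c₁.1.natAbs ^ 2 with hv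
  have hv' : (v : ℤ) = c₁.1 * c₁.1 := by rw [hv]; push_cast; rw [sq_abs, sq]
  by_cases hK0 : K ≤ 30400
  · have hlarge : a ≤ 7639 := by
      have : (a : ℤ) * a ≤ 1920 * 30400 := by nlinarith
      nlinarith
    by_cases hle : leB c₂ c₃ = true
    · have h := hA hle
      simp only [chkA, hle, if_true, Bool.and_eq_true] at h
      exact kscan_spec hK (scan_spec h.1 sa hlarge sam) h₁ h₂ h₃ hsum heq hK0
    · have hle' : leB c₃ c₂ = true := by
        simp only [leB, decide_eq_true_eq] at hle ⊢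
        omega
      have h := hA' hle'
      simp only [chkA, hle', if_true, Bool.and_eq_true] at h
      refine kscan_spec hK (scan_spec h.1 sa hlarge sam) h₁ h₃ h₂ (by linarith) ?_ hK0
      simp only [numer] at heq ⊢
      linear_combination heq
  · have hK1 : (30401 : ℤ) ≤ K := by omega
    have hy : (0 : ℤ) < y := by omega
    rcases lt_or_gt_of_ne h₂.1 with hneg₂ | hpos₂
    · obtain ⟨x, rfl⟩ : ∃ x : ℕ, D₂ = -(x : ℤ) := ⟨D₂.natAbs, by omega⟩
      obtain ⟨sx, sxm⟩ := negStart_le h₂ rfl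
      have hmax' := hmax hneg₂
      rw [neg_neg, neg_neg, ← hv'] at hmax'
      set b : ℕ := c₂.1.natAbs ^ 2 with hb
      have hb' : (b : ℤ) = c₂.1 * c₂.1 := by rw [hb]; push_cast; rw [sq_abs, sq]
      set e : ℕ := c₃.1.natAbs ^ 2 with he
      have he' : (e : ℤ) = c₃.1 * c₃.1 := by rw [he]; push_cast; rw [sq_abs, sq]
      simp only [numer, ← hv', ← hb', ← he'] at heq
      rw [← hb'] at hmax'
      have hxa : (0 : ℤ) < x := by omega
      have haa : (0 : ℤ) < a := by omega
      have hb0 : (0 : ℤ) ≤ b := by positivity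
      have eq1 : (K : ℤ) * (a * x * y - v * x * y - b * a * y + e * a * x) = 15200 * (a * x * y) := by
        linear_combination heq
      have he0 : (0 : ℤ) ≤ e := by positivity
      have hv0 : (0 : ℤ) ≤ v := by positivity
      have hbound : a ≤ v * 4 := by
        have := bound_first hK1 hv0 hb0 he0 haa hxa hy eq1 hmax'
        omega
      have h := scan_spec hB sa hbound sam
      simp only [← hv] at h
      have hfin : chkT c₁ c₂ c₃ (-(a : ℤ)) (-(x : ℤ)) ((a : ℤ) + x - 1) = true → K = 26163 := fun hx => by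
        rw [show (a : ℤ) + x - 1 = y by linarith] at hx
        refine chkT_spec hK hx h₁ h₂ h₃ ?_
        simp only [numer, ← hv', ← hb', ← he']
        exact heq
      split_ifs at h with hav hlt
      · rw [Nat.blt_eq] at hlt
        refine hfin (scan_spec h sx ((Nat.le_div_iff_mul_le (by omega)).2 ?_) sxm)
        have := bound_second_neg hK1 hv0 hb0 he0 haa hxa hy eq1 (by omega) (by omega)
        rw [← he]
        zify [hlt.le]
        linarith
      · rw [Nat.blt_eq] at hlt
        simp only [beq_iff_eq] at hav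
        have hd : 0 < a - v := by omega
        rw [Bool.and_eq_true] at h
        by_cases hk : K ≤ 2 * 15200 * a / (a - v)
        · refine kscan_spec hK h.1 h₁ h₂ h₃ hsum ?_ hk
          simp only [numer, ← hv', ← hb', ← he']
          exact heq
        · refine hfin (scan_spec h.2 sx ((Nat.le_div_iff_mul_le hd).2 ?_) sxm)
          rw [not_le, Nat.div_lt_iff_lt_mul hd] at hk
          have hk' : (2 * 15200 * a : ℤ) < K * (a - v) := by
            have : ((2 * 15200 * a : ℕ) : ℤ) < ((K * (a - v) : ℕ) : ℤ) := by exact_mod_cast hk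
            push_cast [Nat.cast_sub (show v ≤ a by omega)] at this
            linarith
          have := bound_second_pos hK1 hv0 hb0 he0 haa hxa hy eq1 hk'
          rw [← hb]
          zify [show v ≤ a by omega]
          linarith
    · obtain ⟨x, rfl⟩ : ∃ x : ℕ, D₂ = (x : ℤ) := ⟨D₂.natAbs, by omega⟩
      have hbound : a ≤ v * 2 := by
        have heq' := heq
        simp only [numer, ← hv'] at heq'
        have := bound_one hK1 (by positivity) (mul_self_nonneg c₂.1) (mul_self_nonneg c₃.1)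
          (show (0 : ℤ) < a by omega) hpos₂ hy (v := (v : ℤ)) (by linear_combination -heq')
        omega
      by_cases hle : leB c₂ c₃ = true
      · have h := hA hle
        simp only [chkA, hle, if_true, Bool.and_eq_true, ← hv] at h
        obtain ⟨sx, sxm⟩ := posStart_le h₂ rfl
        have hx := scan_spec (scan_spec h.2 sa hbound sam) sx (by omega) sxm
        rw [show (a : ℤ) - 1 - x = y by linarith] at hx
        exact chkT_spec hK hx h₁ h₂ h₃ heq
      · have hle' : leB c₃ c₂ = true := by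
          simp only [leB, decide_eq_true_eq] at hle ⊢
          omega
        have h := hA' hle'
        simp only [chkA, hle', if_true, Bool.and_eq_true, ← hv] at h
        obtain ⟨sx, sxm⟩ := posStart_le h₃ rfl
        have hx := scan_spec (scan_spec h.2 sa hbound sam) sx (by omega) sxm
        rw [show (a : ℤ) - 1 - y = x by linarith] at hx
        refine chkT_spec hK hx h₁ h₃ h₂ ?_
        simp only [numer] at heq ⊢
        linear_combination heq

theorem all_checked : ∀ p ∈ triples, chk p = true := by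
  intro p hp
  simp only [triples, List.mem_append] at hp
  rcases hp with ((((((((hp | hp) | hp) | hp) | hp) | hp) | hp) | hp) | hp) | hp
  exacts [List.all_eq_true.1 check0 p hp, List.all_eq_true.1 check1 p hp, List.all_eq_true.1 check2 p hp,
    List.all_eq_true.1 check3 p hp, List.all_eq_true.1 check4 p hp, List.all_eq_true.1 check5 p hp,
    List.all_eq_true.1 check6 p hp, List.all_eq_true.1 check7 p hp, List.all_eq_true.1 check8 p hp,
    List.all_eq_true.1 check9 p hp]

theorem perms_mem : (triples.all fun p => triples.contains (p.2.1, p.1, p.2.2) &&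
    triples.contains (p.1, p.2.2, p.2.1)) = true := by
  decide +kernel

theorem swap12 {a b c : Info} (h : (a, b, c) ∈ triples) : (b, a, c) ∈ triples := by
  have := List.all_eq_true.1 perms_mem _ h
  simp only [Bool.and_eq_true, List.contains_iff_mem] at this
  exact this.1

theorem swap23 {a b c : Info} (h : (a, b, c) ∈ triples) : (a, c, b) ∈ triples := by
  have := List.all_eq_true.1 perms_mem _ h
  simp only [Bool.and_eq_true, List.contains_iff_mem] at this
  exact this.2

theorem ordered' {K : ℕ} (hK : K % 128 = 51) {c₁ c₂ c₃ : Info} {D₁ D₂ D₃ : ℤ}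
    (hm : (c₁, c₂, c₃) ∈ triples)
    (h₁ : Adm K c₁ D₁) (h₂ : Adm K c₂ D₂) (h₃ : Adm K c₃ D₃) (hsum : D₁ + D₂ + D₃ = -1)
    (heq : (K : ℤ) * numer c₁ c₂ c₃ D₁ D₂ D₃ = 15200 * (D₁ * D₂ * D₃))
    (hneg : D₁ < 0) (hpos : 0 < D₃) : K = 26163 := by
  have hc := all_checked _ hm
  have hc' := all_checked _ (swap23 hm)
  simp only [chk, Bool.and_eq_true] at hc hc'
  by_cases hmax : D₂ < 0 → c₂.1 * c₂.1 * (-D₁) ≤ c₁.1 * c₁.1 * (-D₂)
  · exact ordered hK (fun _ => hc.1) (fun _ => hc'.1) hc.2 h₁ h₂ h₃ hsum heq hneg hpos hmax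
  · push Not at hmax
    have hm' := swap12 hm
    have d := all_checked _ hm'
    have d' := all_checked _ (swap23 hm')
    simp only [chk, Bool.and_eq_true] at d d'
    refine ordered hK (fun _ => d.1) (fun _ => d'.1) d.2 h₂ h₁ h₃ (by linarith) ?_ hmax.1 hpos (fun _ => hmax.2.le)
    simp only [numer] at heq ⊢
    linear_combination heq

/-- The only solution. -/
theorem solve {K : ℕ} (hK : K % 128 = 51) {c₁ c₂ c₃ : Info} {D₁ D₂ D₃ : ℤ}
    (hm : (c₁, c₂, c₃) ∈ triples)
    (h₁ : Adm K c₁ D₁) (h₂ : Adm K c₂ D₂) (h₃ : Adm K c₃ D₃) (hsum : D₁ + D₂ + D₃ = -1)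
    (heq : (K : ℤ) * numer c₁ c₂ c₃ D₁ D₂ D₃ = 15200 * (D₁ * D₂ * D₃)) : K = 26163 := by
  have n1 := h₁.1; have n2 := h₂.1; have n3 := h₃.1
  have eB : (K : ℤ) * numer c₂ c₁ c₃ D₂ D₁ D₃ = 15200 * (D₂ * D₁ * D₃) := by
    simp only [numer] at heq ⊢; linear_combination heq
  have eC : (K : ℤ) * numer c₁ c₃ c₂ D₁ D₃ D₂ = 15200 * (D₁ * D₃ * D₂) := by
    simp only [numer] at heq ⊢; linear_combination heq
  have eD : (K : ℤ) * numer c₃ c₁ c₂ D₃ D₁ D₂ = 15200 * (D₃ * D₁ * D₂) := by
    simp only [numer] at heq ⊢; linear_combination heq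
  have eE : (K : ℤ) * numer c₂ c₃ c₁ D₂ D₃ D₁ = 15200 * (D₂ * D₃ * D₁) := by
    simp only [numer] at heq ⊢; linear_combination heq
  have eF : (K : ℤ) * numer c₃ c₂ c₁ D₃ D₂ D₁ = 15200 * (D₃ * D₂ * D₁) := by
    simp only [numer] at heq ⊢; linear_combination heq
  by_cases p3 : 0 < D₃
  · by_cases q1 : D₁ < 0
    · exact ordered' hK hm h₁ h₂ h₃ hsum heq q1 p3
    · exact ordered' hK (swap12 hm) h₂ h₁ h₃ (by linarith) eB (by omega) p3
  · by_cases p2 : 0 < D₂
    · exact ordered' hK (swap12 (swap23 hm)) h₃ h₁ h₂ (by linarith) eD (by omega) p2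
    · exact ordered' hK (swap23 (swap12 hm)) h₂ h₃ h₁ (by linarith) eE (by omega) (by omega)

end Cfsg.Agent.JThreeRecog.Search
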