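import Cfsg.Agent.JThreeRecog.WFacts
import Cfsg.Agent.JThreeRecog.Comb
import Cfsg.Agent.JThreeRecog.Solve
import Cfsg.Agent.Invol.Count
import Cfsg.Agent.Invol.SectionInduce
import Cfsg.Agent.CharArith.Basic
import Cfsg.Agent.Char.Linear
import Cfsg.Agent.Char.FS
import Cfsg.Agent.Char.CyclicRational

/-!
The order of a simple group with one class of involutions and the centraliser of the third Janko group.
-/

set_option autoImplicit false
set_option maxRecDepth 100000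
set_option linter.all false

namespace Cfsg.Agent.JThreeRecog

open scoped ComplexConjugate
open Equiv Cfsg

universe u

/-- A group with one class of involutions and the model as involution centraliser. -/
structure JT (G : Type u) [Group G] where
  z : G
  ord : orderOf z = 2
  emb : W →* G
  inj : Function.Injective emb
  emb_z : emb zW = z
  comm : ∀ w, emb w * z = z * emb w
  onto : ∀ c : G, c * z = z * c → ∃ w, emb w = c
  one : ∀ x y : G, orderOf x = 2 → orderOf y = 2 → IsConj x y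

namespace JT

variable {G : Type u} [Group G] (D : JT G)

/-- The centraliser of the involution. -/
abbrev cc : Subgroup G := Subgroup.centralizer ({D.z} : Set G)

theorem emb_mem (w : W) : D.emb w ∈ D.cc := Subgroup.mem_centralizer_singleton_iff.2 (D.comm w)

theorem zz : D.z * D.z = 1 := by
  rw [← pow_two, ← D.ord]
  exact pow_orderOf_eq_one _

theorem z_ne : D.z ≠ 1 := fun h => by
  have := D.ord
  rw [h, orderOf_one] at this
  norm_num at this

theorem zinv : D.z⁻¹ = D.z := inv_eq_of_mul_eq_one_right D.zz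

theorem isConj_z {u : G} (h2 : u * u = 1) (h1 : u ≠ 1) : IsConj D.z u :=
  D.one _ _ D.ord (orderOf_eq_prime (hp := ⟨Nat.prime_two⟩) (by rw [pow_two, h2]) h1)

/-- The centraliser is the model. -/
noncomputable def e : D.cc ≃* W :=
  (MulEquiv.ofBijective (D.emb.codRestrict D.cc D.emb_mem)
    ⟨fun _ _ h => D.inj (congrArg Subtype.val h), fun c => by
      obtain ⟨w, hw⟩ := D.onto c (Subgroup.mem_centralizer_singleton_iff.1 c.2)
      exact ⟨w, Subtype.ext hw⟩⟩).symm

theorem emb_e (c : D.cc) : D.emb (D.e c) = c := congrArg Subtype.val (D.e.symm_apply_apply c)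

theorem e_emb (w : W) (h : D.emb w ∈ D.cc) : D.e ⟨D.emb w, h⟩ = w := D.inj (D.emb_e _)

theorem card_cc : Nat.card D.cc = 1920 := by rw [Nat.card_congr D.e.toEquiv, card_W]

/-- The number of involutions. -/
noncomputable def K : ℕ := D.cc.index

theorem card_G : Nat.card G = 1920 * D.K := by rw [K, ← D.card_cc, Subgroup.card_mul_index]

theorem inv_unique {x : G} {k l : ℕ} (hk1 : x ^ k ≠ 1) (hk2 : x ^ k * x ^ k = 1) (hl1 : x ^ l ≠ 1)
    (hl2 : x ^ l * x ^ l = 1) : x ^ k = x ^ l := by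
  rw [← pow_add, ← two_mul] at hk2 hl2
  obtain ⟨a, ha⟩ := orderOf_dvd_of_pow_eq_one hk2
  obtain ⟨b, hb⟩ := orderOf_dvd_of_pow_eq_one hl2
  have odd : ∀ {n c : ℕ}, x ^ n ≠ 1 → 2 * n = orderOf x * c → c % 2 = 1 := fun {n c} h1 h2 => by
    by_contra h
    obtain ⟨d, rfl⟩ : 2 ∣ c := by omega
    refine h1 ?_
    rw [show n = orderOf x * d by linarith, pow_mul, pow_orderOf_eq_one, one_pow]
  rw [pow_eq_pow_iff_modEq, Nat.modEq_iff_dvd]
  have a1 := odd hk1 ha
  have b1 := odd hl1 hb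
  refine ⟨((b : ℤ) - a) / 2, ?_⟩
  have e1 : (2 : ℤ) * k = orderOf x * a := by exact_mod_cast ha
  have e2 : (2 : ℤ) * l = orderOf x * b := by exact_mod_cast hb
  have e3 : 2 * (((b : ℤ) - a) / 2) = b - a := by omega
  exact (Int.eq_of_mul_eq_mul_left (by norm_num : (2 : ℤ) ≠ 0)
    (show 2 * ((l : ℤ) - k) = 2 * (orderOf x * (((b : ℤ) - a) / 2)) by linear_combination e2 - e1 - (orderOf x : ℤ) * e3))

theorem special_ti {x y : G} {k l : ℕ} (hi : x ^ k = D.z) (hj : (y⁻¹ * x * y) ^ l = D.z) : y ∈ D.cc := by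
  have h1 : x ^ l = y * D.z * y⁻¹ := by
    rw [← hj]
    conv_lhs => rw [show x = y * (y⁻¹ * x * y) * y⁻¹ by group]
    rw [conj_pow]
  have h2 : x ^ k = x ^ l := by
    refine inv_unique (by rw [hi]; exact D.z_ne) (by rw [hi, D.zz]) ?_ ?_
    · rw [h1]; exact fun h => D.z_ne (conj_eq_one_iff.1 h)
    · rw [h1, show y * D.z * y⁻¹ * (y * D.z * y⁻¹) = y * (D.z * D.z) * y⁻¹ by group, D.zz]
      group
  rw [Subgroup.mem_centralizer_singleton_iff]
  exact mul_inv_eq_iff_eq_mul.1 ((h1.symm.trans h2.symm).trans hi)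

theorem mem_of_product {u v : G} (hu : u * u = 1) (hv : v * v = 1) {k : ℕ} (hj : (u * v) ^ k = D.z) : u ∈ D.cc := by
  rw [Subgroup.mem_centralizer_singleton_iff]
  have h1 : u * (u * v) * u⁻¹ = (u * v)⁻¹ := by
    rw [mul_inv_rev, inv_eq_of_mul_eq_one_right hu, inv_eq_of_mul_eq_one_right hv, ← mul_assoc u u,
      hu, one_mul]
  have h2 : u * D.z * u⁻¹ = D.z := by
    conv_lhs => rw [← hj, ← conj_pow, h1, inv_pow, hj, D.zinv]
  exact mul_inv_eq_iff_eq_mul.1 h2

variable [Fintype G] [Fintype W]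

/-- The virtual characters of the centraliser. -/
noncomputable def vphi (i : Fin 7) (c : D.cc) : ℂ := theta i (D.e c)

/-- The induced virtual characters. -/
noncomputable def ind (i : Fin 7) : G → ℂ := indFun D.cc (D.vphi i)

theorem vphi_gen (i : Fin 7) : IsGeneralizedCharacter D.cc (D.vphi i) :=
  Char.isGeneralized_comp D.e.toMonoidHom (isGeneralized_theta i)

theorem ind_gen (i : Fin 7) : IsGeneralizedCharacter G (D.ind i) :=
  Char.isGeneralized_indFun _ (D.vphi_gen i)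

theorem ext_emb (i : Fin 7) (w : W) : extendByZero D.cc (D.vphi i) (D.emb w) = theta i w := by
  rw [Char.extendByZero_of_mem D.cc _ (D.emb_mem w), vphi, D.e_emb]

theorem ext_support {i : Fin 7} {g : G} (h : extendByZero D.cc (D.vphi i) g ≠ 0) : ∃ k : ℕ, g ^ k = D.z := by
  have hm : g ∈ D.cc := by
    by_contra hm; exact h (Char.extendByZero_of_not_mem D.cc _ hm)
  obtain ⟨w, rfl⟩ := D.onto g (Subgroup.mem_centralizer_singleton_iff.1 hm)
  rw [D.ext_emb] at h
  obtain ⟨k, hk⟩ := theta_support h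
  exact ⟨k, by rw [← map_pow, hk, D.emb_z]⟩

theorem theta_conj (i : Fin 7) (g w : W) : theta i (g * w * g⁻¹) = theta i w := by
  simp only [theta, cls_conj]

theorem ind_apply (i : Fin 7) {w : W} {k : ℕ} (hk : w ^ k = zW) : D.ind i (D.emb w) = theta i w := by
  classical
  have hj : D.emb w ^ k = D.z := by rw [← map_pow, hk, D.emb_z]
  have key : ∀ y : G, extendByZero D.cc (D.vphi i) (y⁻¹ * D.emb w * y) = if y ∈ D.cc then theta i w else 0 := by
    intro y
    split_ifs with hy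
    · obtain ⟨u, rfl⟩ := D.onto y (Subgroup.mem_centralizer_singleton_iff.1 hy)
      rw [← map_inv, ← map_mul, ← map_mul, D.ext_emb]
      rw [show u⁻¹ * w * u = u⁻¹ * w * (u⁻¹)⁻¹ by rw [inv_inv], theta_conj]
    · by_contra hne
      obtain ⟨l, hl⟩ := D.ext_support hne
      exact hy (D.special_ti hj hl)
  rw [ind, Char.indFun_apply, Finset.sum_congr rfl fun y _ => key y, Finset.sum_ite,
    Finset.sum_const, Finset.sum_const_zero, add_zero, nsmul_eq_mul,
    ← Fintype.card_subtype, ← Nat.card_eq_fintype_card]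
  exact inv_mul_cancel_left₀ (Nat.cast_ne_zero.2 Nat.card_pos.ne') _

theorem inner_cc (i : Fin 7) (g : G → ℂ) [Fintype D.cc] :
    classInner (D.vphi i) (fun c : D.cc => g c) = (1920 : ℂ)⁻¹ * ∑ w : W, theta i w * conj (g (D.emb w)) := by
  rw [classInner, D.card_cc, Nat.cast_ofNat]
  congr 1
  refine Fintype.sum_equiv D.e.toEquiv _ _ fun c => ?_
  show D.vphi i c * conj (g c) = theta i (D.e c) * conj (g (D.emb (D.e c)))
  rw [D.emb_e]
  rfl

theorem ind_inner (i j : Fin 7) : classInner (D.ind i) (D.ind j) = (gram i j : ℂ) := by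
  classical
  rw [ind, Char.classInner_indFun_left _ _ (Char.IsGen.isClassFunction (D.ind_gen j))]
  refine (D.inner_cc i (D.ind j)).trans ?_
  rw [Finset.sum_congr rfl (g := fun w => theta i w * conj (theta j w)) fun w _ => ?_, sum_theta_mul]
  · rw [← mul_assoc, inv_mul_cancel₀ (by norm_num : (1920 : ℂ) ≠ 0), one_mul]
  · by_cases h0 : theta i w = 0
    · simp [h0]
    · obtain ⟨k, hk⟩ := theta_support h0
      rw [D.ind_apply j hk]

theorem ind_one (i : Fin 7) : classInner (D.ind i) (fun _ => (1 : ℂ)) = (triv i : ℂ) := by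
  classical
  rw [ind, Char.classInner_indFun_left _ _ (fun _ _ => rfl)]
  refine (D.inner_cc i (fun _ => 1)).trans ?_
  simp only [map_one, mul_one]
  rw [sum_theta, ← mul_assoc, inv_mul_cancel₀ (by norm_num : (1920 : ℂ) ≠ 0), one_mul]

theorem ind_at_one (i : Fin 7) : D.ind i 1 = 0 := by
  rw [ind, Char.indFun_apply_one, vphi, map_one, theta_one, mul_zero]

/-- A combination of the class functions isolating a class. -/
theorem value (coef : Fin 7 → ℤ) {c0 : ℕ} (hc0 : c0 < 16) {N : ℕ}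
    (h : ∀ w : W, ∑ i, (coef i : ℂ) * theta i w = if cls w = c0 then (N : ℂ) else 0)
    (hN : N * Data.sizes.getD c0 0 = 1920) {r : W} (hr : cls r = c0) (ψ : IrrCharacter G) :
    ∑ i, (coef i : ℂ) * classInner (D.ind i) (ψ : G → ℂ) = conj ((ψ : G → ℂ) (D.emb r)) := by
  classical
  have hcf := Char.isClassFunction_of_isIrr ψ.2
  simp only [ind, Char.classInner_indFun_left _ _ hcf]
  rw [Finset.sum_congr rfl fun i _ => congrArg ((coef i : ℂ) * ·) (D.inner_cc i (ψ : G → ℂ))]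
  simp only [Finset.mul_sum]
  rw [Finset.sum_comm, Finset.sum_congr rfl (g := fun w : W =>
    if cls w = c0 then (1920 : ℂ)⁻¹ * N * conj ((ψ : G → ℂ) (D.emb r)) else 0) fun w _ => ?_]
  · rw [← Finset.sum_filter, Finset.sum_const, card_cls hc0, nsmul_eq_mul,
      show (1920 : ℂ) = ((N * Data.sizes.getD c0 0 : ℕ) : ℂ) by rw [hN]; norm_num, Nat.cast_mul]
    have hN0 : N ≠ 0 := fun e => by simp [e] at hN
    have hs0 : Data.sizes.getD c0 0 ≠ 0 := fun e => by rw [e, mul_zero] at hN; norm_num at hN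
    have hN0' : (N : ℂ) ≠ 0 := Nat.cast_ne_zero.2 hN0
    have hs0' : ((Data.sizes.getD c0 0 : ℕ) : ℂ) ≠ 0 := Nat.cast_ne_zero.2 hs0
    field_simp
  · have e : ∑ i, (coef i : ℂ) * ((1920 : ℂ)⁻¹ * (theta i w * conj ((ψ : G → ℂ) (D.emb w)))) =
        (1920 : ℂ)⁻¹ * (∑ i, (coef i : ℂ) * theta i w) * conj ((ψ : G → ℂ) (D.emb w)) := by
      rw [Finset.mul_sum, Finset.sum_mul]
      exact Finset.sum_congr rfl fun i _ => by ring
    rw [e, h w]
    split_ifs with hw
    · rw [Char.classFun_isConj hcf (D.emb.map_isConj ((isConj_iff_cls w r).2 (hw.trans hr.symm)))]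
    · simp

theorem cls_zW : cls zW = 15 := (congrArg clsT toT_zW).trans sq_classes.2.1

theorem sum_pairs : ∑ a : G, D.ind 3 (a * D.z * a⁻¹ * D.z) = (1920 : ℂ) * 15200 := by
  classical
  set E := extendByZero D.cc (D.vphi 3) with hE
  have hinv : ∀ w : G, w * D.z * w⁻¹ * (w * D.z * w⁻¹) = 1 := fun w => by
    rw [show w * D.z * w⁻¹ * (w * D.z * w⁻¹) = w * (D.z * D.z) * w⁻¹ by group, D.zz, mul_one, mul_inv_cancel]
  set out := Finset.univ.filter fun g : G => g ∈ D.cc ∧ g * g = 1 ∧ g ≠ 1 with hout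
  have hfib : ∀ h : G → ℂ, (∀ w, h (w * D.z * w⁻¹) ≠ 0 → w * D.z * w⁻¹ ∈ D.cc) →
      ∑ b : G, h (b * D.z * b⁻¹) = (1920 : ℂ) * ∑ u ∈ out, h u := by
    intro h hh
    rw [← Finset.sum_fiberwise Finset.univ (fun b : G => b * D.z * b⁻¹) _, Finset.mul_sum]
    rw [← Finset.sum_subset (Finset.subset_univ out) fun u _ hu => ?_]
    · refine Finset.sum_congr rfl fun u hu => ?_
      rw [Finset.sum_congr rfl fun b hb => by rw [(Finset.mem_filter.1 hb).2],
        Finset.sum_const, nsmul_eq_mul]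
      congr 1
      obtain ⟨-, hu1, hu2, hu3⟩ := Finset.mem_filter.1 hu
      obtain ⟨w, hw⟩ := isConj_iff.1 (D.isConj_z hu2 hu3)
      rw [show (1920 : ℂ) = ((1920 : ℕ) : ℂ) by norm_num, Nat.cast_inj, ← D.card_cc,
        Nat.card_eq_fintype_card, Fintype.card_subtype]
      refine Finset.card_nbij' (fun b => w⁻¹ * b) (fun b => w * b) ?_ ?_
        (fun b _ => by simp) (fun b _ => by simp)
      · intro b hb
        simp only [Finset.mem_univ, true_and, Finset.coe_filter, Set.mem_ofPred_eq] at hb ⊢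
        rw [Subgroup.mem_centralizer_singleton_iff]
        rw [← hw] at hb
        calc w⁻¹ * b * D.z = w⁻¹ * (b * D.z * b⁻¹) * b := by group
          _ = D.z * (w⁻¹ * b) := by rw [hb]; group
      · intro b hb
        simp only [Finset.mem_univ, true_and, Finset.coe_filter, Set.mem_ofPred_eq] at hb ⊢
        rw [Subgroup.mem_centralizer_singleton_iff] at hb
        rw [← hw]
        calc w * b * D.z * (w * b)⁻¹ = w * (b * D.z) * b⁻¹ * w⁻¹ := by group
          _ = w * D.z * w⁻¹ := by rw [hb]; group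
    · refine Finset.sum_eq_zero fun b hb => ?_
      by_contra hne0
      have h9 := hh b hne0
      rw [(Finset.mem_filter.1 hb).2] at h9
      refine hu (Finset.mem_filter.2 ⟨Finset.mem_univ _, h9, ?_, ?_⟩) <;>
        rw [← (Finset.mem_filter.1 hb).2]
      · exact hinv b
      · intro h1
        exact D.z_ne (conj_eq_one_iff.1 h1)
  have hmem : ∀ w y : G, E (w * D.z * w⁻¹ * (y * D.z * y⁻¹)) ≠ 0 →
      w * D.z * w⁻¹ ∈ D.cc ∧ y * D.z * y⁻¹ ∈ D.cc := by
    intro w y h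
    have hprod : w * D.z * w⁻¹ * (y * D.z * y⁻¹) ∈ D.cc := by
      by_contra hh
      exact h (Char.extendByZero_of_not_mem D.cc _ hh)
    obtain ⟨k, hk⟩ := D.ext_support h
    have hu := D.mem_of_product (hinv w) (hinv y) hk
    exact ⟨hu, (D.cc.mul_mem_cancel_left hu).1 hprod⟩
  have e1 : ∀ g : G, D.ind 3 g = (1920 : ℂ)⁻¹ * ∑ y : G, E (y⁻¹ * g * y) := fun g => by
    rw [ind, Char.indFun_apply, D.card_cc, Nat.cast_ofNat]
  simp only [e1, ← Finset.mul_sum]
  rw [Finset.sum_comm]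
  have e2 : ∀ y : G, ∑ a : G, E (y⁻¹ * (a * D.z * a⁻¹ * D.z) * y) =
      ∑ b : G, E (b * D.z * b⁻¹ * (y⁻¹ * D.z * y⁻¹⁻¹)) := fun y => by
    refine Fintype.sum_equiv (Equiv.mulLeft y⁻¹) _ _ fun a => ?_
    congr 1
    simp only [Equiv.coe_mulLeft]
    group
  rw [Finset.sum_congr rfl fun y _ => e2 y, Finset.sum_comm]
  have e3 : ∀ u : G, ∑ y : G, E (u * (y⁻¹ * D.z * y⁻¹⁻¹)) = ∑ y : G, E (u * (y * D.z * y⁻¹)) :=
    fun u => Fintype.sum_equiv (Equiv.inv G) _ _ fun y => by simp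
  simp only [e3]
  rw [hfib (fun u => ∑ y : G, E (u * (y * D.z * y⁻¹))) fun w hw => ?_]
  · have e4 : ∀ u ∈ out, ∑ y : G, E (u * (y * D.z * y⁻¹)) = (1920 : ℂ) * ∑ v ∈ out, E (u * v) := by
      intro u hu
      obtain ⟨-, hu1, -⟩ := Finset.mem_filter.1 hu
      refine hfib (fun v => E (u * v)) fun w hw => ?_
      have : u * (w * D.z * w⁻¹) ∈ D.cc := by
        by_contra hh
        exact hw (Char.extendByZero_of_not_mem D.cc _ hh)
      exact (D.cc.mul_mem_cancel_left hu1).1 this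
    rw [Finset.sum_congr rfl e4, ← Finset.mul_sum, ← mul_assoc, ← mul_assoc,
      inv_mul_cancel₀ (by norm_num : (1920 : ℂ) ≠ 0), one_mul]
    congr 1
    have hq : ∀ H : G → ℂ, ∑ u ∈ out, H u = ∑ w ∈ invols, H (D.emb w) := by
      intro H
      refine (Finset.sum_bij (fun w _ => D.emb w) ?_ (fun a _ b _ h => D.inj h) ?_ fun _ _ => rfl).symm
      · intro w hw
        obtain ⟨h2, h1⟩ := (mem_invols w).1 hw
        exact Finset.mem_filter.2 ⟨Finset.mem_univ _, D.emb_mem w, by rw [← map_mul, h2, map_one],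
          fun h => h1 (D.inj (h.trans (map_one D.emb).symm))⟩
      · intro u hu
        obtain ⟨-, hu1, hu2, hu3⟩ := Finset.mem_filter.1 hu
        obtain ⟨w, rfl⟩ := D.onto u (Subgroup.mem_centralizer_singleton_iff.1 hu1)
        exact ⟨w, (mem_invols w).2 ⟨D.inj (by rw [map_mul, hu2, map_one]),
          fun h => hu3 (by rw [h, map_one])⟩, rfl⟩
    rw [hq, ← pairs_theta]
    refine Finset.sum_congr rfl fun u _ => (hq _).trans (Finset.sum_congr rfl fun v _ => ?_)
    rw [← map_mul, hE, D.ext_emb]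
  · obtain ⟨y, -, hy⟩ := Finset.exists_ne_zero_of_sum_ne_zero hw
    exact (hmem w y hy).1

theorem card_roots {v : W} {k : ℕ} (hk : v ^ k = zW) :
    Nat.card {s : G // s * s = D.emb v} = (Finset.univ.filter fun w : W => w * w = v).card := by
  classical
  rw [Nat.card_eq_fintype_card, Fintype.card_subtype]
  refine (Finset.card_bij (fun w _ => D.emb w) (fun w hw => ?_) (fun a _ b _ h => D.inj h) fun s hs => ?_).symm
  · simp only [Finset.mem_filter, Finset.mem_univ, true_and] at hw ⊢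
    rw [← map_mul, hw]
  · simp only [Finset.mem_filter, Finset.mem_univ, true_and] at hs ⊢
    have hc : Commute s (D.emb v ^ k) := by
      refine Commute.pow_right ?_ k
      rw [← hs]
      exact (Commute.refl s).mul_right (Commute.refl s)
    rw [← map_pow, hk, D.emb_z] at hc
    obtain ⟨w, rfl⟩ := D.onto s hc.eq
    exact ⟨w, D.inj (by rw [map_mul, hs]), rfl⟩

theorem card_roots_one : Nat.card {s : G // s * s = 1} = 1 + D.K := by
  classical
  rw [Nat.card_eq_fintype_card, Fintype.card_subtype, K, ← Char.card_isConj_eq_index,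
    Nat.card_eq_fintype_card, Fintype.card_subtype,
    show (Finset.univ.filter fun s : G => s * s = 1) = insert 1 (Finset.univ.filter fun s => IsConj D.z s) from ?_]
  · rw [Finset.card_insert_of_notMem, add_comm]
    intro h
    obtain ⟨g, hg⟩ := isConj_iff.1 (Finset.mem_filter.1 h).2
    exact D.z_ne (conj_eq_one_iff.1 hg)
  · ext s
    simp only [Finset.mem_filter, Finset.mem_univ, true_and, Finset.mem_insert]
    constructor
    · intro h
      by_cases h1 : s = 1
      · exact Or.inl h1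
      · exact Or.inr (D.isConj_z h h1)
    · rintro (rfl | h)
      · exact one_mul 1
      · obtain ⟨g, rfl⟩ := isConj_iff.1 h
        rw [show g * D.z * g⁻¹ * (g * D.z * g⁻¹) = g * (D.z * D.z) * g⁻¹ by group, D.zz]
        group

/-- The multiplicity of the trivial character in the restriction to a Sylow subgroup. -/
theorem res (ψ : IrrCharacter G) {r4 r8 : W} (h4 : cls r4 = 11) (h8 : cls r8 = 7) {d : ℕ} {v f g : ℤ}
    (hd : (ψ : G → ℂ) 1 = d) (hv : (ψ : G → ℂ) D.z = v) (hf : (ψ : G → ℂ) (D.emb r4) = f)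
    (hg : (ψ : G → ℂ) (D.emb r8) = g) : ∃ k : ℕ, (d : ℤ) + 35 * v + 44 * f + 48 * g = 128 * k := by
  classical
  have hch := Char.IsIrr.isCharacter ψ.2
  have hcf := Char.isClassFunction_of_isIrr ψ.2
  obtain ⟨k, hk⟩ := Char.classInner_isCharacter_eq_natCast
    (Char.isCharacter_comp (D.emb.comp SW.subtype) hch) (Char.isCharacter_one (G := SW))
  refine ⟨k, ?_⟩
  rw [classInner, card_SW] at hk
  have hs := sum_SW (fun w : W => (ψ : G → ℂ) (D.emb w)) (d : ℂ) (v : ℂ) (f : ℂ) (g : ℂ)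
    (by rw [map_one, hd])
    (fun w hw => by
      obtain ⟨h2, h1⟩ := (invol_iff w).2 hw
      rw [← hv]
      exact (Char.classFun_isConj hcf (D.isConj_z (by rw [← map_mul, h2, map_one])
        fun h => h1 (D.inj (h.trans (map_one D.emb).symm)))).symm)
    (fun w hw => by
      obtain ⟨h2, h1⟩ := four_sq hw
      obtain ⟨y, hy⟩ := isConj_iff.1 (D.isConj_z (u := D.emb (w * w)) (by rw [← map_mul, h2, map_one])
        fun h => h1 (D.inj (h.trans (map_one D.emb).symm))).symm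
      have hyw : y * D.emb w * y⁻¹ * (y * D.emb w * y⁻¹) = D.z := by
        rw [← hy, map_mul]; group
      obtain ⟨w', hw'⟩ := D.onto (y * D.emb w * y⁻¹) (by
        rw [← hyw]; group)
      have h11 : cls w' = 11 := (root_z_iff w').1 (D.inj (by rw [map_mul, hw', hyw, D.emb_z]))
      rw [← hf]
      exact Char.classFun_isConj hcf ((isConj_iff.2 ⟨y, hw'.symm⟩).trans
        (D.emb.map_isConj ((isConj_iff_cls w' r4).2 (h11.trans h4.symm)))))
    (fun w hw => by
      rw [← hg]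
      exact Char.classFun_isConj hcf (D.emb.map_isConj ((isConj_iff_cls w r8).2 (hw.trans h8.symm))))
  rw [Finset.sum_congr rfl (g := fun w : SW => (ψ : G → ℂ) (D.emb w)) fun w _ => by simp, hs] at hk
  have : (((d : ℤ) + 35 * v + 44 * f + 48 * g : ℤ) : ℂ) = ((128 * k : ℤ) : ℂ) := by
    push_cast
    push_cast at hk
    linear_combination 128 * hk
  exact_mod_cast this

/-- The multiplicities, degrees and values of the irreducible characters. -/
structure Tab where
  m : Fin 7 → IrrCharacter G → ℤ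
  d : IrrCharacter G → ℕ
  ν : IrrCharacter G → ℤ
  k : IrrCharacter G → ℕ
  o : IrrCharacter G
  o_eq : (o : G → ℂ) = fun _ => 1
  hd0 : ∀ ψ, 0 < d ψ
  hd : ∀ ψ : IrrCharacter G, (ψ : G → ℂ) 1 = d ψ
  hν : ∀ ψ : IrrCharacter G, Char.fsInd (ψ : G → ℂ) = ν ψ
  hmo : ∀ i, m i o = triv i
  hdo : (d o : ℤ) = 1
  hgram : ∀ i j, ∑ ψ, m i ψ * m j ψ = gram i j
  hdeg : ∀ i, ∑ ψ, m i ψ * (d ψ : ℤ) = 0
  vz : ∀ ψ : IrrCharacter G, (ψ : G → ℂ) D.z = ((∑ i, coefV i * m i ψ : ℤ) : ℂ)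
  v4 : ∀ (ψ : IrrCharacter G) (r : W), cls r = 11 → (ψ : G → ℂ) (D.emb r) = ((∑ i, coefU i * m i ψ : ℤ) : ℂ)
  v8 : ∀ (ψ : IrrCharacter G) (r : W), cls r = 7 → (ψ : G → ℂ) (D.emb r) = ((∑ i, coefE i * m i ψ : ℤ) : ℂ)
  hk : ∀ ψ, (d ψ : ℤ) + 35 * (∑ i, coefV i * m i ψ) + 44 * (∑ i, coefU i * m i ψ) +
    48 * (∑ i, coefE i * m i ψ) = 128 * k ψ
  norm : ∀ ψ, (∑ i, coefV i * m i ψ).natAbs ≤ d ψ
  dvd : ∀ ψ, (d ψ : ℤ) ∣ (∑ i, coefV i * m i ψ) * (D.K : ℤ)
  sq : ∀ ψ, (d ψ : ℤ) * d ψ ≤ 1920 * (D.K : ℤ)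
  key : (D.K : ℚ) * ∑ ψ, (m 3 ψ : ℚ) * (((∑ i, coefV i * m i ψ : ℤ) : ℚ) ^ 2 / ((d ψ : ℤ) : ℚ)) = 15200

/-- The data exist. -/
theorem exists_tab : Nonempty (D.Tab) := by
  classical
  obtain ⟨r4, -, h4⟩ := exists_rep (show 11 < 16 by norm_num)
  obtain ⟨r8, -, h8⟩ := exists_rep (show 7 < 16 by norm_num)
  choose m hm _ hn using fun i => Char.IsGen.exists_mult (D.ind_gen i)
  choose d hd0 hd using fun ψ : IrrCharacter G => Char.IsIrr.degree ψ.2
  choose ν hν using fun ψ : IrrCharacter G => show ∃ n : ℤ, Char.fsInd (ψ : G → ℂ) = n by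
    rcases Char.fsInd_irr ψ with ⟨h, -⟩ | ⟨h | h, -⟩
    exacts [⟨0, by simp [h]⟩, ⟨1, by simp [h]⟩, ⟨-1, by simp [h]⟩]
  set o : IrrCharacter G := ⟨fun _ => 1, Char.isIrrCharacter_one⟩ with ho
  have hmo : ∀ i, m i o = triv i := fun i => by
    exact_mod_cast (hm i o).symm.trans (D.ind_one i)
  have hdo : (d o : ℤ) = 1 := by
    have h := hd o
    simp only [ho] at h
    exact_mod_cast h.symm
  have hgram : ∀ i j, ∑ ψ, m i ψ * m j ψ = gram i j := fun i j => by
    have h := D.ind_inner i j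
    have hexp : D.ind j = ∑ ψ : IrrCharacter G, (m j ψ : ℂ) • (ψ : G → ℂ) := by
      refine (Char.classFun_expansion (Char.IsGen.isClassFunction (D.ind_gen j))).trans
        (Finset.sum_congr rfl fun ψ _ => by rw [hm])
    have h2 : classInner (D.ind i) (D.ind j) = ((∑ ψ, m i ψ * m j ψ : ℤ) : ℂ) := by
      have key : classInner (D.ind i) (D.ind j) =
          ∑ ψ : IrrCharacter G, conj (m j ψ : ℂ) * classInner (D.ind i) (ψ : G → ℂ) := by
        conv_lhs => rw [hexp]
        simp only [classInner, Finset.sum_apply, Pi.smul_apply, smul_eq_mul, map_sum, map_mul,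
          Finset.mul_sum]
        rw [Finset.sum_comm]
        exact Finset.sum_congr rfl fun ψ _ => Finset.sum_congr rfl fun g _ => by ring
      rw [key, Int.cast_sum]
      refine Finset.sum_congr rfl fun ψ _ => ?_
      rw [hm, map_intCast]
      push_cast
      ring
    exact_mod_cast h2.symm.trans h
  have hdeg : ∀ i, ∑ ψ, m i ψ * (d ψ : ℤ) = 0 := fun i => by
    have h := Invol.apply_eq_sum (Char.IsGen.isClassFunction (D.ind_gen i)) 1
    simp only [hm, hd, D.ind_at_one] at h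
    exact_mod_cast h
  have hval : ∀ (coef : Fin 7 → ℤ) (r : W) (ψ : IrrCharacter G),
      (∑ i, (coef i : ℂ) * classInner (D.ind i) (ψ : G → ℂ) = conj ((ψ : G → ℂ) (D.emb r))) →
      (ψ : G → ℂ) (D.emb r) = ((∑ i, coef i * m i ψ : ℤ) : ℂ) := fun coef r ψ h => by
    have h' := congrArg conj h
    simp only [hm, Complex.conj_conj, map_sum, map_mul, map_intCast] at h'
    rw [← h', Int.cast_sum]
    exact Finset.sum_congr rfl fun i _ => by push_cast; rfl
  set V : IrrCharacter G → ℤ := fun ψ => ∑ i, coefV i * m i ψ with hV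
  set U : IrrCharacter G → ℤ := fun ψ => ∑ i, coefU i * m i ψ with hU
  set E : IrrCharacter G → ℤ := fun ψ => ∑ i, coefE i * m i ψ with hE
  have vz : ∀ ψ : IrrCharacter G, (ψ : G → ℂ) D.z = V ψ := fun ψ => by
    rw [← D.emb_z]
    exact hval coefV zW ψ (D.value coefV (N := 1920) (by norm_num)
      (fun w => by simpa using theta_V w) rfl cls_zW ψ)
  have v4 : ∀ ψ : IrrCharacter G, (ψ : G → ℂ) (D.emb r4) = U ψ := fun ψ =>
    hval coefU r4 ψ (D.value coefU (N := 96) (by norm_num) (fun w => by simpa using theta_U w) rfl h4 ψ)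
  have v8 : ∀ ψ : IrrCharacter G, (ψ : G → ℂ) (D.emb r8) = E ψ := fun ψ =>
    hval coefE r8 ψ (D.value coefE (N := 8) (by norm_num) (fun w => by simpa using theta_E w) rfl h8 ψ)
  choose k hk using fun ψ => D.res ψ h4 h8 (hd ψ) (vz ψ) (v4 ψ) (v8 ψ)
  have hexpand : ∀ ψ : IrrCharacter G, (ψ : G → ℂ) D.z ^ 2 / (ψ : G → ℂ) 1 =
      (Nat.card G : ℂ)⁻¹ * ∑ a, (ψ : G → ℂ) (a * D.z * a⁻¹ * D.z) := fun ψ => by
    have h := CharArith.classMult ψ.2 D.z D.z
    have h1 := Char.IsIrr.one_ne_zero ψ.2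
    have hG0 : (Nat.card G : ℂ) ≠ 0 := Char.card_ne_zero
    field_simp
    linear_combination -h
  set wt : IrrCharacter G → ℚ := fun ψ => (V ψ : ℚ) ^ 2 / ((d ψ : ℤ) : ℚ) with hwt
  have hkey : (D.K : ℚ) * ∑ ψ, (m 3 ψ : ℚ) * wt ψ = 15200 := by
    have h : (Nat.card G : ℂ) * ∑ ψ : IrrCharacter G, (m 3 ψ : ℂ) *
        ((ψ : G → ℂ) D.z ^ 2 / (ψ : G → ℂ) 1) = 1920 * 15200 := by
      rw [← D.sum_pairs]
      simp only [hexpand, Finset.mul_sum]
      rw [Finset.sum_comm]
      refine Finset.sum_congr rfl fun a _ => ?_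
      rw [← Invol.apply_eq_sum (Char.IsGen.isClassFunction (D.ind_gen 3)) (a * D.z * a⁻¹ * D.z)]
      refine Finset.sum_congr rfl fun ψ _ => ?_
      rw [hm]
      have hG0 : (Nat.card G : ℂ) ≠ 0 := Char.card_ne_zero
      field_simp
    have hwc : ∀ ψ : IrrCharacter G, (ψ : G → ℂ) D.z ^ 2 / (ψ : G → ℂ) 1 = ((wt ψ : ℚ) : ℂ) := fun ψ => by
      rw [vz ψ, hd ψ]
      simp [hwt]
    simp only [hwc, D.card_G] at h
    push_cast at h
    refine mul_left_cancel₀ (a := (1920 : ℚ)) (by norm_num) ?_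
    refine Rat.cast_injective (α := ℂ) ?_
    push_cast
    linear_combination h
  refine ⟨⟨m, d, ν, k, o, rfl, hd0, hd, hν, hmo, hdo, hgram, hdeg, vz, fun ψ r hr => ?_, fun ψ r hr => ?_, hk,
    fun ψ => ?_, fun ψ => ?_, fun ψ => ?_, hkey⟩⟩
  · rw [← v4 ψ]
    exact Char.classFun_isConj (Char.isClassFunction_of_isIrr ψ.2)
      (D.emb.map_isConj ((isConj_iff_cls r r4).2 (hr.trans h4.symm)))
  · rw [← v8 ψ]
    exact Char.classFun_isConj (Char.isClassFunction_of_isIrr ψ.2)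
      (D.emb.map_isConj ((isConj_iff_cls r r8).2 (hr.trans h8.symm)))
  · have h := Char.IsChar.norm_le (Char.IsIrr.isCharacter ψ.2) D.z
    rw [vz, hd, Complex.norm_intCast, Complex.natCast_re] at h
    have h' : ((V ψ).natAbs : ℝ) ≤ (d ψ : ℝ) := by
      rwa [show ((V ψ).natAbs : ℝ) = |(V ψ : ℝ)| by rw [Nat.cast_natAbs]; push_cast; rfl]
    exact_mod_cast h'
  · show (d ψ : ℤ) ∣ V ψ * (D.K : ℤ)
    refine Char.dvd_int_of_isIntegral (Int.natCast_ne_zero.2 (hd0 ψ).ne') (Char.centralCharacter_isIntegral ψ.2 D.z) ?_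
    rw [vz, hd]
    have : ((d ψ : ℕ) : ℂ) ≠ 0 := Nat.cast_ne_zero.2 (by have := hd0 ψ; omega)
    show _ = ((d ψ : ℤ) : ℂ) * ((D.K : ℂ) * _ / _)
    push_cast
    field_simp
  · have h : ∑ χ : IrrCharacter G, (d χ : ℂ) ^ 2 = ((1920 * D.K : ℕ) : ℂ) := by
      rw [← D.card_G, ← Char.sum_sq_degree]
      exact Finset.sum_congr rfl fun χ _ => by rw [hd]
    have h' : ∑ χ : IrrCharacter G, d χ ^ 2 = 1920 * D.K := by exact_mod_cast h
    have h'' := Finset.single_le_sum (f := fun χ => d χ ^ 2) (fun χ _ => Nat.zero_le _) (Finset.mem_univ ψ)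
    rw [h', pow_two] at h''
    exact_mod_cast h''

include D in
/-- The number of involutions. -/
theorem K_eq : D.K = 26163 := by
  classical
  obtain ⟨TT⟩ := D.exists_tab
  obtain ⟨r4, -, h4⟩ := exists_rep (show 11 < 16 by norm_num)
  obtain ⟨r8, -, h8⟩ := exists_rep (show 7 < 16 by norm_num)
  obtain ⟨m, d, ν, k, o, -, hd0, hd, hν, hmo, hdo, hgram, hdeg', vz, v4', v8', hk, hnorm', hdvd', hsq', hkey⟩ := id TT
  have hdeg := hdeg' 3
  set V : IrrCharacter G → ℤ := fun ψ => ∑ i, coefV i * m i ψ with hV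
  set U : IrrCharacter G → ℤ := fun ψ => ∑ i, coefU i * m i ψ with hU
  set E : IrrCharacter G → ℤ := fun ψ => ∑ i, coefE i * m i ψ with hE
  set T : IrrCharacter G → ℤ := fun ψ => 35 * V ψ + 44 * U ψ + 48 * E ψ with hT
  have v4 : ∀ ψ : IrrCharacter G, (ψ : G → ℂ) (D.emb r4) = U ψ := fun ψ => v4' ψ r4 h4
  have v8 : ∀ ψ : IrrCharacter G, (ψ : G → ℂ) (D.emb r8) = E ψ := fun ψ => v8' ψ r8 h8
  replace vz : ∀ ψ : IrrCharacter G, (ψ : G → ℂ) D.z = V ψ := vz
  replace hk : ∀ ψ, (d ψ : ℤ) + 35 * V ψ + 44 * U ψ + 48 * E ψ = 128 * k ψ := hk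
  set wt : IrrCharacter G → ℚ := fun ψ => (V ψ : ℚ) ^ 2 / ((d ψ : ℤ) : ℚ) with hwt
  replace hkey : (D.K : ℚ) * ∑ ψ, (m 3 ψ : ℚ) * wt ψ = 15200 := hkey
  have hK : D.K % 128 = 51 := by
    have f1 := Char.card_sqrt_eq_sum (1 : G)
    have f2 := Char.card_sqrt_eq_sum (D.emb zW)
    have f4 := Char.card_sqrt_eq_sum (D.emb r4)
    have f8 := Char.card_sqrt_eq_sum (D.emb r8)
    rw [D.card_roots_one] at f1
    rw [D.card_roots (pow_one zW), card_root_z, D.emb_z] at f2
    rw [D.card_roots (v := r4) (k := 2) (pow_eq_zW h4 sq_classes.2.2.1), card_root_four h4] at f4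
    rw [D.card_roots (eight_pow h8), Finset.filter_false_of_mem (fun w _ => no_root_eight h8),
      Finset.card_empty] at f8
    simp only [hν, hd] at f1
    simp only [hν, vz] at f2
    simp only [hν, v4] at f4
    simp only [hν, v8] at f8
    have h : ((1 + D.K + 35 * 20 + 44 * 12 : ℕ) : ℂ) = ((128 * ∑ ψ, ν ψ * k ψ : ℤ) : ℂ) := by
      rw [show (128 : ℤ) * ∑ ψ, ν ψ * (k ψ : ℤ) = ∑ ψ, ν ψ * ((d ψ : ℤ) + 35 * V ψ + 44 * U ψ + 48 * E ψ) by
        rw [Finset.mul_sum]; exact Finset.sum_congr rfl fun ψ _ => by rw [hk]; ring]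
      push_cast at f1 f2 f4 f8 ⊢
      simp only [mul_add, Finset.sum_add_distrib, mul_left_comm _ (35 : ℂ), mul_left_comm _ (44 : ℂ),
        mul_left_comm _ (48 : ℂ), ← Finset.mul_sum]
      linear_combination f1 + 35 * f2 + 44 * f4 + 48 * f8
    have h' : ((1 + D.K + 35 * 20 + 44 * 12 : ℕ) : ℤ) = 128 * ∑ ψ, ν ψ * (k ψ : ℤ) := by exact_mod_cast h
    push_cast at h'
    omega
  -- the three constituents
  let ι := {ψ : IrrCharacter G // ψ ≠ o}
  have hsplit : ∀ {A : Type} [AddCommMonoid A] (F : IrrCharacter G → A),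
      ∑ ψ, F ψ = F o + ∑ p : ι, F p.1 := fun {A} _ F => by
    rw [← Finset.add_sum_erase _ _ (Finset.mem_univ o),
      Finset.sum_subtype (Finset.univ.erase o) (p := fun ψ => ψ ≠ o) (fun ψ => by simp) F]
  set m' : Fin 7 → ι → ℤ := fun i p => m i p.1 with hm'
  have hg : ∀ i j, ∑ p, m' i p * m' j p = Comb.hmat i j := fun i j => by
    have h := hgram i j
    rw [hsplit, hmo, hmo] at h
    have e : ∀ i j, gram i j = triv i * triv j + Comb.hmat i j := by decide +kernel
    rw [e i j] at h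
    exact add_left_cancel h
  obtain ⟨p, q, r, hpq, hpr, hqr, hsupp, ⟨sp, sq, sr⟩, hmem⟩ := Comb.exists_triple m' hg
  have hthree : ∀ {A : Type} [AddCommMonoid A] (F : ι → A), (∀ j, m' 3 j = 0 → F j = 0) →
      ∑ j, F j = F p + (F q + F r) := fun {A} _ F h => by
    rw [← Finset.sum_subset (Finset.subset_univ {p, q, r}) fun j _ hj => h j (by
      by_contra hne
      rcases hsupp j hne with rfl | rfl | rfl <;> simp at hj)]
    rw [Finset.sum_insert (by simp [hpq, hpr]), Finset.sum_pair hqr]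
  have hinfo : ∀ j : ι, m' 3 j * m' 3 j = 1 →
      Comb.info (Comb.colAt m' j (m' 3 j)) = (m' 3 j * V j.1, m' 3 j * T j.1) := fun j hj => by
    simp only [Comb.info, Comb.colAt, hT, hV, hU, hE, hm', coefV, coefU, coefE, Fin.sum_univ_seven,
      Matrix.cons_val, Prod.mk.injEq] at hj ⊢
    constructor
    · linear_combination 9 * hj
    · linear_combination (35 * 9 - 44 * 3 - 48) * hj
  have hAdm : ∀ j : ι, m' 3 j * m' 3 j = 1 →
      Search.Adm D.K (Comb.info (Comb.colAt m' j (m' 3 j))) (m' 3 j * (d j.1 : ℤ)) := fun j hj => by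
    rw [hinfo j hj]
    set ψ := j.1 with hψ
    have hd1 : 0 < (d ψ : ℤ) := by exact_mod_cast hd0 ψ
    have hTk : (d ψ : ℤ) + T ψ = 128 * k ψ := by rw [← hk ψ, hT]; ring
    have hnorm : (V ψ).natAbs ≤ d ψ := hnorm' ψ
    have hdvd : (d ψ : ℤ) ∣ V ψ * (D.K : ℤ) := hdvd' ψ
    have hsq := hsq' ψ
    rcases mul_self_eq_one_iff.1 hj with e | e <;> rw [e] <;>
      simp only [Search.Adm, one_mul, neg_mul, Int.natAbs_neg]
    · exact ⟨by omega, by omega, by simpa using hnorm, fun _ => by omega, fun h => by omega, hdvd, hsq⟩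
    · exact ⟨by omega, by omega, by simpa using hnorm, fun h => by omega, fun _ => by omega,
        by simpa using hdvd, by simpa using hsq⟩
  have hsum : m' 3 p * (d p.1 : ℤ) + m' 3 q * (d q.1 : ℤ) + m' 3 r * (d r.1 : ℤ) = -1 := by
    have h := hdeg
    rw [hsplit, hthree (fun j => m' 3 j * (d j.1 : ℤ)) (fun j hj => by simp [hj]), hmo, hdo,
      show triv 3 = 1 from rfl] at h
    linarith
  have hVo : V o = 1 := by simp only [hV, hmo]; decide +kernel
  rw [hsplit, hthree (fun j => (m 3 j.1 : ℚ) * wt j.1) (fun j hj => by simp [show m 3 j.1 = 0 from hj]),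
    hmo, show wt o = 1 by simp only [hwt, hVo, hdo]; norm_num] at hkey
  have nz : ∀ j : ι, m' 3 j * m' 3 j = 1 → ((m' 3 j : ℚ) * (d j.1 : ℚ)) ≠ 0 ∧
      (m 3 j.1 : ℚ) * wt j.1 = ((m' 3 j * V j.1 : ℤ) : ℚ) ^ 2 / ((m' 3 j : ℚ) * (d j.1 : ℚ)) := fun j hj => by
    have hd1 : (d j.1 : ℚ) ≠ 0 := Nat.cast_ne_zero.2 (by have := hd0 j.1; omega)
    simp only [hwt, hm']
    rcases mul_self_eq_one_iff.1 hj with e | e <;> simp only [hm'] at e <;> rw [e] <;> simp [hd1, div_neg, neg_div]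
  obtain ⟨np, ep⟩ := nz p sp
  obtain ⟨nq, eq'⟩ := nz q sq
  obtain ⟨nr, er⟩ := nz r sr
  rw [ep, eq', er, show ((triv 3 : ℤ) : ℚ) = 1 by simp [triv]] at hkey
  refine Search.solve hK hmem (hAdm p sp) (hAdm q sq) (hAdm r sr) hsum ?_
  rw [hinfo p sp, hinfo q sq, hinfo r sr]
  simp only [Search.numer]
  refine Int.cast_injective (α := ℚ) ?_
  push_cast at hkey ⊢
  generalize (m' 3 p : ℚ) * (d p.1 : ℚ) = A at hkey np ⊢
  generalize (m' 3 q : ℚ) * (d q.1 : ℚ) = B at hkey nq ⊢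
  generalize (m' 3 r : ℚ) * (d r.1 : ℚ) = C at hkey nr ⊢
  field_simp at hkey
  linear_combination hkey

include D in
/-- The order. -/
theorem card_eq : Nat.card G = 50232960 := by rw [D.card_G, D.K_eq]

end JT

end Cfsg.Agent.JThreeRecog
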