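import Cfsg.Agent.JThreeRecog.Iso
import Cfsg.Agent.JThreeRecog.Data
import Cfsg.Agent.Char.Ortho

/-!
Positions in the tables of the model.
-/

set_option autoImplicit false
set_option maxRecDepth 100000
set_option linter.all false

namespace Cfsg.Agent.JThreeRecog

open HallJanko Equiv

/-- A bit. -/
def bit (n k : ℕ) : ZMod 2 := if n / 2 ^ k % 2 = 1 then 1 else 0

/-- The element at a position. -/
def dec (n : ℕ) : T :=
  (⟨bit n 4, bit n 3, bit n 2, bit n 1, bit n 0⟩, Data.perms.getD (n / 32) (0, 1, 2, 3, 4))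

/-- The position of a tuple. -/
def pos : T → ℕ
  | (x, (a, b, c, _, _)) =>
    32 * (Data.pidxPack / 2 ^ (6 * (25 * a.val + 5 * b.val + c.val)) % 64) +
      (16 * x.a.val + 8 * x.b0.val + 4 * x.b1.val + 2 * x.b2.val + x.b3.val)

/-- The class at a position. -/
def clsN (n : ℕ) : ℕ := Data.clsParts.getD (n / 32) 0 / 2 ^ (4 * (n % 32)) % 16

/-- The conjugating element at a position. -/
def conjN (n : ℕ) : ℕ := Data.conjParts.getD (n / 32) 0 / 2 ^ (11 * (n % 32)) % 2048

/-- The class of a tuple. -/
def clsT (t : T) : ℕ := clsN (pos t)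

/-- The class of an element. -/
def cls (w : W) : ℕ := clsT (toT w)

/-- The representative of a class. -/
def repT (c : ℕ) : T := dec (Data.reps.getD c 0)

/-- The generators with their inverses. -/
def genT : List (T × T) :=
  [(dec 8, dec 8), (dec 480, tmul (dec 480) (dec 480)),
    (dec 1024, tmul (tmul (dec 1024) (dec 1024)) (tmul (dec 1024) (dec 1024)))]

end Cfsg.Agent.JThreeRecog
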