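import Mathlib

/-!
Powers of a tenth and a twelfth root of unity in coordinates, and the square root of five.
-/

set_option autoImplicit false
set_option linter.all false

namespace Cfsg.Agent.JThreeRecog

open scoped ComplexConjugate

/-- A tenth or a twelfth root of unity. -/
noncomputable def root (b : Bool) : ℂ :=
  Complex.exp (2 * Real.pi * Complex.I / ((bif b then 10 else 12 : ℕ) : ℂ))

/-- The exponent. -/
def expo (b : Bool) : ℕ := bif b then 10 else 12

/-- Coordinates. -/
abbrev V : Type := ℤ × ℤ × ℤ × ℤ

/-- The value of coordinates. -/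
noncomputable def valV (b : Bool) (v : V) : ℂ :=
  v.1 + v.2.1 * root b + v.2.2.1 * root b ^ 2 + v.2.2.2 * root b ^ 3

/-- The coordinates of the powers. -/
def rootVec : Bool → ℕ → V
  | true, k => [((1 : ℤ), (0 : ℤ), (0 : ℤ), (0 : ℤ)), (0, 1, 0, 0), (0, 0, 1, 0), (0, 0, 0, 1), (-1, 1, -1, 1),
      (-1, 0, 0, 0), (0, -1, 0, 0), (0, 0, -1, 0), (0, 0, 0, -1), (1, -1, 1, -1)].getD k 0
  | false, k => [((1 : ℤ), (0 : ℤ), (0 : ℤ), (0 : ℤ)), (0, 1, 0, 0), (0, 0, 1, 0), (0, 0, 0, 1), (-1, 0, 1, 0),
      (0, -1, 0, 1), (-1, 0, 0, 0), (0, -1, 0, 0), (0, 0, -1, 0), (0, 0, 0, -1), (1, 0, -1, 0), (0, 1, 0, -1)].getD k 0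

theorem root_prim (b : Bool) : IsPrimitiveRoot (root b) (expo b) :=
  Complex.isPrimitiveRoot_exp _ (by cases b <;> decide)

theorem root_pow (b : Bool) : root b ^ expo b = 1 := (root_prim b).pow_eq_one

theorem root_ne (b : Bool) : root b ≠ 0 := Complex.exp_ne_zero _

theorem min_ten : root true ^ 4 = root true ^ 3 - root true ^ 2 + root true - 1 := by
  have h := root_prim true
  have h5 : root true ^ 5 = -1 := by
    have h2 : (root true ^ 5) ^ 2 = 1 ^ 2 := by rw [← pow_mul, one_pow]; exact h.pow_eq_one
    rcases sq_eq_sq_iff_eq_or_eq_neg.1 h2 with e | e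
    · exact absurd e (h.pow_ne_one_of_pos_of_lt (by norm_num) (by decide))
    · exact e
  have hne : root true + 1 ≠ 0 := fun e => by
    have e' : root true = -1 := eq_neg_of_add_eq_zero_left e
    exact h.pow_ne_one_of_pos_of_lt (l := 2) (by norm_num) (by decide) (by rw [e']; norm_num)
  have : (root true + 1) * (root true ^ 4 - root true ^ 3 + root true ^ 2 - root true + 1) = 0 := by
    linear_combination h5
  linear_combination (mul_eq_zero.1 this).resolve_left hne

theorem min_twelve : root false ^ 4 = root false ^ 2 - 1 := by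
  have h := root_prim false
  have h6 : root false ^ 6 = -1 := by
    have h2 : (root false ^ 6) ^ 2 = 1 ^ 2 := by rw [← pow_mul, one_pow]; exact h.pow_eq_one
    rcases sq_eq_sq_iff_eq_or_eq_neg.1 h2 with e | e
    · exact absurd e (h.pow_ne_one_of_pos_of_lt (by norm_num) (by decide))
    · exact e
  have hne : root false ^ 2 + 1 ≠ 0 := fun e => by
    have e' : root false ^ 2 = -1 := eq_neg_of_add_eq_zero_left e
    exact h.pow_ne_one_of_pos_of_lt (l := 4) (by norm_num) (by decide)
      (by rw [show (4 : ℕ) = 2 * 2 from rfl, pow_mul, e']; norm_num)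
  have : (root false ^ 2 + 1) * (root false ^ 4 - root false ^ 2 + 1) = 0 := by linear_combination h6
  linear_combination (mul_eq_zero.1 this).resolve_left hne

theorem valV_add (b : Bool) (v w : V) : valV b (v + w) = valV b v + valV b w := by
  simp [valV]; ring

theorem valV_zero (b : Bool) : valV b 0 = 0 := by simp [valV]

theorem valV_smul (b : Bool) (n : ℤ) (v : V) : valV b (n • v) = n * valV b v := by
  simp [valV]; ring

theorem valV_sum (b : Bool) : ∀ L : List V, valV b L.sum = (L.map (valV b)).sum
  | [] => by simp [valV_zero]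
  | v :: L => by simp [valV_add, valV_sum b L]

theorem valV_rootVec (b : Bool) {k : ℕ} (hk : k < expo b) : valV b (rootVec b k) = root b ^ k := by
  cases b
  · have h := min_twelve
    simp only [expo, cond] at hk
    interval_cases k <;> simp [valV, rootVec]
    · linear_combination -h
    · linear_combination -root false * h
    · linear_combination -(root false ^ 2 + 1) * h
    · linear_combination -(root false ^ 3 + root false) * h
    · linear_combination -(root false ^ 4 + root false ^ 2) * h
    · linear_combination -(root false ^ 5 + root false ^ 3) * h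
    · linear_combination -(root false ^ 6 + root false ^ 4 - 1) * h
    · linear_combination -(root false ^ 7 + root false ^ 5 - root false) * h
  · have h := min_ten
    simp only [expo, cond] at hk
    interval_cases k <;> simp [valV, rootVec]
    · linear_combination -h
    · linear_combination -(root true + 1) * h
    · linear_combination -(root true ^ 2 + root true) * h
    · linear_combination -(root true ^ 3 + root true ^ 2) * h
    · linear_combination -(root true ^ 4 + root true ^ 3) * h
    · linear_combination -(root true ^ 5 + root true ^ 4 - 1) * h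

/-- The square root of five. -/
noncomputable def s5 : ℂ := 1 + 2 * root true ^ 2 - 2 * root true ^ 3

theorem s5_sq : s5 * s5 = 5 := by
  have h := min_ten
  have h5 : root true ^ 5 = -1 := by linear_combination (root true + 1) * h
  simp only [s5]
  linear_combination 4 * h + (-8 : ℂ) * h5 + 4 * root true * h5

theorem s5_conj : conj s5 = s5 := by
  have h := min_ten
  have h5 : root true ^ 5 = -1 := by linear_combination (root true + 1) * h
  have hc : conj (root true) = -root true ^ 4 := by
    rw [root, ← Complex.exp_conj]
    have e1 : Complex.exp (conj (2 * Real.pi * Complex.I / ((bif true then 10 else 12 : ℕ) : ℂ))) * root true = 1 := by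
      rw [root, ← Complex.exp_add]
      rw [show conj (2 * Real.pi * Complex.I / ((bif true then 10 else 12 : ℕ) : ℂ)) =
        -(2 * Real.pi * Complex.I / ((bif true then 10 else 12 : ℕ) : ℂ)) by
          rw [map_div₀, map_mul, map_mul, Complex.conj_I, Complex.conj_ofReal, map_ofNat, Complex.conj_natCast]; ring,
        neg_add_cancel, Complex.exp_zero]
    refine mul_right_cancel₀ (root_ne true) ?_
    rw [← root] at *
    rw [e1]
    linear_combination h5
  simp only [s5, map_add, map_sub, map_mul, map_pow, hc, map_one, map_ofNat]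
  linear_combination (2 * root true ^ 3 + 2 * root true ^ 7 - 2 * root true ^ 2) * h5

/-- The value of a pair standing for `a + b √5`. -/
noncomputable def toR (p : ℤ × ℤ) : ℂ := p.1 + p.2 * s5

/-- The product of pairs. -/
def rmul (p q : ℤ × ℤ) : ℤ × ℤ := (p.1 * q.1 + 5 * (p.2 * q.2), p.1 * q.2 + p.2 * q.1)

theorem toR_rmul (p q : ℤ × ℤ) : toR (rmul p q) = toR p * toR q := by
  simp [toR, rmul]
  linear_combination (-(p.2 : ℂ) * (q.2 : ℂ)) * s5_sq

theorem toR_conj (p : ℤ × ℤ) : conj (toR p) = toR p := by simp [toR, s5_conj]

theorem toR_add (p q : ℤ × ℤ) : toR (p + q) = toR p + toR q := by simp [toR]; ring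

theorem toR_zero : toR 0 = 0 := by simp [toR]

theorem toR_int (n : ℤ) : toR (n, 0) = n := by simp [toR]

end Cfsg.Agent.JThreeRecog
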