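import Cfsg.Agent.JThreeRecog.Triples

/-!
The search for the integral solutions of the one equation in three unknowns.
-/

set_option autoImplicit false
set_option linter.all false

namespace Cfsg.Agent.JThreeRecog.Search

/-- Admissible signed degrees. -/
def Adm (K : ℕ) (c : Info) (D : ℤ) : Prop :=
  D ≠ 0 ∧ (D + c.2) % 128 = 0 ∧ c.1.natAbs ≤ D.natAbs ∧ (0 < D → 0 ≤ D + c.2) ∧ (D < 0 → c.2 ≤ -D) ∧
    D ∣ c.1 * K ∧ D * D ≤ 1920 * K

/-- The part of admissibility independent of the order. -/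
def okB (c : Info) (D : ℤ) : Bool :=
  D != 0 && (D + c.2) % 128 == 0 && Nat.ble c.1.natAbs D.natAbs &&
    (if 0 < D then decide (0 ≤ D + c.2) else decide (c.2 ≤ -D))

/-- The numerator of the equation. -/
def numer (c₁ c₂ c₃ : Info) (a b e : ℤ) : ℤ :=
  a * b * e + c₁.1 * c₁.1 * (b * e) + c₂.1 * c₂.1 * (a * e) + c₃.1 * c₃.1 * (a * b)

/-- No solution other than the expected order at these degrees. -/
def chkT (c₁ c₂ c₃ : Info) (a b e : ℤ) : Bool :=
  if okB c₁ a && okB c₂ b && okB c₃ e then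
    let num := numer c₁ c₂ c₃ a b e
    let den := 15200 * (a * b * e)
    if num == 0 then true
    else if den % num != 0 then true
    else
      let K := den / num
      !(decide (0 < K) && K % 128 == 51 && c₁.1 * K % a == 0 && c₂.1 * K % b == 0 && c₃.1 * K % e == 0 &&
        decide (a * a ≤ 1920 * K) && decide (b * b ≤ 1920 * K) && decide (e * e ≤ 1920 * K)) || K == 26163
  else true

/-- Newton steps for the square root. -/
def newton (n : ℕ) : ℕ → ℕ → ℕ
  | 0, x => x
  | f + 1, x => bif Nat.blt ((x + n / x) / 2) x then newton n f ((x + n / x) / 2) else x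

/-- A guess for the integral square root, checked when used. -/
def isq (n : ℕ) : ℕ :=
  bif n == 0 then 0 else newton n 100 (2 ^ (n.log2 / 2 + 1))

/-- No solution with the first degree `-a` and the order parameter `K`. -/
def chkQ (c₁ c₂ c₃ : Info) (a K : ℕ) : Bool :=
  let D : ℤ := -(a : ℤ)
  let S : ℤ := (a : ℤ) - 1
  let d : ℤ := (K : ℤ) * D
  let A : ℤ := 15200 * D - (K : ℤ) * D - (K : ℤ) * (c₁.1 * c₁.1)
  let b : ℤ := c₂.1 * c₂.1
  let e : ℤ := c₃.1 * c₃.1
  let B : ℤ := -(A * S) + d * (e - b)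
  let C : ℤ := d * b * S
  if A == 0 then
    if B == 0 then C != 0 else chkT c₁ c₂ c₃ D (-C / B) (S - -C / B)
  else
    let Δ := B * B - 4 * A * C
    if Δ < 0 then true
    else
      let w := isq Δ.toNat
      if Nat.ble (w * w) Δ.toNat && Nat.blt Δ.toNat ((w + 1) * (w + 1)) then
        if (w * w : ℕ) == Δ.toNat then
          chkT c₁ c₂ c₃ D (((w : ℤ) - B) / (2 * A)) (S - ((w : ℤ) - B) / (2 * A)) &&
            chkT c₁ c₂ c₃ D ((-(w : ℤ) - B) / (2 * A)) (S - (-(w : ℤ) - B) / (2 * A))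
        else true
      else false

/-- A loop in steps of 128. -/
def steps (f : ℕ → Bool) : ℕ → ℕ → Bool
  | 0, _ => true
  | n + 1, x => f x && steps f n (x + 128)

/-- The loop from `x` up to `B`. -/
def scan (x B : ℕ) (f : ℕ → Bool) : Bool :=
  steps f ((B + 128 - x) / 128) x

/-- The loop over the possible orders. -/
def kscan (c₁ c₂ c₃ : Info) (a kmax : ℕ) : Bool :=
  let s := a / Nat.gcd a c₁.1.natAbs
  if s % 2 == 0 then true
  else scan (51 * s ^ 31 % 128) (kmax / s) fun u => if 1920 * (s * u) < a * a then true else chkQ c₁ c₂ c₃ a (s * u)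

/-- The least admissible absolute value of a negative degree. -/
def negStart (c : Info) : ℕ :=
  let lo : ℤ := max (max (c.1.natAbs : ℤ) 1) c.2
  (lo + (c.2 - lo) % 128).toNat

/-- The least admissible positive degree. -/
def posStart (c : Info) : ℕ :=
  let lo : ℤ := max (max (c.1.natAbs : ℤ) 1) (-c.2)
  (lo + (-c.2 - lo) % 128).toNat

/-- A weak ordering of the second and third constituent. -/
def leB (c₂ c₃ : Info) : Bool :=
  decide (c₂.1 < c₃.1 ∨ (c₂.1 = c₃.1 ∧ c₂.2 ≤ c₃.2))

/-- The cases with one negative degree, or with a small order. -/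
def chkA (c₁ c₂ c₃ : Info) : Bool :=
  if leB c₂ c₃ then
    scan (negStart c₁) 7639 (fun a => kscan c₁ c₂ c₃ a 30400) &&
      scan (negStart c₁) (c₁.1.natAbs ^ 2 * 2) fun a =>
        scan (posStart c₂) a fun x => chkT c₁ c₂ c₃ (-(a : ℤ)) x ((a : ℤ) - 1 - x)
  else true

/-- The case with two negative degrees. -/
def chkB (c₁ c₂ c₃ : Info) : Bool :=
  scan (negStart c₁) (c₁.1.natAbs ^ 2 * 4) fun a =>
    let v := c₁.1.natAbs ^ 2
    if a == v then false
    else if Nat.blt a v then
      scan (negStart c₂) (c₃.1.natAbs ^ 2 * a / (v - a)) fun x =>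
        chkT c₁ c₂ c₃ (-(a : ℤ)) (-(x : ℤ)) ((a : ℤ) + x - 1)
    else
      kscan c₁ c₂ c₃ a (2 * 15200 * a / (a - v)) &&
        scan (negStart c₂) (2 * c₂.1.natAbs ^ 2 * a / (a - v)) fun x =>
          chkT c₁ c₂ c₃ (-(a : ℤ)) (-(x : ℤ)) ((a : ℤ) + x - 1)

/-- The whole check. -/
def chk (p : Info × Info × Info) : Bool :=
  chkA p.1 p.2.1 p.2.2 && chkB p.1 p.2.1 p.2.2

end Cfsg.Agent.JThreeRecog.Search
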