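import Cfsg.Agent.JThreeRecog.Local

/-!
The centralisers and normalisers of the elements of order seventeen and nineteen.
-/

set_option autoImplicit false
set_option maxRecDepth 100000
set_option linter.all false

namespace Cfsg.Agent.JThreeRecog

open Subgroup

universe u

theorem index_seventeen : ∀ i < 6, ∀ j < 2, 50232960 / (17 * 19 * 3 ^ i * 2 ^ j) % 17 ≠ 1 := by decide +kernel

set_option synthInstance.maxSize 4000 in
theorem solve_seventeen : ∀ i < 6, ∀ k < 17, k ∣ 16 → 17 * 3 ^ i * k ∣ 50232960 →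
    50232960 / (17 * 3 ^ i * k) % 17 = 1 → (i = 0 ∧ k = 8) ∨ (i = 2 ∧ k = 16) := by decide +kernel

set_option synthInstance.maxSize 4000 in
theorem solve_nineteen : ∀ i < 6, ∀ k < 19, k ∣ 18 → 19 * 3 ^ i * k ∣ 50232960 →
    50232960 / (19 * 3 ^ i * k) % 19 = 1 → (i = 0 ∧ k = 9) ∨ (i = 1 ∧ k = 3) ∨ (i = 2 ∧ k = 1) := by decide +kernel

/-- Membership in the normaliser of a cyclic subgroup of a finite group. -/
theorem mem_normalizer_zpowers {G : Type*} [Group G] [Finite G] {g v : G} (h : v * g * v⁻¹ ∈ zpowers g) :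
    v ∈ normalizer ((zpowers g : Subgroup G) : Set G) := by
  have hle : (zpowers g).map (MulAut.conj v).toMonoidHom ≤ zpowers g := by
    rw [MonoidHom.map_zpowers, zpowers_le]
    exact h
  have heq := Subgroup.eq_of_le_of_card_ge hle
    (by rw [Subgroup.card_map_of_injective (MulAut.conj v).injective])
  rw [mem_normalizer_iff]
  refine fun y => ⟨fun hy => hle ⟨y, hy, rfl⟩, fun hy => ?_⟩
  rw [← heq] at hy
  obtain ⟨y', hy', e⟩ := hy
  exact (MulAut.conj v).injective e ▸ hy'

/-- An element of a group of prime order generates it. -/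
theorem mem_zpowers_pow {G : Type*} [Group G] {g c : G} {p : ℕ} (hp : p.Prime) (hg : orderOf g = p)
    (hc : c ∈ zpowers g) (hc1 : c ≠ 1) : g ∈ zpowers c := by
  haveI : Finite (zpowers g) := Nat.finite_of_card_ne_zero (by rw [Nat.card_zpowers, hg]; exact hp.ne_zero)
  have ho : orderOf c = p := by
    have hd : orderOf c ∣ p := by
      have := orderOf_dvd_natCard (⟨c, hc⟩ : zpowers g)
      rwa [Subgroup.orderOf_mk, Nat.card_zpowers, hg] at this
    exact (hp.eq_one_or_self_of_dvd _ hd).resolve_left fun h => hc1 (orderOf_eq_one_iff.1 h)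
  rw [Subgroup.eq_of_le_of_card_ge (zpowers_le.2 hc) (by rw [Nat.card_zpowers, Nat.card_zpowers, ho, hg])]
  exact mem_zpowers g

namespace JT

variable {G : Type u} [Group G] (D : JT G) [Finite G] [IsSimpleGroup G]
include D

theorem card_G' : Nat.card G = 50232960 := D.order

theorem not_two {g : G} {p : ℕ} (hp : p = 17 ∨ p = 19) (hg : orderOf g = p) :
    ¬2 ∣ Nat.card (centralizer ({g} : Set G)) := fun h => by
  haveI : Fact (Nat.Prime 2) := ⟨Nat.prime_two⟩
  obtain ⟨⟨u, hu⟩, huo⟩ := exists_prime_orderOf_dvd_card' (G := centralizer ({g} : Set G)) 2 h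
  rw [Subgroup.orderOf_mk] at huo
  have := D.orderOf_dvd_of_comm (u := u) (g := g) (by rw [← pow_two, ← huo]; exact pow_orderOf_eq_one u)
    (fun e => by rw [e, orderOf_one] at huo; norm_num at huo) (Subgroup.mem_centralizer_singleton_iff.1 hu)
  rw [hg] at this
  rcases hp with rfl | rfl <;> norm_num at this

theorem card_centralizer_dvd {g : G} {p : ℕ} (hp : p = 17 ∨ p = 19) (hg : orderOf g = p) :
    Nat.card (centralizer ({g} : Set G)) ∣ 243 * (17 * 19) := by
  haveI : Fact (Nat.Prime 5) := ⟨by norm_num⟩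
  have h5 : ¬5 ∣ Nat.card (centralizer ({g} : Set G)) := fun h => by
    obtain ⟨⟨x, hx⟩, hxo⟩ := exists_prime_orderOf_dvd_card' (G := centralizer ({g} : Set G)) 5 h
    rw [Subgroup.orderOf_mk] at hxo
    exact D.five_commute hp hxo hg (Subgroup.mem_centralizer_singleton_iff.1 hx).symm
  have hd := Subgroup.card_subgroup_dvd_card (centralizer ({g} : Set G))
  rw [D.card_G', show 50232960 = (2 ^ 7 * 5) * (243 * (17 * 19)) by norm_num] at hd
  refine (Nat.Coprime.mul_right ?_ ?_).dvd_of_dvd_mul_left hd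
  · exact ((Nat.prime_two.coprime_iff_not_dvd.2 (D.not_two hp hg)).pow_left 7).symm
  · exact ((show Nat.Prime 5 by norm_num).coprime_iff_not_dvd.2 h5).symm

theorem not_sq {p : ℕ} (hp : p = 17 ∨ p = 19) : ¬p * p ∣ Nat.card G := by
  rw [D.card_G']
  rcases hp with rfl | rfl <;> norm_num

theorem card_of_sylow {p : ℕ} [Fact p.Prime] (hp : p = 17 ∨ p = 19) {H : Subgroup G} (P : Sylow p H)
    (hd : p ∣ Nat.card H) : Nat.card P = p := by
  obtain ⟨n, hn⟩ := IsPGroup.iff_card.1 P.isPGroup'
  have h1 : p ∣ Nat.card P := by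
    have := P.pow_dvd_card_of_pow_dvd_card (n := 1) (by simpa using hd)
    simpa using this
  rcases Nat.lt_or_ge n 2 with h2 | h2
  · interval_cases n
    · rw [hn, pow_zero, Nat.dvd_one] at h1
      exact absurd h1 (Fact.out : p.Prime).ne_one
    · rw [hn, pow_one]
  · refine absurd ?_ (D.not_sq hp)
    have : p ^ 2 ∣ Nat.card P := hn ▸ pow_dvd_pow p h2
    rw [pow_two] at this
    exact this.trans ((Subgroup.card_subgroup_dvd_card _).trans (Subgroup.card_subgroup_dvd_card H))

/-- In the centraliser of an element of order `p` the elements of order `q` form one subgroup. -/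
theorem unique_sub {g g' h : G} {p q : ℕ} (hp : p = 17 ∨ p = 19) (hq : q = 17 ∨ q = 19) (hpq : p ≠ q)
    (hg : orderOf g = p) (hg' : orderOf g' = q) (hc : g' * g = g * g') (hh : h * g = g * h)
    (hh1 : h ^ q = 1) : h ∈ zpowers g' := by
  classical
  haveI : Fact q.Prime := ⟨by rcases hq with rfl | rfl <;> norm_num⟩
  haveI : Fact p.Prime := ⟨by rcases hp with rfl | rfl <;> norm_num⟩
  set C := centralizer ({g} : Set G) with hC
  have hmem : ∀ {c : G}, c ∈ C ↔ c * g = g * c := fun {c} => Subgroup.mem_centralizer_singleton_iff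
  have hqC : q ∣ Nat.card C := by
    have := orderOf_dvd_natCard (⟨g', hmem.2 hc⟩ : C)
    rwa [Subgroup.orderOf_mk, hg'] at this
  obtain ⟨P0⟩ : Nonempty (Sylow q C) := inferInstance
  have hn1 : Nat.card (Sylow q C) % q = 1 := by
    have := card_sylow_modEq_one q C
    rwa [Nat.ModEq, Nat.one_mod_eq_one.2 (Fact.out : q.Prime).ne_one] at this
  have hmul : Nat.card (Sylow q C) * Nat.card (normalizer (P0 : Set C)) = Nat.card C := by
    rw [P0.card_eq_index_normalizer]
    exact Subgroup.index_mul_card _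
  have hgN : (⟨g, hmem.2 rfl⟩ : C) ∈ normalizer (P0 : Set C) := by
    refine Subgroup.mem_normalizer_iff.2 fun y => ?_
    have : (⟨g, hmem.2 rfl⟩ : C) * y * (⟨g, hmem.2 rfl⟩ : C)⁻¹ = y := Subtype.ext (by
      show g * (y : G) * g⁻¹ = y
      rw [← hmem.1 y.2, mul_inv_cancel_right])
    rw [this]
  have hpN : p ∣ Nat.card (normalizer (P0 : Set C)) := by
    have := orderOf_dvd_natCard (⟨_, hgN⟩ : normalizer (P0 : Set C))
    rwa [Subgroup.orderOf_mk, Subgroup.orderOf_mk, hg] at this
  have hd : Nat.card (Sylow q C) * p ∣ 243 * (17 * 19) :=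
    (Nat.mul_dvd_mul_left _ hpN).trans (hmul ▸ D.card_centralizer_dvd hp hg)
  have hd243 : Nat.card (Sylow q C) ∣ 243 := by
    have hcq : Nat.Coprime (Nat.card (Sylow q C)) q := by
      rw [Nat.coprime_comm, (Fact.out : q.Prime).coprime_iff_not_dvd]
      intro h
      rw [Nat.mod_eq_zero_of_dvd h] at hn1  -- the number is one modulo the prime
      exact absurd hn1 (by norm_num)
    refine hcq.dvd_of_dvd_mul_right ((Nat.mul_dvd_mul_iff_right (Fact.out : p.Prime).pos).1 ?_)
    refine hd.trans (dvd_of_eq ?_)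
    rcases hp with rfl | rfl <;> rcases hq with rfl | rfl <;> first | omega | norm_num
  obtain ⟨i, hi, hie⟩ := (Nat.dvd_prime_pow Nat.prime_three).1 (show Nat.card (Sylow q C) ∣ 3 ^ 5 by simpa using hd243)
  have hi0 : i = 0 := by
    rw [hie] at hn1
    rcases hq with rfl | rfl <;> interval_cases i <;> first | rfl | norm_num at hn1
  rw [hi0, pow_zero] at hie
  haveI : Subsingleton (Sylow q C) := (Nat.card_eq_one_iff_unique.1 hie).1
  have hin : ∀ x : C, x ^ q = 1 → x ∈ (P0 : Subgroup C) := fun x hx => by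
    have hz : IsPGroup q (zpowers x) := by
      rintro ⟨y, n, rfl⟩
      refine ⟨1, Subtype.ext ?_⟩
      show (x ^ n) ^ (q ^ 1) = 1
      rw [pow_one, ← zpow_natCast, ← zpow_mul, mul_comm, zpow_mul, zpow_natCast, hx, one_zpow]
    obtain ⟨P, hP⟩ := hz.exists_le_sylow
    exact Subsingleton.elim P P0 ▸ hP (mem_zpowers x)
  have h1 := hin ⟨g', hmem.2 hc⟩ (Subtype.ext (by simpa using hg' ▸ pow_orderOf_eq_one g'))
  have h2 := hin ⟨h, hmem.2 hh⟩ (Subtype.ext (by simpa using hh1))
  have he : zpowers (⟨g', hmem.2 hc⟩ : C) = (P0 : Subgroup C) := Subgroup.eq_of_le_of_card_ge (zpowers_le.2 h1)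
    (by rw [Nat.card_zpowers, Subgroup.orderOf_mk, hg', D.card_of_sylow hq P0 hqC])
  rw [← he] at h2
  obtain ⟨n, hn⟩ := h2
  exact ⟨n, by simpa using congrArg Subtype.val hn⟩

/-- The normaliser of a subgroup of order seventeen or nineteen. -/
theorem norm_data {g : G} {p : ℕ} (hp : p = 17 ∨ p = 19) (hg : orderOf g = p) :
    ∃ k, k ∣ p - 1 ∧
      Nat.card (normalizer ((zpowers g : Subgroup G) : Set G)) = Nat.card (centralizer ({g} : Set G)) * k ∧
      Nat.card (normalizer ((zpowers g : Subgroup G) : Set G)) ∣ 50232960 ∧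
      50232960 / Nat.card (normalizer ((zpowers g : Subgroup G) : Set G)) % p = 1 ∧
      Nat.card (zpowers g).normalizerMonoidHom.range = k ∧ IsCyclic (zpowers g).normalizerMonoidHom.range := by
  classical
  haveI : Fact p.Prime := ⟨by rcases hp with rfl | rfl <;> norm_num⟩
  set X := zpowers g with hX
  set N := normalizer ((X : Subgroup G) : Set G) with hN
  have hXc : Nat.card X = p := by rw [hX, Nat.card_zpowers, hg]
  haveI : IsCyclic X := isCyclic_of_prime_card hXc
  have hfac : (Nat.card G).factorization p = 1 := by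
    have hd : p ∣ Nat.card G := hg ▸ orderOf_dvd_natCard g
    have h1 := (Fact.out : p.Prime).dvd_iff_one_le_factorization Nat.card_pos.ne' |>.1 hd
    have h2 : ¬p ^ 2 ∣ Nat.card G := by rw [pow_two]; exact D.not_sq hp
    rw [(Fact.out : p.Prime).pow_dvd_iff_le_factorization Nat.card_pos.ne'] at h2
    omega
  let P : Sylow p G := Sylow.ofCard X (by rw [hfac, pow_one, hXc])
  have hmod : N.index % p = 1 := by
    have h := card_sylow_modEq_one p G
    rw [P.card_eq_index_normalizer] at h
    rwa [Nat.ModEq, Nat.one_mod_eq_one.2 (Fact.out : p.Prime).ne_one] at h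
  have hNd := N.card_mul_index
  rw [D.card_G'] at hNd
  refine ⟨_, ?_, ?_, Dvd.intro _ hNd, ?_, rfl, ?_⟩
  · have : Nat.card (MulAut X) = p - 1 := by
      rw [IsCyclic.card_mulAut, hXc, Nat.totient_prime Fact.out]
    rw [← this]
    exact Subgroup.card_subgroup_dvd_card _
  · have hle : centralizer ({g} : Set G) ≤ N := fun c hc =>
      mem_normalizer_zpowers (by rw [Subgroup.mem_centralizer_singleton_iff.1 hc, mul_inv_cancel_right]; exact mem_zpowers g)
    have hker : Nat.card X.normalizerMonoidHom.ker = Nat.card (centralizer ({g} : Set G)) := by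
      rw [Subgroup.normalizerMonoidHom_ker, ← Nat.card_congr (Subgroup.subgroupOfEquivOfLe hle).toEquiv]
      congr 2
      ext c
      simp only [Subgroup.mem_subgroupOf, hX, mem_centralizer_zpowers, Subgroup.mem_centralizer_singleton_iff]
    rw [Subgroup.card_eq_card_quotient_mul_card_subgroup X.normalizerMonoidHom.ker,
      Nat.card_congr (QuotientGroup.quotientKerEquivRange X.normalizerMonoidHom).toEquiv, hker, mul_comm]
  · rw [Nat.div_eq_of_eq_mul_right Nat.card_pos hNd.symm]
    exact hmod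
  · haveI : IsCyclic (MulAut X) := by
      haveI : Fact (Nat.card X).Prime := ⟨hXc ▸ Fact.out⟩
      exact isCyclic_of_surjective (IsCyclic.mulAutMulEquiv X).symm.toMonoidHom (MulEquiv.surjective _)
    infer_instance

/-- No element of order seventeen commutes with one of order nineteen. -/
theorem no_pair {g g' : G} (hg : orderOf g = 17) (hg' : orderOf g' = 19) (hc : g' * g = g * g') : False := by
  have key : ∀ {a b : G} {p q : ℕ}, (p = 17 ∨ p = 19) → (q = 17 ∨ q = 19) → p ≠ q → orderOf a = p → orderOf b = q →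
      b * a = a * b → normalizer ((zpowers a : Subgroup G) : Set G) ≤ normalizer ((zpowers b : Subgroup G) : Set G) := by
    intro a b p q hp hq hpq ha hb hab v hv
    have hpr : p.Prime := by rcases hp with rfl | rfl <;> norm_num
    have hm : v * a * v⁻¹ ∈ zpowers a := (Subgroup.mem_normalizer_iff.1 hv a).1 (mem_zpowers a)
    have ha1 : v * a * v⁻¹ ≠ 1 := fun e => by
      rw [conj_eq_one_iff.1 e, orderOf_one] at ha
      exact hpr.one_lt.ne ha
    obtain ⟨n, hn⟩ := mem_zpowers_pow hpr ha hm ha1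
    refine mem_normalizer_zpowers (D.unique_sub hp hq hpq ha hb hab ?_ ?_)
    · have : Commute (v * b * v⁻¹) (v * a * v⁻¹) := by
        show v * b * v⁻¹ * (v * a * v⁻¹) = v * a * v⁻¹ * (v * b * v⁻¹)
        rw [show v * b * v⁻¹ * (v * a * v⁻¹) = v * (b * a) * v⁻¹ by group, hab]
        group
      have h' := (this.zpow_right n).eq
      rwa [show (v * a * v⁻¹) ^ n = a from hn] at h'
    · rw [conj_pow, ← hb, pow_orderOf_eq_one, mul_one, mul_inv_cancel]
  have hNeq : normalizer ((zpowers g : Subgroup G) : Set G) = normalizer ((zpowers g' : Subgroup G) : Set G) :=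
    le_antisymm (key (Or.inl rfl) (Or.inr rfl) (by norm_num) hg hg' hc)
      (key (Or.inr rfl) (Or.inl rfl) (by norm_num) hg' hg hc.symm)
  obtain ⟨k, hk, hN, hNd, hmod, -, -⟩ := D.norm_data (Or.inl rfl) hg
  obtain ⟨k', hk', hN', -, -, -, -⟩ := D.norm_data (Or.inr rfl) hg'
  rw [← hNeq] at hN'
  have hC : 17 * 19 ∣ Nat.card (centralizer ({g} : Set G)) := by
    refine Nat.Coprime.mul_dvd_of_dvd_of_dvd (by norm_num) ?_ ?_
    · have := orderOf_dvd_natCard (⟨g, Subgroup.mem_centralizer_singleton_iff.2 rfl⟩ : centralizer ({g} : Set G))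
      rwa [Subgroup.orderOf_mk, hg] at this
    · have := orderOf_dvd_natCard (⟨g', Subgroup.mem_centralizer_singleton_iff.2 hc⟩ : centralizer ({g} : Set G))
      rwa [Subgroup.orderOf_mk, hg'] at this
  obtain ⟨c, hc'⟩ := hC
  have hd := D.card_centralizer_dvd (Or.inl rfl) hg
  rw [hc', mul_comm 243 (17 * 19)] at hd
  have hd' : c ∣ 3 ^ 5 := by simpa using (Nat.mul_dvd_mul_iff_left (by norm_num : 0 < 17 * 19)).1 hd
  obtain ⟨i, hi, rfl⟩ := (Nat.dvd_prime_pow Nat.prime_three).1 hd'
  obtain ⟨j, hj, rfl⟩ := (Nat.dvd_prime_pow Nat.prime_two).1 (show k ∣ 2 ^ 4 by simpa using hk)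
  have h4 : ¬4 ∣ Nat.card (normalizer ((zpowers g : Subgroup G) : Set G)) := fun h4 => by
    rw [hN'] at h4
    have hc4 : Nat.Coprime 4 (Nat.card (centralizer ({g'} : Set G))) := by
      have := (Nat.prime_two.coprime_iff_not_dvd.2 (D.not_two (Or.inr rfl) hg')).pow_left 2
      norm_num at this
      exact this
    exact absurd ((hc4.dvd_of_dvd_mul_left h4).trans hk') (by norm_num)
  have hj2 : j < 2 := by
    by_contra hcon
    refine h4 ?_
    rw [hN]
    exact dvd_mul_of_dvd_right (pow_dvd_pow 2 (show 2 ≤ j by omega)) _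
  rw [hN, hc'] at hmod
  exact index_seventeen i (by omega) j hj2 hmod

/-- The centraliser has order `p` times a power of three. -/
theorem card_centralizer_form {g : G} {p : ℕ} (hp : p = 17 ∨ p = 19) (hg : orderOf g = p) :
    ∃ i < 6, Nat.card (centralizer ({g} : Set G)) = p * 3 ^ i := by
  set C := centralizer ({g} : Set G)
  have hgC : p ∣ Nat.card C := by
    have := orderOf_dvd_natCard (⟨g, Subgroup.mem_centralizer_singleton_iff.2 rfl⟩ : C)
    rwa [Subgroup.orderOf_mk, hg] at this
  obtain ⟨c, hc⟩ := hgC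
  have hd := D.card_centralizer_dvd hp hg
  have hq : ∀ q, (q = 17 ∨ q = 19) → q ≠ p → ¬q ∣ Nat.card C := by
    intro q hq hne h
    haveI : Fact q.Prime := ⟨by rcases hq with rfl | rfl <;> norm_num⟩
    obtain ⟨⟨g', hg'C⟩, ho⟩ := exists_prime_orderOf_dvd_card' (G := C) q h
    rw [Subgroup.orderOf_mk] at ho
    have hcm := Subgroup.mem_centralizer_singleton_iff.1 hg'C
    rcases hp with rfl | rfl <;> rcases hq with rfl | rfl
    · exact hne rfl
    · exact D.no_pair hg ho hcm
    · exact D.no_pair ho hg hcm.symm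
    · exact hne rfl
  have hd' : c ∣ 3 ^ 5 := by
    rcases hp with rfl | rfl
    · rw [hc, show 243 * (17 * 19) = 17 * (3 ^ 5 * 19) by norm_num] at hd
      refine (Nat.Coprime.symm ((show Nat.Prime 19 by norm_num).coprime_iff_not_dvd.2 fun h =>
        hq 19 (Or.inr rfl) (by norm_num) (hc ▸ dvd_mul_of_dvd_right h 17))).dvd_of_dvd_mul_right
        ((Nat.mul_dvd_mul_iff_left (by norm_num)).1 hd)
    · rw [hc, show 243 * (17 * 19) = 19 * (3 ^ 5 * 17) by norm_num] at hd
      refine (Nat.Coprime.symm ((show Nat.Prime 17 by norm_num).coprime_iff_not_dvd.2 fun h =>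
        hq 17 (Or.inl rfl) (by norm_num) (hc ▸ dvd_mul_of_dvd_right h 19))).dvd_of_dvd_mul_right
        ((Nat.mul_dvd_mul_iff_left (by norm_num)).1 hd)
  obtain ⟨i, hi, rfl⟩ := (Nat.dvd_prime_pow Nat.prime_three).1 hd'
  exact ⟨i, by omega, hc⟩

/-- An element of order seventeen. -/
theorem seventeen {g : G} (hg : orderOf g = 17) :
    Nat.card (centralizer ({g} : Set G)) = 17 ∧ Nat.card (zpowers g).normalizerMonoidHom.range = 8 ∧
      IsCyclic (zpowers g).normalizerMonoidHom.range := by
  obtain ⟨k, hk, hN, hNd, hmod, hr, hcyc⟩ := D.norm_data (Or.inl rfl) hg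
  obtain ⟨i, hi, hC⟩ := D.card_centralizer_form (Or.inl rfl) hg
  rw [hN, hC] at hNd hmod
  norm_num at hk
  rcases solve_seventeen i hi k (Nat.lt_succ_of_le (Nat.le_of_dvd (by norm_num) hk)) hk hNd hmod with ⟨rfl, rfl⟩ | ⟨rfl, rfl⟩
  · exact ⟨by rw [hC]; norm_num, hr, hcyc⟩
  · exfalso
    haveI := hcyc
    obtain ⟨⟨r, v, rfl⟩, hgen⟩ := IsCyclic.exists_generator (α := (zpowers g).normalizerMonoidHom.range)
    have ho := orderOf_eq_card_of_forall_mem_zpowers hgen
    rw [hr] at ho
    replace ho : orderOf ((zpowers g).normalizerMonoidHom v) = 16 :=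
      (Subgroup.orderOf_mk _ _).symm.trans ho
    have hd := orderOf_map_dvd (zpowers g).normalizerMonoidHom v
    rw [ho, ← Subgroup.orderOf_coe] at hd
    obtain ⟨m, hm⟩ := hd
    have hm0 : m ≠ 0 := fun e => by
      rw [e, mul_zero] at hm
      exact (orderOf_pos (v : G)).ne' hm
    have h16 : ((v : G) ^ m) ^ 16 = 1 := by rw [← pow_mul, mul_comm, ← hm, pow_orderOf_eq_one]
    have h8 := D.no_sixteen h16
    rw [← pow_mul] at h8
    have := Nat.le_of_dvd (by omega) (orderOf_dvd_of_pow_eq_one h8)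
    omega

end JT

end Cfsg.Agent.JThreeRecog
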