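import Cfsg.Agent.JThreeRecog.Nineteen

/-!
Self-centralising Sylow subgroups and their automisers.
-/

set_option autoImplicit false
set_option linter.all false

namespace Cfsg.Agent.JThreeRecog

open Subgroup

theorem self_centralizing {G : Type*} [Group G] [Finite G] {X : Subgroup G} {g : G} {p k : ℕ}
    (hX : X = zpowers g) (hg : orderOf g = p) (hC : Nat.card (centralizer ({g} : Set G)) = p)
    (hr : Nat.card (zpowers g).normalizerMonoidHom.range = k)
    (hcyc : IsCyclic (zpowers g).normalizerMonoidHom.range) :
    centralizer (X : Set G) = X ∧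
      ∃ h : (X.subgroupOf (normalizer (X : Set G))).Normal,
        IsCyclic (↥(normalizer (X : Set G)) ⧸ X.subgroupOf _) ∧
        Nat.card (↥(normalizer (X : Set G)) ⧸ X.subgroupOf _) = k := by
  subst hX
  have hle : (zpowers g : Subgroup G) ≤ centralizer ((zpowers g : Subgroup G) : Set G) := fun c hc => by
    obtain ⟨n, rfl⟩ := hc
    exact mem_centralizer_zpowers.2 ((Commute.refl g).zpow_left n).eq
  have hcc : centralizer ((zpowers g : Subgroup G) : Set G) = zpowers g := (Subgroup.eq_of_le_of_card_ge hle (by
    rw [Nat.card_zpowers, hg, ← hC]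
    refine Subgroup.card_le_of_le fun c hc => ?_
    exact Subgroup.mem_centralizer_singleton_iff.2 (mem_centralizer_zpowers.1 hc))).symm
  refine ⟨hcc, Subgroup.normal_in_normalizer, ?_⟩
  have hker : (zpowers g).normalizerMonoidHom.ker =
      (zpowers g).subgroupOf (normalizer ((zpowers g : Subgroup G) : Set G)) := by
    rw [Subgroup.normalizerMonoidHom_ker, hcc]
  let e := (QuotientGroup.quotientMulEquivOfEq hker.symm).trans
    (QuotientGroup.quotientKerEquivRange (zpowers g).normalizerMonoidHom)
  exact ⟨isCyclic_of_surjective e.symm.toMonoidHom e.symm.surjective, (Nat.card_congr e.toEquiv).trans hr⟩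

/-- A generator of a Sylow subgroup of prime order. -/
theorem exists_generator_sylow {G : Type*} [Group G] [Finite G] {p : ℕ} [Fact p.Prime] (X : Sylow p G)
    (h : (Nat.card G).factorization p = 1) : ∃ g : G, (X : Subgroup G) = zpowers g ∧ orderOf g = p := by
  have hc : Nat.card X = p := by rw [X.card_eq_multiplicity, h, pow_one]
  obtain ⟨⟨g, hgX⟩, hg⟩ := exists_prime_orderOf_dvd_card' (G := X) p (dvd_of_eq hc.symm)
  rw [Subgroup.orderOf_mk] at hg
  exact ⟨g, (Subgroup.eq_of_le_of_card_ge (zpowers_le.2 hgX) (by rw [hc, Nat.card_zpowers, hg])).symm, hg⟩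

end Cfsg.Agent.JThreeRecog
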