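import Cfsg.Agent.JThreeRecog.Classes
import Cfsg.Agent.JThreeRecog.Roots
import Cfsg.Agent.Char.Induced
import Cfsg.Agent.Char.Gen

/-!
The seven class functions are generalised characters: they are combinations of induced linear characters.
-/

set_option autoImplicit false
set_option maxRecDepth 100000
set_option linter.all false

namespace Cfsg.Agent.JThreeRecog

open Equiv

/-- The entry of the table. -/
def thTab (i c : ℕ) : ℤ × ℤ := (Data.theta.getD i []).getD c 0

/-- The seven class functions. -/
noncomputable def theta (i : Fin 7) (w : W) : ℂ := toR (thTab i.val (cls w))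

/-- The exponent of a listed position. -/
def expAt (L : List (ℕ × ℕ)) (n : ℕ) : ℕ := ((L.find? fun e => e.1 == n).map Prod.snd).getD 0

/-- The listed positions form a subgroup with a linear character. -/
def subOk (b : Bool) (L : List (ℕ × ℕ)) : Bool :=
  L.any (fun e => e.1 == 0) && decide (L.map Prod.fst).Nodup &&
  L.all (fun e => Nat.blt e.1 1920 && Nat.blt e.2 (expo b) && expAt L e.1 == e.2) &&
  L.all fun a => L.all fun c =>
    (L.map Prod.fst).contains (pos (tmul (dec a.1) (dec c.1))) &&
      expAt L (pos (tmul (dec a.1) (dec c.1))) == (a.2 + c.2) % expo b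

theorem subs_ok : (Data.subs.all fun s => subOk s.1 s.2) = true := by decide +kernel

/-- The listed part of a class, in coordinates. -/
def part (b : Bool) (L : List (ℕ × ℕ)) (c : ℕ) : V :=
  ((L.filter fun e => clsN e.1 == c).map fun e => rootVec b e.2).sum

/-- The scalar attached to a subgroup and a class. -/
def scal (L : List (ℕ × ℕ)) (c : ℕ) : ℤ := ((240 / L.length) * (1920 / Data.sizes.getD c 0) : ℕ)

/-- The coordinates of a combination at a class, for one root. -/
def total (b : Bool) (i c : ℕ) : V :=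
  (((Data.subs.zip (Data.combo.getD i [])).filter fun p => p.1.1 == b).map fun p =>
    (p.2 * scal p.1.2 c) • part p.1.1 p.1.2 c).sum

/-- The comparison with the table. -/
def tableOk (i c : ℕ) : Bool :=
  let a := total true i c
  let d := total false i c
  let t := thTab i c
  decide (a.1 + d.1 = 240 * (t.1 + t.2) ∧ a.2.1 = 0 ∧ a.2.2.1 = 480 * t.2 ∧ a.2.2.2 = -(480 * t.2) ∧ d.2 = 0)

theorem table_ok : ((List.range 7).all fun i => (List.range 16).all fun c => tableOk i c) = true := by
  decide +kernel

theorem size_dvd : ((List.range 16).all fun c =>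
    decide (Data.sizes.getD c 0 * (1920 / Data.sizes.getD c 0) = 1920)) = true := by decide +kernel

theorem len_dvd : (Data.subs.all fun s => decide (s.2.length * (240 / s.2.length) = 240)) = true := by
  decide +kernel

theorem combo_len : ((List.range 7).all fun i => decide ((Data.combo.getD i []).length = Data.subs.length)) = true := by
  decide +kernel

theorem expAt_spec {b : Bool} {L : List (ℕ × ℕ)} (h : subOk b L = true) {n : ℕ}
    (hn : n ∈ L.map Prod.fst) : (n, expAt L n) ∈ L ∧ expAt L n < expo b ∧ n < 1920 := by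
  simp only [subOk, Bool.and_eq_true, List.all_eq_true, beq_iff_eq, Nat.blt_eq] at h
  obtain ⟨e, he, rfl⟩ := List.mem_map.1 hn
  obtain ⟨⟨h1, h2⟩, h3⟩ := h.1.2 e he
  rw [h3]
  exact ⟨he, h2, h1⟩

theorem sub_closed {b : Bool} {L : List (ℕ × ℕ)} (h : subOk b L = true) {v w : W}
    (hv : pos (toT v) ∈ L.map Prod.fst) (hw : pos (toT w) ∈ L.map Prod.fst) :
    pos (toT (v * w)) ∈ L.map Prod.fst ∧
      expAt L (pos (toT (v * w))) = (expAt L (pos (toT v)) + expAt L (pos (toT w))) % expo b := by
  have ev := (expAt_spec h hv).1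
  have ew := (expAt_spec h hw).1
  simp only [subOk, Bool.and_eq_true, List.all_eq_true, List.contains_iff_mem, beq_iff_eq] at h
  have := h.2 _ ev _ ew
  rwa [(dec_eq v).2, (dec_eq w).2, ← toT_mul] at this

theorem sub_one {b : Bool} {L : List (ℕ × ℕ)} (h : subOk b L = true) : pos (toT (1 : W)) ∈ L.map Prod.fst := by
  simp only [subOk, Bool.and_eq_true, List.any_eq_true, beq_iff_eq] at h
  obtain ⟨e, he, h0⟩ := h.1.1.1
  refine List.mem_map.2 ⟨e, he, h0.trans ?_⟩
  rw [toT_one]
  decide +kernel

/-- The subgroup of listed positions. -/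
def subG {b : Bool} {L : List (ℕ × ℕ)} (h : subOk b L = true) : Subgroup W where
  carrier := {w | pos (toT w) ∈ L.map Prod.fst}
  one_mem' := sub_one h
  mul_mem' := fun hv hw => (sub_closed h hv hw).1
  inv_mem' := fun {v} hv => by
    show pos (toT v⁻¹) ∈ L.map Prod.fst
    have hp : ∀ n : ℕ, pos (toT (v ^ n)) ∈ L.map Prod.fst := by
      intro n
      induction n with
      | zero => rw [pow_zero]; exact sub_one h
      | succ n ih => rw [pow_succ]; exact (sub_closed h ih hv).1
    haveI : Finite W := Finite.of_injective toT toT_injective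
    have hfin : IsOfFinOrder v := isOfFinOrder_of_finite v
    rw [show v⁻¹ = v ^ (orderOf v - 1) from inv_eq_of_mul_eq_one_right (by
      rw [← pow_succ', Nat.sub_add_cancel hfin.orderOf_pos, pow_orderOf_eq_one])]
    exact hp _

/-- The linear character. -/
noncomputable def lin {b : Bool} {L : List (ℕ × ℕ)} (h : subOk b L = true) : subG h →* ℂˣ :=
  MonoidHom.mk' (fun w => Units.mk0 (root b ^ expAt L (pos (toT (w : W)))) (pow_ne_zero _ (root_ne b)))
    fun v w => Units.ext (by
      show root b ^ expAt L (pos (toT ((v : W) * w))) = root b ^ _ * root b ^ _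
      rw [(sub_closed h v.2 w.2).2, ← pow_add, ← pow_eq_pow_mod _ (root_pow b)])

variable [Fintype W]

theorem card_subG {b : Bool} {L : List (ℕ × ℕ)} (h : subOk b L = true) : Nat.card (subG h) = L.length := by
  classical
  have hn := h
  simp only [subOk, Bool.and_eq_true, decide_eq_true_eq] at hn
  rw [← List.length_map (f := Prod.fst) (as := L), ← List.toFinset_card_of_nodup hn.1.1.2,
    Nat.card_eq_fintype_card, Fintype.card_subtype]
  refine Finset.card_bij (fun w _ => pos (toT w)) (fun w hw => ?_) (fun a _ c _ e => ?_) (fun n hn => ?_)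
  · exact List.mem_toFinset.2 (Finset.mem_filter.1 hw).2
  · exact toT_injective ((dec_eq a).2.symm.trans ((congrArg dec e).trans (dec_eq c).2))
  · rw [List.mem_toFinset] at hn
    obtain ⟨w, hw⟩ := dec_surj (expAt_spec h hn).2.2
    have hp : pos (toT w) = n := by rw [hw, pos_of_dec (expAt_spec h hn).2.2]
    exact ⟨w, Finset.mem_filter.2 ⟨Finset.mem_univ _, by show pos (toT w) ∈ L.map Prod.fst; rw [hp]; exact hn⟩, hp⟩

theorem conj_sum (g : W) (f : W → ℂ) :
    (Data.sizes.getD (cls g) 0 : ℂ) * ∑ y : W, f (y⁻¹ * g * y) =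
      1920 * ∑ x ∈ Finset.univ.filter (fun x : W => cls x = cls g), f x := by
  classical
  have hcc : Nat.card (Subgroup.centralizer ({g} : Set W)) * Data.sizes.getD (cls g) 0 = 1920 := by
    have := Char.card_isConj_eq_index g
    rw [Nat.card_eq_fintype_card, Fintype.card_subtype,
      Finset.filter_congr (q := fun x => cls x = cls g) (fun x _ => (isConj_iff_cls g x).trans eq_comm),
      card_cls (cls_lt g)] at this
    rw [this, Subgroup.card_mul_index, card_W]
  have hfib : ∀ x ∈ Finset.univ.filter (fun x : W => cls x = cls g),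
      (Finset.univ.filter fun y : W => y⁻¹ * g * y = x).card = Nat.card (Subgroup.centralizer ({g} : Set W)) := by
    intro x hx
    obtain ⟨c, hc⟩ := isConj_iff.1 ((isConj_iff_cls g x).2 (Finset.mem_filter.1 hx).2.symm)
    rw [Nat.card_eq_fintype_card, Fintype.card_subtype]
    refine Finset.card_nbij' (fun y => y * c) (fun a => a * c⁻¹) (fun y hy => ?_) (fun a ha => ?_)
      (fun _ _ => by simp) (fun _ _ => by simp)
    · simp only [Finset.coe_filter, Finset.mem_univ, true_and, Set.mem_ofPred_eq,
        Subgroup.mem_centralizer_singleton_iff] at hy ⊢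
      calc y * c * g = y * (c * g * c⁻¹) * c := by group
        _ = g * (y * c) := by rw [hc, ← hy]; group
    · simp only [Finset.coe_filter, Finset.mem_univ, true_and, Set.mem_ofPred_eq,
        Subgroup.mem_centralizer_singleton_iff] at ha ⊢
      calc (a * c⁻¹)⁻¹ * g * (a * c⁻¹) = c * (a⁻¹ * (g * a)) * c⁻¹ := by group
        _ = x := by rw [← ha, inv_mul_cancel_left, hc]
  rw [← Finset.sum_fiberwise_of_maps_to (g := fun y : W => y⁻¹ * g * y)
    (t := Finset.univ.filter fun x : W => cls x = cls g) (fun y _ => Finset.mem_filter.2 ⟨Finset.mem_univ _, by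
      have := cls_conj y⁻¹ g
      rwa [inv_inv] at this⟩), Finset.mul_sum, Finset.mul_sum]
  refine Finset.sum_congr rfl fun x hx => ?_
  rw [Finset.sum_congr rfl fun y hy => by rw [(Finset.mem_filter.1 hy).2], Finset.sum_const, hfib x hx,
    nsmul_eq_mul, ← mul_assoc, ← Nat.cast_mul, mul_comm (Data.sizes.getD _ _), hcc, Nat.cast_ofNat]

theorem ind_value {b : Bool} {L : List (ℕ × ℕ)} (h : subOk b L = true) (hL : L.length * (240 / L.length) = 240)
    (g : W) :
    (240 : ℂ) * indFun (subG h) (fun w => (lin h w : ℂ)) g =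
      (scal L (cls g) : ℂ) * valV b (part b L (cls g)) := by
  classical
  have hnd := h
  simp only [subOk, Bool.and_eq_true, decide_eq_true_eq] at hnd
  have hcl := cls_lt g
  have hsz := of_decide_eq_true (List.all_eq_true.1 size_dvd _ (List.mem_range.2 hcl))
  set F : W → ℂ := extendByZero (subG h) fun w => (lin h w : ℂ) with hF
  have hsum : ∑ x ∈ Finset.univ.filter (fun x : W => cls x = cls g), F x = valV b (part b L (cls g)) := by
    rw [part, valV_sum, List.map_map]
    rw [show ((L.filter fun e => clsN e.1 == cls g).map (valV b ∘ fun e => rootVec b e.2)).sum =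
        ((L.filter fun e => clsN e.1 == cls g).map fun e => root b ^ e.2).sum by
      refine congrArg List.sum (List.map_congr_left fun e he => ?_)
      refine valV_rootVec b ?_
      obtain ⟨he', -⟩ := List.mem_filter.1 he
      have := List.all_eq_true.1 hnd.1.2 e he'
      simp only [Bool.and_eq_true, Nat.blt_eq] at this
      exact this.1.2]
    rw [← List.sum_toFinset (fun e : ℕ × ℕ => root b ^ e.2) ((List.Nodup.of_map _ hnd.1.1.2).filter _),
      ← Finset.sum_subset (s₁ := Finset.univ.filter fun x : W => cls x = cls g ∧ x ∈ subG h)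
        (fun x hx => by simp at hx ⊢; exact hx.1) (fun x hx hx' => by
          refine Char.extendByZero_of_not_mem _ _ fun hm => hx' ?_
          exact Finset.mem_filter.2 ⟨Finset.mem_univ _, (Finset.mem_filter.1 hx).2, hm⟩)]
    refine Finset.sum_bij (fun x _ => (pos (toT x), expAt L (pos (toT x)))) (fun x hx => ?_) (fun a _ c _ e => ?_)
      (fun e he => ?_) (fun x hx => ?_)
    · obtain ⟨-, hc, hm⟩ := Finset.mem_filter.1 hx
      exact List.mem_toFinset.2 (List.mem_filter.2 ⟨(expAt_spec h hm).1, beq_iff_eq.2 hc⟩)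
    · exact toT_injective ((dec_eq a).2.symm.trans ((congrArg dec (congrArg Prod.fst e)).trans (dec_eq c).2))
    · obtain ⟨he1, he2⟩ := List.mem_filter.1 (List.mem_toFinset.1 he)
      have hm : e.1 ∈ L.map Prod.fst := List.mem_map.2 ⟨e, he1, rfl⟩
      obtain ⟨w, hw⟩ := dec_surj (expAt_spec h hm).2.2
      have hp : pos (toT w) = e.1 := by rw [hw, pos_of_dec (expAt_spec h hm).2.2]
      refine ⟨w, Finset.mem_filter.2 ⟨Finset.mem_univ _, ?_, ?_⟩, ?_⟩
      · rw [cls, clsT, hp]; simpa using he2
      · show pos (toT w) ∈ L.map Prod.fst; rw [hp]; exact hm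
      · rw [hp]
        refine Prod.ext rfl ?_
        have := List.all_eq_true.1 hnd.1.2 e he1
        simp only [Bool.and_eq_true, beq_iff_eq] at this
        exact this.2
    · obtain ⟨-, -, hm⟩ := Finset.mem_filter.1 hx
      rw [hF, Char.extendByZero_of_mem _ _ hm]
      rfl
  have hc := conj_sum g F
  rw [hsum] at hc
  have h1 : ((L.length : ℕ) : ℂ) * ((240 / L.length : ℕ) : ℂ) = 240 := by rw [← Nat.cast_mul, hL, Nat.cast_ofNat]
  have hne : ((L.length : ℕ) : ℂ) ≠ 0 := fun e => by rw [e, zero_mul] at h1; norm_num at h1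
  have h2 : (Data.sizes.getD (cls g) 0 : ℂ) * ((1920 / Data.sizes.getD (cls g) 0 : ℕ) : ℂ) = 1920 := by
    rw [← Nat.cast_mul, hsz, Nat.cast_ofNat]
  have hsne : (Data.sizes.getD (cls g) 0 : ℂ) ≠ 0 := fun e => by rw [e, zero_mul] at h2; norm_num at h2
  rw [Char.indFun_apply, card_subG h, ← h1, scal, Int.cast_natCast, Nat.cast_mul, ← hF,
    show (L.length : ℂ) * ((240 / L.length : ℕ) : ℂ) * ((L.length : ℂ)⁻¹ * ∑ x : W, F (x⁻¹ * g * x)) =
      ((240 / L.length : ℕ) : ℂ) * ∑ x : W, F (x⁻¹ * g * x) by field_simp]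
  refine mul_left_cancel₀ hsne ?_
  linear_combination (((240 / L.length : ℕ)) : ℂ) * hc -
    (((240 / L.length : ℕ)) : ℂ) * valV b (part b L (cls g)) * h2

theorem split_sum : ∀ (P : List ((Bool × List (ℕ × ℕ)) × ℤ)) (f : (Bool × List (ℕ × ℕ)) × ℤ → V),
    (P.map fun p => valV p.1.1 (f p)).sum =
      valV true ((P.filter fun p => p.1.1 == true).map f).sum +
        valV false ((P.filter fun p => p.1.1 == false).map f).sum
  | [], f => by simp [valV_zero]
  | p :: P, f => by
    rw [List.map_cons, List.sum_cons, split_sum P f]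
    cases hb : p.1.1 <;> simp [List.filter_cons, hb, valV_add] <;> ring

theorem list_gen : ∀ (P : List ((Bool × List (ℕ × ℕ)) × ℤ)),
    (∀ p ∈ P, subOk p.1.1 p.1.2 = true ∧ p.1.2.length * (240 / p.1.2.length) = 240) →
    ∃ f : W → ℂ, IsGeneralizedCharacter W f ∧ ∀ g, (240 : ℂ) * f g =
      (P.map fun p => valV p.1.1 ((p.2 * scal p.1.2 (cls g)) • part p.1.1 p.1.2 (cls g))).sum
  | [], _ => ⟨0, Char.isGeneralized_zero, fun g => by simp⟩
  | p :: P, h => by
    obtain ⟨f, hf, hv⟩ := list_gen P fun q hq => h q (List.mem_cons_of_mem _ hq)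
    obtain ⟨h1, h2⟩ := h p List.mem_cons_self
    refine ⟨(p.2 : ℂ) • indFun (subG h1) (fun w => (lin h1 w : ℂ)) + f, Char.isGeneralized_add
      (Char.isGeneralized_intCast_smul _ (Char.isGeneralized_indFun _
        (Char.isGeneralized_of_isCharacter (Char.isCharacter_hom (lin h1))))) hf, fun g => ?_⟩
    rw [List.map_cons, List.sum_cons, valV_smul, ← hv g]
    simp only [Pi.add_apply, Pi.smul_apply, smul_eq_mul]
    push_cast
    linear_combination (p.2 : ℂ) * ind_value h1 h2 g

theorem isGeneralized_theta (i : Fin 7) : IsGeneralizedCharacter W (theta i) := by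
  obtain ⟨f, hf, hv⟩ := list_gen (Data.subs.zip (Data.combo.getD i.val [])) fun p hp =>
    ⟨List.all_eq_true.1 subs_ok _ (List.of_mem_zip hp).1,
      of_decide_eq_true (List.all_eq_true.1 len_dvd _ (List.of_mem_zip hp).1)⟩
  rw [show theta i = f from funext fun g => ?_]
  · exact hf
  refine mul_left_cancel₀ (show (240 : ℂ) ≠ 0 by norm_num) ((hv g).trans ?_).symm
  rw [split_sum]
  have h := List.all_eq_true.1 (List.all_eq_true.1 table_ok _ (List.mem_range.2 i.2)) _
    (List.mem_range.2 (cls_lt g))
  simp only [tableOk, decide_eq_true_eq] at h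
  obtain ⟨h1, h2, h3, h4, h5⟩ := h
  show valV true (total true i.val (cls g)) + valV false (total false i.val (cls g)) = _
  have h1' : ((total true i.val (cls g)).1 : ℂ) + (total false i.val (cls g)).1 =
      240 * ((thTab i.val (cls g)).1 + (thTab i.val (cls g)).2) := by exact_mod_cast congrArg (fun n : ℤ => (n : ℂ)) h1
  simp only [valV, h2, h3, h4, h5, theta, toR, s5, Prod.fst_zero, Prod.snd_zero]
  push_cast
  linear_combination h1'

end Cfsg.Agent.JThreeRecog
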