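import Mathlib

/-!
The data of the search: value at the central involution and the weighted sum of the values on the
two-elements, for each constituent.
-/

set_option autoImplicit false
set_option linter.all false

namespace Cfsg.Agent.JThreeRecog.Search

/-- Value at the involution and weighted two-part sum. -/
abbrev Info : Type := ℤ × ℤ

/-- The triples of values that can occur, in all orders. -/
def triples0 : List (Info × Info × Info) :=
  [((-35,-1229),(-20,-604),(6,298)), ((-35,-1229),(-15,-433),(1,127)), ((-35,-1229),(-10,-342),(-4,36)),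
   ((-35,-1229),(-9,-135),(-5,-171)), ((-35,-1229),(-7,-153),(-7,-153)), ((-35,-1229),(-5,-171),(-9,-135)),
   ((-35,-1229),(-4,36),(-10,-342)), ((-35,-1229),(1,127),(-15,-433)), ((-35,-1229),(6,298),(-20,-604)),
   ((-34,-1102),(-21,-731),(6,298)), ((-34,-1102),(-10,-262),(-5,-171)), ((-34,-1102),(-5,-171),(-10,-262)),
   ((-34,-1102),(6,298),(-21,-731)), ((-32,-1120),(-23,-713),(6,298)), ((-32,-1120),(-18,-542),(1,127)),
   ((-32,-1120),(-15,-433),(-2,18)), ((-32,-1120),(-12,-596),(-5,181)), ((-32,-1120),(-10,-262),(-7,-153)),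
   ((-32,-1120),(-7,-153),(-10,-262)), ((-32,-1120),(-5,181),(-12,-596)), ((-32,-1120),(-2,18),(-15,-433)),
   ((-32,-1120),(1,127),(-18,-542)), ((-32,-1120),(6,298),(-23,-713)), ((-31,-993),(-24,-840),(6,298)),
   ((-31,-993),(-19,-669),(1,127)), ((-31,-993),(-14,-578),(-4,36)), ((-31,-993),(-9,-407),(-9,-135)),
   ((-31,-993),(-9,-135),(-9,-407)), ((-31,-993),(-4,36),(-14,-578)), ((-31,-993),(1,127),(-19,-669)),
   ((-31,-993),(6,298),(-24,-840)), ((-30,-1138),(-25,-695),(6,298)), ((-30,-1138),(-20,-524),(1,127)),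
   ((-30,-1138),(-15,-433),(-4,36)), ((-30,-1138),(-14,-578),(-5,181)), ((-30,-1138),(-10,-262),(-9,-135)),
   ((-30,-1138),(-9,-135),(-10,-262)), ((-30,-1138),(-5,181),(-14,-578)), ((-30,-1138),(-4,36),(-15,-433)),
   ((-30,-1138),(1,127),(-20,-524))]

def triples1 : List (Info × Info × Info) :=
  [((-30,-1138),(6,298),(-25,-695)), ((-30,-786),(-25,-1047),(6,298)), ((-30,-786),(-20,-876),(1,127)),
   ((-30,-786),(-14,-578),(-5,-171)), ((-30,-786),(-12,-596),(-7,-153)), ((-30,-786),(-10,-342),(-9,-407)),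
   ((-30,-786),(-9,-407),(-10,-342)), ((-30,-786),(-7,-153),(-12,-596)), ((-30,-786),(-5,-171),(-14,-578)),
   ((-30,-786),(1,127),(-20,-876)), ((-30,-786),(6,298),(-25,-1047)), ((-27,-1029),(-20,-524),(-2,18)),
   ((-27,-1029),(-18,-542),(-4,36)), ((-27,-1029),(-15,-353),(-7,-153)), ((-27,-1029),(-7,-153),(-15,-353)),
   ((-27,-1029),(-4,36),(-18,-542)), ((-27,-1029),(-2,18),(-20,-524)), ((-25,-1047),(-30,-786),(6,298)),
   ((-25,-1047),(-20,-524),(-4,36)), ((-25,-1047),(-19,-669),(-5,181)), ((-25,-1047),(-15,-353),(-9,-135)),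
   ((-25,-1047),(-14,-226),(-10,-262)), ((-25,-1047),(-10,-262),(-14,-226)), ((-25,-1047),(-9,-135),(-15,-353)),
   ((-25,-1047),(-5,181),(-19,-669)), ((-25,-1047),(-4,36),(-20,-524)), ((-25,-1047),(6,298),(-30,-786)),
   ((-25,-967),(-20,-604),(-4,36)), ((-25,-967),(-17,-415),(-7,-153)), ((-25,-967),(-15,-433),(-9,-135)),
   ((-25,-967),(-14,-226),(-10,-342)), ((-25,-967),(-10,-342),(-14,-226)), ((-25,-967),(-9,-135),(-15,-433)),
   ((-25,-967),(-7,-153),(-17,-415)), ((-25,-967),(-4,36),(-20,-604)), ((-25,-695),(-30,-1138),(6,298)),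
   ((-25,-695),(-22,-858),(-2,18)), ((-25,-695),(-20,-876),(-4,36)), ((-25,-695),(-19,-669),(-5,-171)),
   ((-25,-695),(-15,-433),(-9,-407))]

def triples2 : List (Info × Info × Info) :=
  [((-25,-695),(-9,-407),(-15,-433)), ((-25,-695),(-5,-171),(-19,-669)), ((-25,-695),(-4,36),(-20,-876)),
   ((-25,-695),(-2,18),(-22,-858)), ((-25,-695),(6,298),(-30,-1138)), ((-24,-840),(-31,-993),(6,298)),
   ((-24,-840),(-23,-713),(-2,18)), ((-24,-840),(-21,-731),(-4,36)), ((-24,-840),(-20,-876),(-5,181)),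
   ((-24,-840),(-20,-524),(-5,-171)), ((-24,-840),(-18,-542),(-7,-153)), ((-24,-840),(-15,-433),(-10,-262)),
   ((-24,-840),(-15,-353),(-10,-342)), ((-24,-840),(-10,-342),(-15,-353)), ((-24,-840),(-10,-262),(-15,-433)),
   ((-24,-840),(-7,-153),(-18,-542)), ((-24,-840),(-5,-171),(-20,-524)), ((-24,-840),(-5,181),(-20,-876)),
   ((-24,-840),(-4,36),(-21,-731)), ((-24,-840),(-2,18),(-23,-713)), ((-24,-840),(6,298),(-31,-993)),
   ((-23,-713),(-32,-1120),(6,298)), ((-23,-713),(-24,-840),(-2,18)), ((-23,-713),(-22,-858),(-4,36)),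
   ((-23,-713),(-19,-669),(-7,-153)), ((-23,-713),(-17,-415),(-9,-407)), ((-23,-713),(-14,-226),(-12,-596)),
   ((-23,-713),(-12,-596),(-14,-226)), ((-23,-713),(-9,-407),(-17,-415)), ((-23,-713),(-7,-153),(-19,-669)),
   ((-23,-713),(-4,36),(-22,-858)), ((-23,-713),(-2,18),(-24,-840)), ((-23,-713),(6,298),(-32,-1120)),
   ((-22,-858),(-25,-695),(-2,18)), ((-22,-858),(-23,-713),(-4,36)), ((-22,-858),(-22,-858),(-5,181)),
   ((-22,-858),(-20,-524),(-7,-153)), ((-22,-858),(-18,-542),(-9,-135)), ((-22,-858),(-17,-415),(-10,-262)),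
   ((-22,-858),(-10,-262),(-17,-415))]

def triples3 : List (Info × Info × Info) :=
  [((-22,-858),(-9,-135),(-18,-542)), ((-22,-858),(-7,-153),(-20,-524)), ((-22,-858),(-5,181),(-22,-858)),
   ((-22,-858),(-4,36),(-23,-713)), ((-22,-858),(-2,18),(-25,-695)), ((-21,-731),(-34,-1102),(6,298)),
   ((-21,-731),(-24,-840),(-4,36)), ((-21,-731),(-19,-669),(-9,-135)), ((-21,-731),(-14,-578),(-14,-226)),
   ((-21,-731),(-14,-226),(-14,-578)), ((-21,-731),(-9,-135),(-19,-669)), ((-21,-731),(-4,36),(-24,-840)),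
   ((-21,-731),(6,298),(-34,-1102)), ((-20,-876),(-30,-786),(1,127)), ((-20,-876),(-25,-695),(-4,36)),
   ((-20,-876),(-24,-840),(-5,181)), ((-20,-876),(-20,-524),(-9,-135)), ((-20,-876),(-15,-433),(-14,-226)),
   ((-20,-876),(-14,-226),(-15,-433)), ((-20,-876),(-9,-135),(-20,-524)), ((-20,-876),(-5,181),(-24,-840)),
   ((-20,-876),(-4,36),(-25,-695)), ((-20,-876),(1,127),(-30,-786)), ((-20,-604),(-35,-1229),(6,298)),
   ((-20,-604),(-25,-967),(-4,36)), ((-20,-604),(-20,-524),(-9,-407)), ((-20,-604),(-19,-669),(-10,-262)),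
   ((-20,-604),(-15,-353),(-14,-578)), ((-20,-604),(-14,-578),(-15,-353)), ((-20,-604),(-10,-262),(-19,-669)),
   ((-20,-604),(-9,-407),(-20,-524)), ((-20,-604),(-4,36),(-25,-967)), ((-20,-604),(6,298),(-35,-1229)),
   ((-20,-524),(-30,-1138),(1,127)), ((-20,-524),(-27,-1029),(-2,18)), ((-20,-524),(-25,-1047),(-4,36)),
   ((-20,-524),(-24,-840),(-5,-171)), ((-20,-524),(-22,-858),(-7,-153)), ((-20,-524),(-20,-876),(-9,-135)),
   ((-20,-524),(-20,-604),(-9,-407))]

def triples4 : List (Info × Info × Info) :=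
  [((-20,-524),(-19,-669),(-10,-342)), ((-20,-524),(-17,-415),(-12,-596)), ((-20,-524),(-15,-433),(-14,-578)),
   ((-20,-524),(-14,-578),(-15,-433)), ((-20,-524),(-12,-596),(-17,-415)), ((-20,-524),(-10,-342),(-19,-669)),
   ((-20,-524),(-9,-407),(-20,-604)), ((-20,-524),(-9,-135),(-20,-876)), ((-20,-524),(-7,-153),(-22,-858)),
   ((-20,-524),(-5,-171),(-24,-840)), ((-20,-524),(-4,36),(-25,-1047)), ((-20,-524),(-2,18),(-27,-1029)),
   ((-20,-524),(1,127),(-30,-1138)), ((-19,-669),(-31,-993),(1,127)), ((-19,-669),(-25,-1047),(-5,181)),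
   ((-19,-669),(-25,-695),(-5,-171)), ((-19,-669),(-23,-713),(-7,-153)), ((-19,-669),(-21,-731),(-9,-135)),
   ((-19,-669),(-20,-604),(-10,-262)), ((-19,-669),(-20,-524),(-10,-342)), ((-19,-669),(-15,-433),(-15,-433)),
   ((-19,-669),(-10,-342),(-20,-524)), ((-19,-669),(-10,-262),(-20,-604)), ((-19,-669),(-9,-135),(-21,-731)),
   ((-19,-669),(-7,-153),(-23,-713)), ((-19,-669),(-5,-171),(-25,-695)), ((-19,-669),(-5,181),(-25,-1047)),
   ((-19,-669),(1,127),(-31,-993)), ((-18,-542),(-32,-1120),(1,127)), ((-18,-542),(-27,-1029),(-4,36)),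
   ((-18,-542),(-24,-840),(-7,-153)), ((-18,-542),(-22,-858),(-9,-135)), ((-18,-542),(-17,-415),(-14,-578)),
   ((-18,-542),(-14,-578),(-17,-415)), ((-18,-542),(-9,-135),(-22,-858)), ((-18,-542),(-7,-153),(-24,-840)),
   ((-18,-542),(-4,36),(-27,-1029)), ((-18,-542),(1,127),(-32,-1120)), ((-17,-415),(-25,-967),(-7,-153)),
   ((-17,-415),(-23,-713),(-9,-407))]

def triples5 : List (Info × Info × Info) :=
  [((-17,-415),(-22,-858),(-10,-262)), ((-17,-415),(-20,-524),(-12,-596)), ((-17,-415),(-18,-542),(-14,-578)),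
   ((-17,-415),(-14,-578),(-18,-542)), ((-17,-415),(-12,-596),(-20,-524)), ((-17,-415),(-10,-262),(-22,-858)),
   ((-17,-415),(-9,-407),(-23,-713)), ((-17,-415),(-7,-153),(-25,-967)), ((-15,-433),(-35,-1229),(1,127)),
   ((-15,-433),(-32,-1120),(-2,18)), ((-15,-433),(-30,-1138),(-4,36)), ((-15,-433),(-25,-967),(-9,-135)),
   ((-15,-433),(-25,-695),(-9,-407)), ((-15,-433),(-24,-840),(-10,-262)), ((-15,-433),(-20,-876),(-14,-226)),
   ((-15,-433),(-20,-524),(-14,-578)), ((-15,-433),(-19,-669),(-15,-433)), ((-15,-433),(-15,-433),(-19,-669)),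
   ((-15,-433),(-14,-578),(-20,-524)), ((-15,-433),(-14,-226),(-20,-876)), ((-15,-433),(-10,-262),(-24,-840)),
   ((-15,-433),(-9,-407),(-25,-695)), ((-15,-433),(-9,-135),(-25,-967)), ((-15,-433),(-4,36),(-30,-1138)),
   ((-15,-433),(-2,18),(-32,-1120)), ((-15,-433),(1,127),(-35,-1229)), ((-15,-353),(-27,-1029),(-7,-153)),
   ((-15,-353),(-25,-1047),(-9,-135)), ((-15,-353),(-24,-840),(-10,-342)), ((-15,-353),(-20,-604),(-14,-578)),
   ((-15,-353),(-14,-578),(-20,-604)), ((-15,-353),(-10,-342),(-24,-840)), ((-15,-353),(-9,-135),(-25,-1047)),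
   ((-15,-353),(-7,-153),(-27,-1029)), ((-14,-578),(-31,-993),(-4,36)), ((-14,-578),(-30,-1138),(-5,181)),
   ((-14,-578),(-30,-786),(-5,-171)), ((-14,-578),(-21,-731),(-14,-226)), ((-14,-578),(-20,-604),(-15,-353)),
   ((-14,-578),(-20,-524),(-15,-433))]

def triples6 : List (Info × Info × Info) :=
  [((-14,-578),(-18,-542),(-17,-415)), ((-14,-578),(-17,-415),(-18,-542)), ((-14,-578),(-15,-433),(-20,-524)),
   ((-14,-578),(-15,-353),(-20,-604)), ((-14,-578),(-14,-226),(-21,-731)), ((-14,-578),(-5,-171),(-30,-786)),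
   ((-14,-578),(-5,181),(-30,-1138)), ((-14,-578),(-4,36),(-31,-993)), ((-14,-226),(-25,-1047),(-10,-262)),
   ((-14,-226),(-25,-967),(-10,-342)), ((-14,-226),(-23,-713),(-12,-596)), ((-14,-226),(-21,-731),(-14,-578)),
   ((-14,-226),(-20,-876),(-15,-433)), ((-14,-226),(-15,-433),(-20,-876)), ((-14,-226),(-14,-578),(-21,-731)),
   ((-14,-226),(-12,-596),(-23,-713)), ((-14,-226),(-10,-342),(-25,-967)), ((-14,-226),(-10,-262),(-25,-1047)),
   ((-12,-596),(-32,-1120),(-5,181)), ((-12,-596),(-30,-786),(-7,-153)), ((-12,-596),(-23,-713),(-14,-226)),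
   ((-12,-596),(-20,-524),(-17,-415)), ((-12,-596),(-17,-415),(-20,-524)), ((-12,-596),(-14,-226),(-23,-713)),
   ((-12,-596),(-7,-153),(-30,-786)), ((-12,-596),(-5,181),(-32,-1120)), ((-10,-342),(-35,-1229),(-4,36)),
   ((-10,-342),(-30,-786),(-9,-407)), ((-10,-342),(-25,-967),(-14,-226)), ((-10,-342),(-24,-840),(-15,-353)),
   ((-10,-342),(-20,-524),(-19,-669)), ((-10,-342),(-19,-669),(-20,-524)), ((-10,-342),(-15,-353),(-24,-840)),
   ((-10,-342),(-14,-226),(-25,-967)), ((-10,-342),(-9,-407),(-30,-786)), ((-10,-342),(-4,36),(-35,-1229)),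
   ((-10,-262),(-34,-1102),(-5,-171)), ((-10,-262),(-32,-1120),(-7,-153)), ((-10,-262),(-30,-1138),(-9,-135)),
   ((-10,-262),(-25,-1047),(-14,-226))]

def triples7 : List (Info × Info × Info) :=
  [((-10,-262),(-24,-840),(-15,-433)), ((-10,-262),(-22,-858),(-17,-415)), ((-10,-262),(-20,-604),(-19,-669)),
   ((-10,-262),(-19,-669),(-20,-604)), ((-10,-262),(-17,-415),(-22,-858)), ((-10,-262),(-15,-433),(-24,-840)),
   ((-10,-262),(-14,-226),(-25,-1047)), ((-10,-262),(-9,-135),(-30,-1138)), ((-10,-262),(-7,-153),(-32,-1120)),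
   ((-10,-262),(-5,-171),(-34,-1102)), ((-9,-407),(-31,-993),(-9,-135)), ((-9,-407),(-30,-786),(-10,-342)),
   ((-9,-407),(-25,-695),(-15,-433)), ((-9,-407),(-23,-713),(-17,-415)), ((-9,-407),(-20,-604),(-20,-524)),
   ((-9,-407),(-20,-524),(-20,-604)), ((-9,-407),(-17,-415),(-23,-713)), ((-9,-407),(-15,-433),(-25,-695)),
   ((-9,-407),(-10,-342),(-30,-786)), ((-9,-407),(-9,-135),(-31,-993)), ((-9,-135),(-35,-1229),(-5,-171)),
   ((-9,-135),(-31,-993),(-9,-407)), ((-9,-135),(-30,-1138),(-10,-262)), ((-9,-135),(-25,-1047),(-15,-353)),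
   ((-9,-135),(-25,-967),(-15,-433)), ((-9,-135),(-22,-858),(-18,-542)), ((-9,-135),(-21,-731),(-19,-669)),
   ((-9,-135),(-20,-876),(-20,-524)), ((-9,-135),(-20,-524),(-20,-876)), ((-9,-135),(-19,-669),(-21,-731)),
   ((-9,-135),(-18,-542),(-22,-858)), ((-9,-135),(-15,-433),(-25,-967)), ((-9,-135),(-15,-353),(-25,-1047)),
   ((-9,-135),(-10,-262),(-30,-1138)), ((-9,-135),(-9,-407),(-31,-993)), ((-9,-135),(-5,-171),(-35,-1229)),
   ((-7,-153),(-35,-1229),(-7,-153)), ((-7,-153),(-32,-1120),(-10,-262)), ((-7,-153),(-30,-786),(-12,-596)),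
   ((-7,-153),(-27,-1029),(-15,-353))]

def triples8 : List (Info × Info × Info) :=
  [((-7,-153),(-25,-967),(-17,-415)), ((-7,-153),(-24,-840),(-18,-542)), ((-7,-153),(-23,-713),(-19,-669)),
   ((-7,-153),(-22,-858),(-20,-524)), ((-7,-153),(-20,-524),(-22,-858)), ((-7,-153),(-19,-669),(-23,-713)),
   ((-7,-153),(-18,-542),(-24,-840)), ((-7,-153),(-17,-415),(-25,-967)), ((-7,-153),(-15,-353),(-27,-1029)),
   ((-7,-153),(-12,-596),(-30,-786)), ((-7,-153),(-10,-262),(-32,-1120)), ((-7,-153),(-7,-153),(-35,-1229)),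
   ((-5,-171),(-35,-1229),(-9,-135)), ((-5,-171),(-34,-1102),(-10,-262)), ((-5,-171),(-30,-786),(-14,-578)),
   ((-5,-171),(-25,-695),(-19,-669)), ((-5,-171),(-24,-840),(-20,-524)), ((-5,-171),(-20,-524),(-24,-840)),
   ((-5,-171),(-19,-669),(-25,-695)), ((-5,-171),(-14,-578),(-30,-786)), ((-5,-171),(-10,-262),(-34,-1102)),
   ((-5,-171),(-9,-135),(-35,-1229)), ((-5,181),(-32,-1120),(-12,-596)), ((-5,181),(-30,-1138),(-14,-578)),
   ((-5,181),(-25,-1047),(-19,-669)), ((-5,181),(-24,-840),(-20,-876)), ((-5,181),(-22,-858),(-22,-858)),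
   ((-5,181),(-20,-876),(-24,-840)), ((-5,181),(-19,-669),(-25,-1047)), ((-5,181),(-14,-578),(-30,-1138)),
   ((-5,181),(-12,-596),(-32,-1120)), ((-4,36),(-35,-1229),(-10,-342)), ((-4,36),(-31,-993),(-14,-578)),
   ((-4,36),(-30,-1138),(-15,-433)), ((-4,36),(-27,-1029),(-18,-542)), ((-4,36),(-25,-1047),(-20,-524)),
   ((-4,36),(-25,-967),(-20,-604)), ((-4,36),(-25,-695),(-20,-876)), ((-4,36),(-24,-840),(-21,-731)),
   ((-4,36),(-23,-713),(-22,-858))]

def triples9 : List (Info × Info × Info) :=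
  [((-4,36),(-22,-858),(-23,-713)), ((-4,36),(-21,-731),(-24,-840)), ((-4,36),(-20,-876),(-25,-695)),
   ((-4,36),(-20,-604),(-25,-967)), ((-4,36),(-20,-524),(-25,-1047)), ((-4,36),(-18,-542),(-27,-1029)),
   ((-4,36),(-15,-433),(-30,-1138)), ((-4,36),(-14,-578),(-31,-993)), ((-4,36),(-10,-342),(-35,-1229)),
   ((-2,18),(-32,-1120),(-15,-433)), ((-2,18),(-27,-1029),(-20,-524)), ((-2,18),(-25,-695),(-22,-858)),
   ((-2,18),(-24,-840),(-23,-713)), ((-2,18),(-23,-713),(-24,-840)), ((-2,18),(-22,-858),(-25,-695)),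
   ((-2,18),(-20,-524),(-27,-1029)), ((-2,18),(-15,-433),(-32,-1120)), ((1,127),(-35,-1229),(-15,-433)),
   ((1,127),(-32,-1120),(-18,-542)), ((1,127),(-31,-993),(-19,-669)), ((1,127),(-30,-1138),(-20,-524)),
   ((1,127),(-30,-786),(-20,-876)), ((1,127),(-20,-876),(-30,-786)), ((1,127),(-20,-524),(-30,-1138)),
   ((1,127),(-19,-669),(-31,-993)), ((1,127),(-18,-542),(-32,-1120)), ((1,127),(-15,-433),(-35,-1229)),
   ((6,298),(-35,-1229),(-20,-604)), ((6,298),(-34,-1102),(-21,-731)), ((6,298),(-32,-1120),(-23,-713)),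
   ((6,298),(-31,-993),(-24,-840)), ((6,298),(-30,-1138),(-25,-695)), ((6,298),(-30,-786),(-25,-1047)),
   ((6,298),(-25,-1047),(-30,-786)), ((6,298),(-25,-695),(-30,-1138)), ((6,298),(-24,-840),(-31,-993)),
   ((6,298),(-23,-713),(-32,-1120)), ((6,298),(-21,-731),(-34,-1102)), ((6,298),(-20,-604),(-35,-1229))]

def triples : List (Info × Info × Info) :=
  triples0 ++ triples1 ++ triples2 ++ triples3 ++ triples4 ++ triples5 ++ triples6 ++ triples7 ++ triples8 ++ triples9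

end Cfsg.Agent.JThreeRecog.Search
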