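import Cfsg.Agent.JThreeRecog.Check

/-!
The facts about the model that the character argument uses.
-/

set_option autoImplicit false
set_option maxRecDepth 100000
set_option linter.all false

namespace Cfsg.Agent.JThreeRecog

open scoped ComplexConjugate
open HallJanko Equiv

variable [Fintype W]

theorem toT_pow (w : W) : ∀ n, toT (w ^ n) = tpow (toT w) n
  | 0 => by rw [pow_zero, toT_one]; rfl
  | n + 1 => by rw [pow_succ, toT_mul, toT_pow w n]; rfl

theorem dec_pos (w : W) : dec (pos (toT w)) = toT w := (dec_eq w).2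

theorem zW_central (w : W) : w * zW = zW * w := by
  refine SemidirectProduct.ext ?_ ?_
  · simp only [zW, SemidirectProduct.mul_left, SemidirectProduct.left_inl, SemidirectProduct.right_inl, map_one,
      MulAut.one_apply]
    rw [show permAct w.right M.zM = M.zM from (act_base w.right).hom_zM]
    exact ((by decide +kernel : ∀ m : M, m * M.zM = M.zM * m) w.left)
  · simp [zW]

theorem conj_rep_pow {w : W} {c : ℕ} (hc : cls w = c) {e : ℕ} {t : T} (ht : tpow (repT c) e = t) :
    ∃ g v : W, toT v = t ∧ w ^ e = g * v * g⁻¹ := by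
  obtain ⟨r, hr, hrc⟩ := exists_rep (hc ▸ cls_lt w)
  obtain ⟨g, hg⟩ := isConj_iff.1 ((isConj_iff_cls r w).2 (hrc.trans hc.symm))
  exact ⟨g, r ^ e, by rw [toT_pow, hr, ht], by rw [← hg, conj_pow]⟩

theorem pow_eq_zW {w : W} {c : ℕ} (hc : cls w = c) {e : ℕ} (ht : tpow (repT c) e = tz) : w ^ e = zW := by
  obtain ⟨g, v, hv, he⟩ := conj_rep_pow hc ht
  rw [he, show v = zW from toT_injective (hv.trans toT_zW.symm), zW_central, mul_inv_cancel_right]

theorem theta_support {i : Fin 7} {w : W} (h : theta i w ≠ 0) : ∃ e : ℕ, w ^ e = zW := by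
  have := List.all_eq_true.1 tab_support _ (List.mem_range.2 (cls_lt w))
  simp only [Bool.or_eq_true, List.all_eq_true, beq_iff_eq, decide_eq_true_eq] at this
  rcases this with e | e
  · exfalso
    refine h ?_
    rw [theta, e i.val (List.mem_range.2 i.2)]
    exact toR_zero
  · exact ⟨_, pow_eq_zW rfl e⟩

theorem theta_one (i : Fin 7) : theta i 1 = 0 := by
  have := List.all_eq_true.1 tab_one i.val (List.mem_range.2 i.2)
  simp only [beq_iff_eq] at this
  rw [theta, show cls 1 = clsT tone from congrArg clsT toT_one, this]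
  exact toR_zero

/-- The additive map to the complex numbers. -/
noncomputable def toRHom : ℤ × ℤ →+ ℂ := AddMonoidHom.mk' toR toR_add

theorem sum_theta_mul (i j : Fin 7) : ∑ w : W, theta i w * conj (theta j w) = 1920 * (gram i j : ℂ) := by
  simp only [theta, toR_conj, ← toR_rmul]
  rw [sum_by_cls fun c => toR (rmul (thTab i.val c) (thTab j.val c))]
  have h := congrArg toRHom (tab_gram i j)
  simp only [map_sum, map_nsmul] at h
  refine h.trans ?_
  show toR _ = _
  rw [toR_int]; push_cast; ring

theorem sum_theta (i : Fin 7) : ∑ w : W, theta i w = 1920 * (triv i : ℂ) := by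
  simp only [theta]
  rw [sum_by_cls fun c => toR (thTab i.val c)]
  have h := congrArg toRHom (tab_triv i)
  simp only [map_sum, map_nsmul] at h
  refine h.trans ?_
  show toR _ = _
  rw [toR_int]; push_cast; ring

theorem comb_theta (coef : Fin 7 → ℤ) {c0 : ℕ} {n : ℤ}
    (h : ∀ c < 16, (∑ i : Fin 7, rmul (coef i, 0) (thTab i.val c)) = (if c = c0 then (n, 0) else 0)) (w : W) :
    ∑ i, (coef i : ℂ) * theta i w = if cls w = c0 then (n : ℂ) else 0 := by
  have h1 := congrArg toRHom (h _ (cls_lt w))
  simp only [map_sum] at h1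
  refine Eq.trans (Finset.sum_congr rfl fun i _ => ?_) (h1.trans ?_)
  · show _ = toR _
    rw [toR_rmul, toR_int]; rfl
  · show toR _ = _
    split_ifs
    · exact toR_int n
    · exact toR_zero

theorem theta_V (w : W) : ∑ i, (coefV i : ℂ) * theta i w = if cls w = 15 then (1920 : ℂ) else 0 := by
  rw [comb_theta coefV tab_V]; norm_num

theorem theta_U (w : W) : ∑ i, (coefU i : ℂ) * theta i w = if cls w = 11 then (96 : ℂ) else 0 := by
  rw [comb_theta coefU tab_U]; norm_num

theorem theta_E (w : W) : ∑ i, (coefE i : ℂ) * theta i w = if cls w = 7 then (8 : ℂ) else 0 := by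
  rw [comb_theta coefE tab_E]; norm_num

theorem invol_iff (w : W) : (w * w = 1 ∧ w ≠ 1) ↔ (cls w = 2 ∨ cls w = 5 ∨ cls w = 15) := by
  have := List.all_eq_true.1 cls_sq _ (List.mem_range.2 (dec_eq w).1)
  simp only [Bool.and_eq_true, decide_eq_true_eq, dec_pos] at this
  refine Iff.trans ?_ this.1.1
  rw [← toT_mul, ← toT_one]
  exact and_congr toT_injective.eq_iff.symm (not_congr toT_injective.eq_iff.symm)

theorem root_z_iff (w : W) : w * w = zW ↔ cls w = 11 := by
  have := List.all_eq_true.1 cls_sq _ (List.mem_range.2 (dec_eq w).1)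
  simp only [Bool.and_eq_true, decide_eq_true_eq, dec_pos] at this
  refine Iff.trans ?_ this.1.2
  rw [← toT_mul, ← toT_zW, toT_injective.eq_iff]

theorem no_root_eight {w v : W} (hv : cls v = 7) : w * w ≠ v := by
  intro e
  obtain ⟨r, hr, hrc⟩ := exists_rep (show 7 < 16 by norm_num)
  obtain ⟨g, hg⟩ := isConj_iff.1 ((isConj_iff_cls v r).2 (hv.trans hrc.symm))
  have := List.all_eq_true.1 cls_sq _ (List.mem_range.2 (dec_eq (g * w * g⁻¹)).1)
  simp only [Bool.and_eq_true, decide_eq_true_eq, dec_pos] at this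
  refine this.2 ?_
  rw [← toT_mul, ← hr, ← hg, ← e]
  refine congrArg toT ?_
  group

theorem eight_pow {w : W} (h : cls w = 7) : w ^ 4 = zW := pow_eq_zW h sq_classes.2.2.2.1

theorem four_sq {w : W} (h : cls w = 11 ∨ cls w = 13) : w * w * (w * w) = 1 ∧ w * w ≠ 1 := by
  rcases h with h | h
  · rw [(root_z_iff w).2 h]
    exact ⟨toT_injective (by rw [toT_mul, toT_zW, toT_one]; decide +kernel), fun e =>
      absurd (congrArg toT e) (by rw [toT_zW, toT_one]; decide +kernel)⟩
  · obtain ⟨r, hr, hrc⟩ := exists_rep (show 13 < 16 by norm_num)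
    obtain ⟨g, hg⟩ := isConj_iff.1 ((isConj_iff_cls r w).2 (hrc.trans h.symm))
    have hi : r * r * (r * r) = 1 ∧ r * r ≠ 1 := by
      rw [invol_iff]
      have := of_decide_eq_true sq_classes.1
      show clsT (toT (r * r)) = 2 ∨ clsT (toT (r * r)) = 5 ∨ clsT (toT (r * r)) = 15
      rw [toT_mul, hr]
      tauto
    have e : w * w = g * (r * r) * g⁻¹ := by rw [← hg]; group
    rw [e]
    refine ⟨?_, fun e' => hi.2 (conj_eq_one_iff.1 e')⟩
    rw [show g * (r * r) * g⁻¹ * (g * (r * r) * g⁻¹) = g * (r * r * (r * r)) * g⁻¹ by group, hi.1]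
    group

theorem card_root_z : (Finset.univ.filter fun w : W => w * w = zW).card = 20 := by
  rw [Finset.filter_congr (q := fun w : W => cls w = 11) fun w _ => root_z_iff w, card_cls (by norm_num)]
  rfl

theorem card_root_four {v : W} (hv : cls v = 11) : (Finset.univ.filter fun w : W => w * w = v).card = 12 := by
  classical
  obtain ⟨r, hr, hrc⟩ := exists_rep (show 11 < 16 by norm_num)
  obtain ⟨g, hg⟩ := isConj_iff.1 ((isConj_iff_cls v r).2 (hv.trans hrc.symm))
  rw [← sq_classes.2.2.2.2, ← card_filter fun t => tmul t t == repT 11]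
  refine Finset.card_nbij' (fun w => g * w * g⁻¹) (fun w => g⁻¹ * w * g) (fun w hw => ?_) (fun w hw => ?_)
    (fun _ _ => by group) (fun _ _ => by group)
  · simp only [Finset.coe_filter, Finset.mem_univ, true_and, Set.mem_ofPred_eq, beq_iff_eq] at hw ⊢
    rw [← toT_mul, ← hr, ← hg, ← hw]
    refine congrArg toT ?_
    group
  · simp only [Finset.coe_filter, Finset.mem_univ, true_and, Set.mem_ofPred_eq, beq_iff_eq] at hw ⊢
    rw [← toT_mul, ← hr] at hw
    calc g⁻¹ * w * g * (g⁻¹ * w * g) = g⁻¹ * (w * w) * g := by group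
      _ = v := by rw [toT_injective hw, ← hg]; group

/-- The involutions of the model. -/
def invols : Finset W := Finset.univ.filter fun w => cls w = 2 ∨ cls w = 5 ∨ cls w = 15

theorem mem_invols (w : W) : w ∈ invols ↔ (w * w = 1 ∧ w ≠ 1) := by
  rw [invols, Finset.mem_filter, invol_iff]
  simp

theorem pairs_theta : ∑ u ∈ invols, ∑ v ∈ invols, theta 3 (u * v) = 15200 := by
  classical
  set F : W → ℂ := fun u => ∑ v ∈ invols, theta 3 (u * v) with hF
  have hval : ∀ c : ℕ, c = 2 ∨ c = 5 ∨ c = 15 → ∀ u : W, cls u = c →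
      F u = ((([112, 176, 0] : List ℤ).getD (if c = 2 then 0 else if c = 5 then 1 else 2) 0 : ℤ) : ℂ) := by
    intro c hc u hu
    obtain ⟨r, hr, hrc⟩ := exists_rep (show c < 16 by omega)
    obtain ⟨g, hg⟩ := isConj_iff.1 ((isConj_iff_cls r u).2 (hrc.trans hu.symm))
    have e1 : F u = F r := by
      simp only [hF]
      refine Finset.sum_nbij' (fun v => g⁻¹ * v * g) (fun v => g * v * g⁻¹) (fun v hv => ?_) (fun v hv => ?_)
        (fun _ _ => by group) (fun _ _ => by group) (fun v _ => ?_)
      · simp only [invols, Finset.mem_coe, Finset.mem_filter, Finset.mem_univ, true_and] at hv ⊢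
        have := cls_conj g⁻¹ v
        rw [inv_inv] at this
        rwa [this]
      · simp only [invols, Finset.mem_coe, Finset.mem_filter, Finset.mem_univ, true_and] at hv ⊢
        rwa [cls_conj]
      · simp only [theta]
        rw [← cls_conj g (r * (g⁻¹ * v * g)), show g * (r * (g⁻¹ * v * g)) * g⁻¹ = g * r * g⁻¹ * v by group, hg]
    rw [e1]
    simp only [hF]
    have hp := of_decide_eq_true (List.all_eq_true.1 pair_sum c (by simp; tauto))
    have hp' := congrArg toRHom hp
    rw [map_list_sum, List.map_map, ← List.sum_toFinset _ (List.nodup_range.filter _)] at hp'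
    refine Eq.trans ?_ (hp'.trans (toR_int _))
    refine Finset.sum_bij (fun v _ => pos (toT v)) (fun v hv => ?_) (fun a _ b _ e => ?_) (fun n hn => ?_)
      (fun v hv => ?_)
    · simp only [List.mem_toFinset, List.mem_filter, List.mem_range, Bool.or_eq_true, beq_iff_eq]
      exact ⟨(dec_eq v).1, or_assoc.2 (Finset.mem_filter.1 hv).2⟩
    · exact toT_injective ((dec_pos a).symm.trans ((congrArg dec e).trans (dec_pos b)))
    · simp only [List.mem_toFinset, List.mem_filter, List.mem_range, Bool.or_eq_true, beq_iff_eq] at hn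
      obtain ⟨w, hw⟩ := dec_surj hn.1
      refine ⟨w, Finset.mem_filter.2 ⟨Finset.mem_univ _, ?_⟩, by rw [hw, pos_of_dec hn.1]⟩
      rw [cls, hw, clsT, pos_of_dec hn.1]
      exact or_assoc.1 hn.2
    · show toR (thTab 3 (cls (r * v))) = toR (thTab 3 (clsT (tmul (repT c) (dec (pos (toT v))))))
      rw [dec_pos, ← hr, ← toT_mul]
      rfl
  have hsplit : (∑ u ∈ invols, F u) = ∑ u : W, (fun c => if c = 2 then (112 : ℂ) else if c = 5 then 176 else 0) (cls u) := by
    rw [invols, Finset.sum_filter]
    refine Finset.sum_congr rfl fun u _ => ?_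
    by_cases h2 : cls u = 2
    · rw [if_pos (Or.inl h2), hval 2 (Or.inl rfl) u h2]; norm_num [h2]
    by_cases h5 : cls u = 5
    · rw [if_pos (Or.inr (Or.inl h5)), hval 5 (Or.inr (Or.inl rfl)) u h5]; norm_num [h5]
    by_cases h15 : cls u = 15
    · rw [if_pos (Or.inr (Or.inr h15)), hval 15 (Or.inr (Or.inr rfl)) u h15]; norm_num [h15]
    · rw [if_neg (by tauto)]; norm_num [h2, h5]
  show (∑ u ∈ invols, F u) = 15200
  rw [hsplit, sum_by_cls fun c => if c = 2 then (112 : ℂ) else if c = 5 then 176 else 0]
  simp [Finset.sum_range_succ, Data.sizes]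
  norm_num

/-- The Sylow subgroup of the model. -/
def SW : Subgroup W where
  carrier := {w | inS (1, toP w.right) = true}
  one_mem' := by show inS (1, toP 1) = true; decide +kernel
  mul_mem' := fun {a b} ha hb => syl_mul a.right b.right ha hb
  inv_mem' := fun {a} ha => by
    show inS (1, toP a⁻¹.right) = true
    rw [SemidirectProduct.inv_right]
    exact (by decide +kernel : ∀ σ : A5, inS (1, toP σ) = true → inS (1, toP σ⁻¹) = true) a.right ha

theorem mem_SW (w : W) : w ∈ SW ↔ inS (toT w) = true := Iff.rfl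

theorem card_SW_class (P : ℕ → Bool) :
    (Finset.univ.filter fun w : W => inS (toT w) = true ∧ P (cls w) = true).card =
      ((List.range 1920).filter fun n => inS (dec n) && P (clsN n)).length := by
  refine (congrArg Finset.card (Finset.filter_congr fun w _ => ?_)).trans
    ((card_filter fun t => inS t && P (clsT t)).trans (congrArg List.length (List.filter_congr fun n hn => ?_)))
  · simp [cls]
  · rw [clsT, pos_of_dec (List.mem_range.1 hn)]

theorem cls_eq_zero {w : W} (h : cls w = 0) : w = 1 := by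
  obtain ⟨c, hc⟩ := isConj_iff.1 ((isConj_iff_cls 1 w).2 ((congrArg clsT toT_one).trans syl_count.2.2.2.2.2.1 |>.trans h.symm))
  rw [← hc]; group

/-- A sum over the Sylow subgroup. -/
theorem sum_SW (F : W → ℂ) (a b c d : ℂ) (h1 : F 1 = a)
    (h2 : ∀ w : W, (cls w = 2 ∨ cls w = 5 ∨ cls w = 15) → F w = b)
    (h4 : ∀ w : W, (cls w = 11 ∨ cls w = 13) → F w = c) (h8 : ∀ w : W, cls w = 7 → F w = d) [Fintype SW] :
    ∑ w : SW, F w = a + 35 * b + 44 * c + 48 * d := by
  classical
  rw [← Finset.sum_subtype (Finset.univ.filter fun w : W => inS (toT w) = true) (fun w => by simp [mem_SW]) F]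
  let kind : ℕ → ℕ := fun c => if c = 0 then 0 else if c = 2 ∨ c = 5 ∨ c = 15 then 1 else if c = 11 ∨ c = 13 then 2 else 3
  rw [← Finset.sum_fiberwise_of_maps_to (g := fun w => kind (cls w)) (t := Finset.range 4)
    (fun w _ => Finset.mem_range.2 (by simp only [kind]; split_ifs <;> norm_num))]
  have key : ∀ (k : ℕ) (P : ℕ → Bool) (v : ℂ) (N : ℕ),
      (∀ w : W, inS (toT w) = true → (kind (cls w) = k ↔ P (cls w) = true)) →
      (∀ w : W, P (cls w) = true → F w = v) →
      ((List.range 1920).filter fun n => inS (dec n) && P (clsN n)).length = N →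
      ∑ w ∈ (Finset.univ.filter fun w : W => inS (toT w) = true).filter (fun w => kind (cls w) = k), F w = (N : ℂ) * v := by
    intro k P v N hk hv hN
    rw [Finset.filter_filter, Finset.filter_congr (q := fun w => inS (toT w) = true ∧ P (cls w) = true)
      (fun w _ => and_congr_right fun hw => hk w hw),
      Finset.sum_congr rfl fun w hw => hv w (Finset.mem_filter.1 hw).2.2, Finset.sum_const, card_SW_class, hN,
      nsmul_eq_mul]
  have hcl : ∀ w : W, inS (toT w) = true →
      cls w = 0 ∨ (cls w = 2 ∨ cls w = 5 ∨ cls w = 15) ∨ (cls w = 11 ∨ cls w = 13) ∨ cls w = 7 := by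
    intro w hw
    have := List.all_eq_true.1 syl_classes _ (List.mem_range.2 (dec_eq w).1)
    simp only [dec_pos, hw, Bool.not_true, Bool.false_or, Bool.or_eq_true, beq_iff_eq] at this
    show clsN (pos (toT w)) = 0 ∨ _
    unfold cls clsT
    tauto
  obtain ⟨-, n0, n2, n4, n8, -, -⟩ := syl_count
  simp only [Finset.sum_range_succ, Finset.sum_range_zero, zero_add]
  rw [key 0 (fun c => c == 0) a 1 ?_ ?_ n0, key 1 (fun c => c == 2 || c == 5 || c == 15) b 35 ?_ ?_ n2,
    key 2 (fun c => c == 11 || c == 13) c 44 ?_ ?_ n4, key 3 (fun c => c == 7) d 48 ?_ ?_ n8]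
  · push_cast; ring
  all_goals first
    | (intro w hw
       have e := hcl w hw
       simp only [kind, Bool.or_eq_true, beq_iff_eq]
       split_ifs <;> constructor <;> intro hh <;> (first | exact hh.elim | omega | contradiction | tauto))
    | (intro w hw; simp only [Bool.or_eq_true, beq_iff_eq] at hw
       first
         | (rw [cls_eq_zero hw]; exact h1)
         | exact h2 w (or_assoc.1 hw)
         | exact h4 w hw
         | exact h8 w hw)

theorem card_SW [Fintype SW] : Nat.card SW = 128 := by
  classical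
  rw [Nat.card_eq_fintype_card, Fintype.card_subtype, ← syl_count.1, ← card_filter inS]
  exact congrArg Finset.card (Finset.filter_congr fun w _ => mem_SW w)

end Cfsg.Agent.JThreeRecog
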